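import Cfsg.Agent.Chevalley.NoSub.Spectrum

/-!
Every exponent vector has the same spectrum as one in the fundamental alcove.
-/

set_option autoImplicit false
set_option linter.style.haveILetI false
set_option linter.unusedSectionVars false
set_option maxRecDepth 100000
set_option maxHeartbeats 1000000

namespace Cfsg.Agent.Chevalley.NoSub

open Cfsg.Lie

/-- The reflection in the highest root on root indices. -/
def topRefl : List ℕ := [239, 120, 122, 125, 129, 134, 140, 146, 151, 155, 158, 160, 161, 13, 168, 173, 177, 180, 182, 183, 20, 187, 190, 192, 193, 25, 196, 198, 199, 29, 201, 202, 32, 203, 34, 35, 206, 208, 209, 39, 211, 212, 42, 213, 44, 45, 215, 216, 48, 217, 50, 51, 218, 53, 54, 55, 220, 221, 58, 222, 60, 61, 223, 63, 64, 65, 224, 67, 68, 69, 70, 225, 72, 73, 74, 75, 76, 77, 227, 228, 80, 229, 82, 83, 230, 85, 86, 87, 231, 89, 90, 91, 92, 232, 94, 95, 96, 97, 98, 233, 100, 101, 102, 103, 104, 234, 106, 107, 108, 109, 235,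 111, 112, 113, 236, 115, 116, 237, 118, 238, 1, 121, 2, 123, 124, 3, 126, 127, 128, 4, 130, 131, 132, 133, 5, 135, 136, 137, 138, 139, 6, 141, 142, 143, 144, 145, 7, 147, 148, 149, 150, 8, 152, 153, 154, 9, 156, 157, 10, 159, 11, 12, 162, 163, 164, 165, 166, 167, 14, 169, 170, 171, 172, 15, 174, 175, 176, 16, 178, 179, 17, 181, 18, 19, 184, 185, 186, 21, 188, 189, 22, 191, 23, 24, 194, 195, 26, 197, 27, 28, 200, 30, 31, 33, 204, 205, 36, 207, 37, 38, 210, 40, 41, 43, 214, 46, 47, 49, 52, 219, 56, 57, 59, 62, 66, 71, 226, 78, 79, 81, 84, 88, 93, 99, 105, 110, 114, 117, 119, 0]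

/-- The highest root. -/
def topRoot : Fin 8 → ℤ := ![2, 3, 4, 6, 5, 4, 3, 2]

theorem topRefl_spec : ((List.range 240).all fun s => (List.range 8).all fun j =>
    topRefl.getD s 0 < 240 && (topRefl.getD (topRefl.getD s 0) 0 == s &&
    E8.cert.cf (topRefl.getD s 0) j ==
      E8.cert.cf s j - E8.cert.cf s 7 * [2, 3, 4, 6, 5, 4, 3, 2].getD j 0)) = true := by
  decide +kernel

theorem cartan_table : ((List.range 8).map fun i => (List.range 8).map fun j =>
    chevE8.cartan i (chevE8.simple j)) = [[2, 0, -1, 0, 0, 0, 0, 0], [0, 2, 0, -1, 0, 0, 0, 0],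
      [-1, 0, 2, -1, 0, 0, 0, 0], [0, -1, -1, 2, -1, 0, 0, 0], [0, 0, 0, -1, 2, -1, 0, 0],
      [0, 0, 0, 0, -1, 2, -1, 0], [0, 0, 0, 0, 0, -1, 2, -1], [0, 0, 0, 0, 0, 0, -1, 2]] := by
  decide +kernel

/-- The linear value at a coordinate. -/
noncomputable def lval (v : Fin 8 → ℤ) (x : chevE8.Idx) : ℤ :=
  ∑ j : Fin 8, E8.cert.cfI x j.val * v j

/-- The weighted sum over all coordinates. -/
noncomputable def wsum (l : ℕ) (W : ℕ → ℕ) (v : Fin 8 → ℤ) : ℕ :=
  ∑ x : chevE8.Idx, W (kap l v x)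

theorem wsum_congr_perm {l : ℕ} {v v' : Fin 8 → ℤ} (σ : Equiv.Perm (Fin chevE8.nroots))
    (h : ∀ s, (l : ℤ) ∣ lval v' (.inr s) - lval v (.inr (σ s))) (W : ℕ → ℕ) :
    wsum l W v' = wsum l W v := by
  refine Fintype.sum_equiv (Equiv.sumCongr (Equiv.refl _) σ) _ _ ?_
  rintro (a | s)
  · simp [kap, Chevalley.Cert.cfI]
  · show W (kap l v' (.inr s)) = W (kap l v (.inr (σ s)))
    congr 1
    exact congrArg Int.toNat (Int.emod_eq_emod_iff_emod_sub_eq_zero.2
      (Int.emod_eq_zero_of_dvd (h s)))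

/-- The reflection in a fundamental root. -/
noncomputable def reflI (i : Fin 8) (v : Fin 8 → ℤ) : Fin 8 → ℤ :=
  fun j => v j - v i * chevE8.cartan i.val (chevE8.simple j.val)

/-- The affine reflection in the highest root. -/
noncomputable def reflT (l : ℕ) (v : Fin 8 → ℤ) : Fin 8 → ℤ :=
  fun j => v j - (∑ m, topRoot m * v m - l) * if j.val = 7 then 1 else 0

theorem wsum_reflI (l : ℕ) (W : ℕ → ℕ) (i : Fin 8) (v : Fin 8 → ℤ) :
    wsum l W (reflI i v) = wsum l W v := by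
  let σ : Fin chevE8.nroots → Fin chevE8.nroots := fun s =>
    ⟨E8.cert.w i s, (E8.cert.w_lt i i.isLt s s.isLt).1⟩
  have hσ : Function.Involutive σ := fun s => Fin.ext (E8.cert.w_lt i i.isLt s s.isLt).2
  refine wsum_congr_perm hσ.toPerm (fun s => ?_) W
  have e : lval (reflI i v) (.inr s) = lval v (.inr (σ s)) := by
    have hlin := E8.cert.cartan_lin i i.isLt s s.isLt
    rw [Cfsg.Agent.Chevalley.list_sum_range_map, Finset.sum_range] at hlin
    simp only [lval, reflI, Chevalley.Cert.cfI_inr, σ]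
    calc ∑ j : Fin 8, E8.cert.cf s j * (v j - v i * chevE8.cartan i.val (chevE8.simple j.val))
        = (∑ j : Fin 8, E8.cert.cf s j * v j) - v i * chevE8.cartan i.val s := by
          simp only [mul_sub, Finset.sum_sub_distrib]
          rw [hlin, Finset.mul_sum]
          congr 1
          exact Finset.sum_congr rfl fun j _ => by ring
      _ = ∑ j : Fin 8, (E8.cert.cf s j - if j = i then chevE8.cartan i.val s else 0) * v j := by
          simp only [sub_mul, Finset.sum_sub_distrib, ite_mul, zero_mul, Finset.sum_ite_eq',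
            Finset.mem_univ, if_true]
          ring
      _ = ∑ j : Fin 8, E8.cert.cf (E8.cert.w i s) j * v j :=
          Finset.sum_congr rfl fun j _ => by
            rw [E8.cert.cf_w i i.isLt s s.isLt j j.isLt]
            simp only [Fin.ext_iff]
  show (l : ℤ) ∣ lval (reflI i v) (.inr s) - lval v (.inr (σ s))
  rw [e, sub_self]
  exact dvd_zero _

theorem wsum_reflT (l : ℕ) (W : ℕ → ℕ) (v : Fin 8 → ℤ) :
    wsum l W (reflT l v) = wsum l W v := by
  have h := topRefl_spec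
  simp only [List.all_eq_true, List.mem_range, Bool.and_eq_true, beq_iff_eq, decide_eq_true_eq] at h
  let σ : Fin chevE8.nroots → Fin chevE8.nroots := fun s =>
    ⟨topRefl.getD s.val 0, (h s.val s.isLt 0 (by norm_num)).1⟩
  have hσ : Function.Involutive σ := fun s => Fin.ext (h s.val s.isLt 0 (by norm_num)).2.1
  refine wsum_congr_perm hσ.toPerm (fun s => ?_) W
  refine ⟨E8.cert.cf s 7, ?_⟩
  show lval (reflT l v) (.inr s) - lval v (.inr (σ s)) = _
  simp only [lval, reflT, Chevalley.Cert.cfI_inr, σ]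
  rw [show (∑ j : Fin 8, E8.cert.cf (topRefl.getD s.val 0) j.val * v j)
      = ∑ j : Fin 8, (E8.cert.cf s.val j.val - E8.cert.cf s.val 7 *
        [2, 3, 4, 6, 5, 4, 3, 2].getD j.val 0) * v j from Finset.sum_congr rfl fun j _ => by
      rw [(h s.val s.isLt j.val j.isLt).2.2]]
  simp [Fin.sum_univ_eight, topRoot]
  ring

/-- Eight hundred and forty times the squared distance from the barycentre, as a sum of squares. -/
noncomputable def dist8 (l : ℕ) (v : Fin 8 → ℤ) : ℤ :=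
  105 * (4 * (30 * v 0 - l) + 5 * (30 * v 1 - l) + 7 * (30 * v 2 - l) + 10 * (30 * v 3 - l)
      + 8 * (30 * v 4 - l) + 6 * (30 * v 5 - l) + 4 * (30 * v 6 - l) + 2 * (30 * v 7 - l)) ^ 2
  + 15 * (7 * (30 * v 1 - l) + 5 * (30 * v 2 - l) + 10 * (30 * v 3 - l)
      + 8 * (30 * v 4 - l) + 6 * (30 * v 5 - l) + 4 * (30 * v 6 - l) + 2 * (30 * v 7 - l)) ^ 2
  + 10 * (6 * (30 * v 2 - l) + 5 * (30 * v 3 - l) + 4 * (30 * v 4 - l) + 3 * (30 * v 5 - l)
      + 2 * (30 * v 6 - l) + (30 * v 7 - l)) ^ 2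
  + 14 * (5 * (30 * v 3 - l) + 4 * (30 * v 4 - l) + 3 * (30 * v 5 - l)
      + 2 * (30 * v 6 - l) + (30 * v 7 - l)) ^ 2
  + 21 * (4 * (30 * v 4 - l) + 3 * (30 * v 5 - l) + 2 * (30 * v 6 - l) + (30 * v 7 - l)) ^ 2
  + 35 * (3 * (30 * v 5 - l) + 2 * (30 * v 6 - l) + (30 * v 7 - l)) ^ 2
  + 70 * (2 * (30 * v 6 - l) + (30 * v 7 - l)) ^ 2
  + 210 * (30 * v 7 - l) ^ 2

theorem dist8_nonneg (l : ℕ) (v : Fin 8 → ℤ) : 0 ≤ dist8 l v := by
  unfold dist8
  positivity

theorem dist8_reflI (l : ℕ) (v : Fin 8 → ℤ) (i : Fin 8) :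
    dist8 l (reflI i v) = dist8 l v + 25200 * l * v i := by
  have hc : ∀ a : Fin 8, ∀ b : Fin 8, chevE8.cartan a.val (chevE8.simple b.val) =
      (([[2, 0, -1, 0, 0, 0, 0, 0], [0, 2, 0, -1, 0, 0, 0, 0],
      [-1, 0, 2, -1, 0, 0, 0, 0], [0, -1, -1, 2, -1, 0, 0, 0], [0, 0, 0, -1, 2, -1, 0, 0],
      [0, 0, 0, 0, -1, 2, -1, 0], [0, 0, 0, 0, 0, -1, 2, -1],
      [0, 0, 0, 0, 0, 0, -1, 2]] : List (List ℤ)).getD a.val []).getD b.val 0 := by
    intro a b
    rw [← cartan_table]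
    simp [List.getD_eq_getElem?_getD]
  simp only [dist8, reflI, hc]
  fin_cases i <;> simp <;> ring

theorem dist8_reflT (l : ℕ) (v : Fin 8 → ℤ) :
    dist8 l (reflT l v) = dist8 l v - 25200 * l * (∑ m, topRoot m * v m - l) := by
  simp [dist8, reflT, topRoot, Fin.sum_univ_eight]
  ring

/-- Every vector has the spectrum of a vector in the alcove. -/
theorem exists_alcove {l : ℕ} (hl : 0 < l) (v : Fin 8 → ℤ) :
    ∃ u : Fin 8 → ℤ, (∀ i, 0 ≤ u i) ∧ ∑ m, topRoot m * u m ≤ l ∧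
      ∀ W, wsum l W u = wsum l W v := by
  suffices ∀ N : ℕ, ∀ v, (dist8 l v).toNat = N → ∃ u : Fin 8 → ℤ, (∀ i, 0 ≤ u i) ∧
      ∑ m, topRoot m * u m ≤ l ∧ ∀ W, wsum l W u = wsum l W v from this _ v rfl
  intro N
  induction N using Nat.strong_induction_on with
  | _ N ih =>
    intro v hN
    have hl' : (0 : ℤ) < l := by exact_mod_cast hl
    by_cases hneg : ∃ i, v i < 0
    · obtain ⟨i, hi⟩ := hneg
      have h1 := dist8_reflI l v i
      have h2 := dist8_nonneg l (reflI i v)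
      have h3 : 25200 * (l : ℤ) * v i < 0 := mul_neg_of_pos_of_neg (by positivity) hi
      obtain ⟨u, hu, ht, hW⟩ := ih _ (by omega) (reflI i v) rfl
      exact ⟨u, hu, ht, fun W => (hW W).trans (wsum_reflI l W i v)⟩
    · push Not at hneg
      by_cases htop : ∑ m, topRoot m * v m ≤ (l : ℤ)
      · exact ⟨v, hneg, htop, fun W => rfl⟩
      · have h1 := dist8_reflT l v
        have h2 := dist8_nonneg l (reflT l v)
        have h3 : 0 < 25200 * (l : ℤ) * (∑ m, topRoot m * v m - l) :=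
          mul_pos (by positivity) (by omega)
        obtain ⟨u, hu, ht, hW⟩ := ih _ (by omega) (reflT l v) rfl
        exact ⟨u, hu, ht, fun W => (hW W).trans (wsum_reflT l W v)⟩

theorem wsum_smul {l : ℕ} (hl : 0 < l) (k : ℕ) (W : ℕ → ℕ) (v : Fin 8 → ℤ) :
    wsum l W (fun j => (k : ℤ) * v j) = wsum l (fun a => W (k * a % l)) v := by
  refine Finset.sum_congr rfl fun x _ => ?_
  congr 1
  have e : (∑ j : Fin 8, E8.cert.cfI x j.val * ((k : ℤ) * v j))
      = (k : ℤ) * ∑ j : Fin 8, E8.cert.cfI x j.val * v j := by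
    rw [Finset.mul_sum]
    exact Finset.sum_congr rfl fun j _ => by ring
  unfold kap
  rw [e]
  have h0 := Int.emod_nonneg (∑ j : Fin 8, E8.cert.cfI x j.val * v j) (by omega : (l : ℤ) ≠ 0)
  have h1 := Int.emod_nonneg ((k : ℤ) * ∑ j : Fin 8, E8.cert.cfI x j.val * v j)
    (by omega : (l : ℤ) ≠ 0)
  apply Int.ofNat_inj.1
  rw [Int.natCast_emod, Int.natCast_mul, Int.toNat_of_nonneg h0, Int.toNat_of_nonneg h1,
    Int.mul_emod ((k : ℕ) : ℤ) (_ % (l : ℤ)), Int.emod_emod, ← Int.mul_emod]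

end Cfsg.Agent.Chevalley.NoSub
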