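import Cfsg.Agent.H83.SimpleTrace
import Mathlib.LinearAlgebra.Matrix.Rank

/-!
Ranks of idempotents of a group algebra in a representation, in terms of a separated family of
representations with full span which has as many members as there are regular classes.
-/

set_option linter.style.haveILetI false
set_option autoImplicit false

namespace Cfsg.Agent.Chevalley.NoSub

open MonoidAlgebra Cfsg.Agent.BlockBasic Cfsg.Agent.H83.SimpleTrace
open Matrix (mulVec_mulVec mulVecLin_apply zero_mulVec)
open scoped Matrix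

theorem rank_add_of_orthogonal {n k : Type*} [Fintype n] [DecidableEq n] [Field k]
    {P Q : Matrix n n k} (hP : P * P = P) (hQ : Q * Q = Q) (hPQ : P * Q = 0) (hQP : Q * P = 0) :
    (P + Q).rank = P.rank + Q.rank := by
  simp only [Matrix.rank]
  have h1 : LinearMap.range (P + Q).mulVecLin
      = LinearMap.range P.mulVecLin ⊔ LinearMap.range Q.mulVecLin := by
    refine le_antisymm ?_ (sup_le ?_ ?_)
    · rintro _ ⟨v, rfl⟩
      rw [Matrix.mulVecLin_add, LinearMap.add_apply]
      exact Submodule.add_mem_sup ⟨v, rfl⟩ ⟨v, rfl⟩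
    · rintro _ ⟨v, rfl⟩
      refine ⟨P *ᵥ v, ?_⟩
      simp only [mulVecLin_apply, mulVec_mulVec, add_mul, hP, hQP, add_zero]
    · rintro _ ⟨v, rfl⟩
      refine ⟨Q *ᵥ v, ?_⟩
      simp only [mulVecLin_apply, mulVec_mulVec, add_mul, hQ, hPQ, zero_add]
  have h2 : LinearMap.range P.mulVecLin ⊓ LinearMap.range Q.mulVecLin = ⊥ := by
    rw [Submodule.eq_bot_iff]
    rintro x ⟨⟨v, rfl⟩, ⟨u, hu⟩⟩
    simp only [mulVecLin_apply] at hu ⊢
    calc P *ᵥ v = P *ᵥ (P *ᵥ v) := by rw [mulVec_mulVec, hP]
      _ = P *ᵥ (Q *ᵥ u) := by rw [hu]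
      _ = 0 := by rw [mulVec_mulVec, hPQ, zero_mulVec]
  have h3 := Submodule.finrank_sup_add_finrank_inf_eq (LinearMap.range P.mulVecLin)
    (LinearMap.range Q.mulVecLin)
  rw [h2, finrank_bot, add_zero] at h3
  rw [h1, h3]

variable {p : ℕ} [hp : Fact p.Prime] {k : Type*} [Field k] {G : Type*} [Group G] [Fintype G]

/-- A matrix representation takes trace zero at nilpotent elements. -/
theorem trace_nilpotent {m : Type*} [Fintype m] [DecidableEq m]
    (φ : MonoidAlgebra k G →ₐ[k] Matrix m m k) {z : MonoidAlgebra k G} (hz : IsNilpotent z) :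
    Matrix.trace (φ z) = 0 :=
  IsNilpotent.eq_zero (Matrix.isNilpotent_trace_of_isNilpotent (hz.map φ))

/-- Traces only depend on regular parts. -/
theorem trace_pReg (hk : (p : k) = 0) {m : Type*} [Fintype m] [DecidableEq m]
    (φ : MonoidAlgebra k G →ₐ[k] Matrix m m k) (g : G) :
    Matrix.trace (φ (single g 1)) = Matrix.trace (φ (single (pReg (p := p) g) 1)) := by
  haveI : CharP k p := (CharP.charP_iff_prime_eq_zero hp.out).2 hk
  obtain ⟨j, hj⟩ := exists_orderOf_pPart (p := p) g
  let ev : Polynomial k →ₐ[k] MonoidAlgebra k G :=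
    Polynomial.aeval (single (pPart (p := p) g) (1 : k))
  have hnil : IsNilpotent (single (pPart (p := p) g) (1 : k) - 1) := by
    refine ⟨p ^ j, ?_⟩
    have h : ((Polynomial.X : Polynomial k) - 1) ^ p ^ j = Polynomial.X ^ p ^ j - 1 := by
      rw [sub_pow_char_pow, one_pow]
    have h' := congrArg ev h
    simp only [ev, map_pow, map_sub, Polynomial.aeval_X, map_one] at h'
    rw [h', single_pow, one_pow, ← hj, pow_orderOf_eq_one, ← one_def, sub_self]
  have hcomm : Commute (single (pPart (p := p) g) (1 : k) - 1) (single (pReg (p := p) g) 1) := by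
    refine Commute.sub_left ?_ (Commute.one_left _)
    rw [Commute, SemiconjBy, single_mul_single, single_mul_single, (commute_pPart_pReg g).eq]
  have h0 := trace_nilpotent φ (hcomm.isNilpotent_mul_right hnil)
  rwa [sub_mul, one_mul, single_mul_single, mul_one, pPart_mul_pReg, map_sub, Matrix.trace_sub,
    sub_eq_zero] at h0

variable {S : Type*} [Fintype S] [DecidableEq S] {ι : S → Type*} [∀ s, Fintype (ι s)]
  [∀ s, DecidableEq (ι s)]

/-- A separated family of representations with full span, one for each regular class. -/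
structure Family (p : ℕ) [Fact p.Prime] (k : Type*) [Field k] (G : Type*) [Group G] [Fintype G]
    {S : Type*} [Fintype S] (ι : S → Type*) [∀ s, Fintype (ι s)] [∀ s, DecidableEq (ι s)] where
  rep : ∀ s, MonoidAlgebra k G →ₐ[k] Matrix (ι s) (ι s) k
  pt : ∀ s, ι s
  surj : ∀ s, Function.Surjective (rep s)
  sep : ∀ s s', s ≠ s' → ∃ z, (rep s z = 0 ∧ rep s' z ≠ 0) ∨ (rep s' z = 0 ∧ rep s z ≠ 0)
  cls : G → S
  cls_spec : ∀ g h, ¬ p ∣ orderOf g → ¬ p ∣ orderOf h → cls g = cls h → IsConj g h

namespace Family

variable (Φ : Family p k G ι)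

set_option linter.unusedSectionVars false

/-- The combined map. -/
noncomputable def pi : MonoidAlgebra k G →ₐ[k] ∀ s, Matrix (ι s) (ι s) k :=
  Pi.algHom k _ Φ.rep

theorem pi_apply (z : MonoidAlgebra k G) (s : S) : Φ.pi z s = Φ.rep s z := rfl


/-- The kernel of one representation is everything or nothing in another. -/
theorem exists_one_zero {s s' : S} (h : s ≠ s') : ∃ z, Φ.rep s z = 1 ∧ Φ.rep s' z = 0 := by
  classical
  have main : ∀ a b : S, ∀ z, Φ.rep b z = 0 → Φ.rep a z ≠ 0 →
      ∃ w, Φ.rep a w = 1 ∧ Φ.rep b w = 0 := by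
    intro a b z hb ha
    obtain ⟨i, j, hij⟩ : ∃ i j, Φ.rep a z i j ≠ 0 := by
      by_contra hc
      push Not at hc
      exact ha (Matrix.ext hc)
    choose L hL using fun r => Φ.surj a (Matrix.single r i (1 : k))
    choose R hR using fun r => Φ.surj a (Matrix.single j r ((Φ.rep a z i j)⁻¹ : k))
    refine ⟨∑ r, L r * z * R r, ?_, ?_⟩
    · rw [map_sum]
      simp only [map_mul, hL, hR]
      rw [← Matrix.sum_single_one]
      refine Finset.sum_congr rfl fun r _ => ?_
      rw [Matrix.single_mul_mul_single, one_mul, mul_inv_cancel₀ hij]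
    · simp [map_sum, hb]
  obtain ⟨z, hz | hz⟩ := Φ.sep s s' h
  · obtain ⟨w, hw1, hw0⟩ := main s' s z hz.1 hz.2
    exact ⟨1 - w, by rw [map_sub, map_one, hw0, sub_zero], by rw [map_sub, map_one, hw1, sub_self]⟩
  · exact main s s' z hz.1 hz.2

theorem pi_surjective : Function.Surjective Φ.pi := by
  classical
  have key : ∀ s, ∀ T : Finset S, s ∉ T → ∃ z, Φ.rep s z = 1 ∧ ∀ t ∈ T, Φ.rep t z = 0 := by
    intro s T
    induction T using Finset.induction with
    | empty => exact fun _ => ⟨1, map_one _, fun t ht => absurd ht (Finset.notMem_empty _)⟩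
    | insert a T ha ih =>
      intro hs
      rw [Finset.mem_insert, not_or] at hs
      obtain ⟨z, hz1, hz0⟩ := ih hs.2
      obtain ⟨w, hw1, hw0⟩ := Φ.exists_one_zero hs.1
      refine ⟨z * w, by rw [map_mul, hz1, hw1, mul_one], fun t ht => ?_⟩
      rcases Finset.mem_insert.1 ht with rfl | ht
      · rw [map_mul, hw0, mul_zero]
      · rw [map_mul, hz0 t ht, zero_mul]
  intro y
  choose e he1 he0 using fun s => key s (Finset.univ.erase s) (Finset.notMem_erase s _)
  choose b hb using fun s => Φ.surj s (y s)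
  refine ⟨∑ s, e s * b s, funext fun t => ?_⟩
  rw [Φ.pi_apply, map_sum, Finset.sum_eq_single t]
  · rw [map_mul, he1, one_mul, hb]
  · intro s _ hst
    rw [map_mul, he0 s t (Finset.mem_erase.2 ⟨Ne.symm hst, Finset.mem_univ _⟩), zero_mul]
  · exact fun h => absurd (Finset.mem_univ _) h

include Φ in
theorem independent {a : S → k} (h : ∀ g, ∑ s, a s * Matrix.trace (Φ.rep s (single g 1)) = 0) :
    a = 0 := by
  classical
  have hall : ∀ z, ∑ s, a s * Matrix.trace (Φ.rep s z) = 0 := by
    intro z
    induction z using MonoidAlgebra.induction_linear with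
    | zero => simp
    | add z w hz hw =>
      simp only [map_add, Matrix.trace_add, mul_add, Finset.sum_add_distrib, hz, hw, add_zero]
    | single g r =>
      have hs : (single g r : MonoidAlgebra k G) = r • single g 1 := by simp
      simp only [hs, map_smul, Matrix.trace_smul, smul_eq_mul, ← mul_assoc, mul_comm _ r]
      simp only [mul_assoc, ← Finset.mul_sum, h g, mul_zero]
  funext t
  obtain ⟨z, hz⟩ := Φ.pi_surjective (Pi.single t (Matrix.single (Φ.pt t) (Φ.pt t) 1))
  have h1 := hall z
  rw [Finset.sum_eq_single t (fun s _ hs => by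
      rw [← Φ.pi_apply, hz, Pi.single_eq_of_ne hs, Matrix.trace_zero, mul_zero])
    (fun h => absurd (Finset.mem_univ _) h), ← Φ.pi_apply, hz, Pi.single_eq_same,
    Matrix.trace_single_eq_same, mul_one] at h1
  exact h1

/-- The kernel of the combined map consists of nilpotent elements. -/
theorem ker_nilpotent [IsAlgClosed k] (hk : (p : k) = 0) {z : MonoidAlgebra k G}
    (hz : Φ.pi z = 0) : IsNilpotent z := by
  classical
  obtain ⟨W⟩ := exists_model (k := k) (G := G)
  refine W.nil z ?_
  let R := {g : G // ¬ p ∣ orderOf g}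
  have hreg : ∀ g : G, ¬ p ∣ orderOf (pReg (p := p) g) := fun g => not_dvd_orderOf_pReg g
  have hclass : ∀ {m : Type} [Fintype m] [DecidableEq m]
      (φ : MonoidAlgebra k G →ₐ[k] Matrix m m k) (g h : G), IsConj g h →
      Matrix.trace (φ (single g 1)) = Matrix.trace (φ (single h 1)) := by
    intro m _ _ φ g h hgh
    obtain ⟨x, rfl⟩ := isConj_iff.1 hgh
    rw [show (single (x * g * x⁻¹) (1 : k)) = single x 1 * single g 1 * single x⁻¹ 1 by
      rw [single_mul_single, single_mul_single]; simp, map_mul, map_mul, Matrix.trace_mul_cycle,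
      ← map_mul, ← map_mul, single_mul_single, single_mul_single]
    simp
  -- every trace is a combination of the traces of the family
  have hspan : ∀ i : Fin W.num, ∃ a : S → k, ∀ g,
      W.tr i (single g 1) = ∑ s, a s * Matrix.trace (Φ.rep s (single g 1)) := by
    intro i
    let f : S → (S → k) := fun s c =>
      if h : ∃ g : R, Φ.cls g.1 = c then Matrix.trace (Φ.rep s (single h.choose.1 1)) else 0
    have hf : ∀ (g : R) s, f s (Φ.cls g.1) = Matrix.trace (Φ.rep s (single g.1 1)) := by
      intro g s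
      have hex : ∃ g' : R, Φ.cls g'.1 = Φ.cls g.1 := ⟨g, rfl⟩
      simp only [f, dif_pos hex]
      have hc := Φ.cls_spec _ _ hex.choose.2 g.2 hex.choose_spec
      generalize hex.choose = g' at hc ⊢
      obtain ⟨x, hx⟩ := isConj_iff.1 hc
      rw [← hx, show (single (x * g'.1 * x⁻¹) (1 : k)) =
        single x 1 * single g'.1 1 * single x⁻¹ 1 by
        rw [single_mul_single, single_mul_single]; simp, map_mul, map_mul, Matrix.trace_mul_cycle,
        ← map_mul, ← map_mul, single_mul_single, single_mul_single]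
      simp
    have hli : LinearIndependent k f := by
      refine Fintype.linearIndependent_iff.2 fun a ha => congrFun (Φ.independent (a := a) fun g => ?_)
      have h1 := congrFun ha (Φ.cls (pReg (p := p) g))
      simp only [Finset.sum_apply, Pi.smul_apply, smul_eq_mul, Pi.zero_apply,
        hf ⟨_, hreg g⟩] at h1
      simpa only [← trace_pReg hk] using h1
    have hsp : Submodule.span k (Set.range f) = ⊤ :=
      hli.span_eq_top_of_card_eq_finrank' (by rw [Module.finrank_fintype_fun_eq_card])
    let c : S → k := fun t =>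
      if h : ∃ g : R, Φ.cls g.1 = t then W.tr i (single h.choose.1 1) else 0
    obtain ⟨a, ha⟩ := (Submodule.mem_span_range_iff_exists_fun k).1
      (show c ∈ Submodule.span k (Set.range f) by rw [hsp]; trivial)
    refine ⟨a, fun g => ?_⟩
    have hgr : W.tr i (single g 1) = c (Φ.cls (pReg (p := p) g)) := by
      have hex : ∃ g' : R, Φ.cls g'.1 = Φ.cls (pReg (p := p) g) := ⟨⟨_, hreg g⟩, rfl⟩
      simp only [c, dif_pos hex]
      rw [W.tr_pReg hk i g]
      have hc := Φ.cls_spec _ _ hex.choose.2 (hreg g) hex.choose_spec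
      generalize hex.choose = g' at hc ⊢
      obtain ⟨x, hx⟩ := isConj_iff.1 hc
      rw [← hx, W.tr_conj]
    rw [hgr, ← ha, Finset.sum_apply]
    refine Finset.sum_congr rfl fun s _ => ?_
    rw [Pi.smul_apply, smul_eq_mul, hf ⟨_, hreg g⟩, ← trace_pReg hk]
  funext i
  ext x y
  obtain ⟨w, hw⟩ := W.exists_preimage_single i y x
  obtain ⟨a, ha⟩ := hspan i
  have hall : ∀ u, W.tr i u = ∑ s, a s * Matrix.trace (Φ.rep s u) := by
    intro u
    induction u using MonoidAlgebra.induction_linear with
    | zero => simp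
    | add u v hu hv =>
      simp only [map_add, Matrix.trace_add, mul_add, Finset.sum_add_distrib, hu, hv]
    | single g r =>
      have hs : (single g r : MonoidAlgebra k G) = r • single g 1 := by simp
      simp only [hs, map_smul, ha, Matrix.trace_smul, smul_eq_mul, Finset.mul_sum]
      exact Finset.sum_congr rfl fun s _ => by ring
  have h1 := hall (z * w)
  rw [W.tr_apply, map_mul, hw, Pi.mul_apply, Pi.single_eq_same, Matrix.trace_mul_comm,
    Matrix.trace_single_mul] at h1
  simpa [← Φ.pi_apply, hz] using h1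

end Family

end Cfsg.Agent.Chevalley.NoSub
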