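import Cfsg.Agent.Chevalley.NoSub.BrauerMult
import Mathlib.RingTheory.Idempotents

/-!
Every representation ranks an idempotent as a natural combination of the ranks in the family.
-/

set_option linter.style.haveILetI false
set_option linter.unusedSectionVars false
set_option autoImplicit false

namespace Cfsg.Agent.Chevalley.NoSub

open MonoidAlgebra
open scoped Matrix

variable {p : ℕ} [hp : Fact p.Prime] {k : Type*} [Field k] {G : Type*} [Group G] [Fintype G]
variable {S : Type*} [Fintype S] [DecidableEq S] {ι : S → Type*} [∀ s, Fintype (ι s)]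
  [∀ s, DecidableEq (ι s)]

/-- A nonzero idempotent matrix splits off an idempotent equivalent to an elementary one. -/
theorem exists_rank_one {n : Type*} [Fintype n] [DecidableEq n] {E : Matrix n n k}
    (hE : E * E = E) (h0 : E ≠ 0) (o : n) :
    ∃ P A B : Matrix n n k, E * P = P ∧ P * E = P ∧ P * P = P ∧
      P = A * Matrix.single o o 1 * B ∧ Matrix.single o o 1 = B * P * A := by
  obtain ⟨i, j, hij⟩ : ∃ i j, E i j ≠ 0 := by
    by_contra hc
    push Not at hc
    exact h0 (Matrix.ext hc)
  set u : n → k := fun r => E r j with hu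
  set φ : n → k := fun c => E i c * (E i j)⁻¹ with hφ
  have hEu : E *ᵥ u = u := funext fun r => congrFun (congrFun hE r) j
  have hφE : φ ᵥ* E = φ := funext fun c => by
    show ∑ r, φ r * E r c = φ c
    have h1 : ∑ r, E i r * E r c = E i c := congrFun (congrFun hE i) c
    simp only [hφ, mul_right_comm _ (E i j)⁻¹, ← Finset.sum_mul, h1]
  have hφu : φ ⬝ᵥ u = 1 := by
    show ∑ r, E i r * (E i j)⁻¹ * E r j = 1
    have h1 : ∑ r, E i r * E r j = E i j := congrFun (congrFun hE i) j
    simp only [mul_right_comm _ (E i j)⁻¹, ← Finset.sum_mul, h1, mul_inv_cancel₀ hij]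
  set d : n → k := Pi.single o 1 with hd
  have hdd : d ⬝ᵥ d = 1 := by simp [hd]
  have hQ : (Matrix.single o o 1 : Matrix n n k) = Matrix.vecMulVec d d := by
    ext a b
    simp only [Matrix.vecMulVec_apply, hd, Matrix.single_apply, Pi.single_apply]
    by_cases h1 : o = a <;> by_cases h2 : o = b <;> simp [h1, h2, eq_comm]
  refine ⟨Matrix.vecMulVec u φ, Matrix.vecMulVec u d, Matrix.vecMulVec d φ, ?_, ?_, ?_, ?_, ?_⟩
  · rw [Matrix.mul_vecMulVec, hEu]
  · rw [Matrix.vecMulVec_mul, hφE]
  · rw [Matrix.vecMulVec_mul_vecMulVec, hφu, one_smul]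
  · rw [hQ, Matrix.vecMulVec_mul_vecMulVec, hdd, one_smul, Matrix.vecMulVec_mul_vecMulVec, hdd,
      one_smul]
  · rw [hQ, Matrix.vecMulVec_mul_vecMulVec, hφu, one_smul, Matrix.vecMulVec_mul_vecMulVec, hφu,
      one_smul]

theorem rank_le_of_mul {m : Type*} [Fintype m] [DecidableEq m] (X Y Z : Matrix m m k) :
    (X * Y * Z).rank ≤ Y.rank :=
  (Matrix.rank_mul_le_left _ _).trans (Matrix.rank_mul_le_right _ _)

theorem rank_split {m : Type*} [Fintype m] [DecidableEq m]
    (ψ : MonoidAlgebra k G →ₐ[k] Matrix m m k) {e f : MonoidAlgebra k G} (hf : f * f = f)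
    (hrest : (e - f) * (e - f) = e - f) (h1 : f * (e - f) = 0) (h2 : (e - f) * f = 0) :
    (ψ e).rank = (ψ f).rank + (ψ (e - f)).rank := by
  rw [← rank_add_of_orthogonal (by rw [← map_mul, hf]) (by rw [← map_mul, hrest])
    (by rw [← map_mul, h1, map_zero]) (by rw [← map_mul, h2, map_zero]), ← map_add,
    add_sub_cancel]

theorem rank_single_one {n : Type*} [Fintype n] [DecidableEq n] (o : n) :
    (Matrix.single o o (1 : k)).rank = 1 := by
  classical
  rw [← Matrix.diagonal_single, Matrix.rank_diagonal]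
  rw [Fintype.card_eq_one_iff]
  exact ⟨⟨o, by simp⟩, fun i => Subtype.ext (by_contra fun h => i.2 (Pi.single_eq_of_ne h _))⟩

namespace Family

variable (Φ : Family p k G ι) [IsAlgClosed k]

include Φ in
/-- Idempotents with equivalent images have equal ranks in all representations. -/
theorem rank_le (hk : (p : k) = 0) {N : Type*} [Fintype N] [DecidableEq N]
    (ρ : MonoidAlgebra k G →ₐ[k] Matrix N N k) {f f' a b : MonoidAlgebra k G} (hf : f * f = f)
    (h : Φ.pi f = Φ.pi (a * f' * b)) : (ρ f).rank ≤ (ρ f').rank := by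
  set z := f * (a * f' * b) * f with hz
  have hn : IsNilpotent (f - z) := Φ.ker_nilpotent hk (by
    rw [map_sub, hz, map_mul, map_mul, ← h, ← map_mul, ← map_mul, hf, hf, sub_self])
  obtain ⟨M, hM⟩ := hn
  have hz' : z = f * (1 - (f - z)) := by
    rw [mul_sub, mul_one, mul_sub, hf, show f * z = z by rw [hz]; simp only [← mul_assoc, hf]]
    abel
  have hfz : f = z * ∑ i ∈ Finset.range M, (f - z) ^ i := by
    conv_rhs => arg 1; rw [hz']
    rw [mul_assoc, mul_neg_geom_sum, hM, sub_zero, mul_one]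
  rw [hfz, hz]
  simp only [map_mul]
  refine (Matrix.rank_mul_le_left _ _).trans ?_
  exact (rank_le_of_mul _ _ _).trans (rank_le_of_mul _ _ _)

/-- A lift of the elementary idempotent at `s`. -/
theorem exists_basic (hk : (p : k) = 0) (s : S) :
    ∃ f, f * f = f ∧ Φ.pi f = Pi.single s (Matrix.single (Φ.pt s) (Φ.pt s) 1) :=
  exists_isIdempotentElem_eq_of_ker_isNilpotent Φ.pi.toRingHom
    (fun z hz => Φ.ker_nilpotent hk hz) _ (Φ.pi_surjective _) (by
      show _ * _ = _
      rw [← Pi.single_mul, Matrix.single_mul_single_same, mul_one])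

variable {N : Type*} [Fintype N] [DecidableEq N]

/-- The multiplicity of `s` in a representation. -/
noncomputable def mult (hk : (p : k) = 0) (ρ : MonoidAlgebra k G →ₐ[k] Matrix N N k) (s : S) : ℕ :=
  (ρ (Φ.exists_basic hk s).choose).rank

theorem rank_eq_mult (hk : (p : k) = 0) (ρ : MonoidAlgebra k G →ₐ[k] Matrix N N k) (s : S)
    {f : MonoidAlgebra k G} (hf : f * f = f) {A B : Matrix (ι s) (ι s) k}
    (hP : Φ.pi f = Pi.single s (A * Matrix.single (Φ.pt s) (Φ.pt s) 1 * B))
    (hQ : Matrix.single (Φ.pt s) (Φ.pt s) 1 = B * (A * Matrix.single (Φ.pt s) (Φ.pt s) 1 * B) * A) :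
    (ρ f).rank = Φ.mult hk ρ s := by
  obtain ⟨hb, hbpi⟩ := (Φ.exists_basic hk s).choose_spec
  obtain ⟨a, ha⟩ := Φ.pi_surjective (Pi.single s A)
  obtain ⟨b, hb'⟩ := Φ.pi_surjective (Pi.single s B)
  refine le_antisymm (Φ.rank_le hk ρ (a := a) (b := b) hf ?_)
    (Φ.rank_le hk ρ (a := b) (b := a) hb ?_)
  · rw [map_mul, map_mul, ha, hb', hbpi, ← Pi.single_mul, ← Pi.single_mul, hP]
  · rw [map_mul, map_mul, ha, hb', hP, ← Pi.single_mul, ← Pi.single_mul, hbpi]
    exact congrArg (Pi.single s) hQ

/-- Ranks of idempotents in an arbitrary representation. -/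
theorem rank_eq_sum (hk : (p : k) = 0) (ρ : MonoidAlgebra k G →ₐ[k] Matrix N N k) :
    ∀ e : MonoidAlgebra k G, e * e = e →
      (ρ e).rank = ∑ s, Φ.mult hk ρ s * (Φ.rep s e).rank := by
  suffices ∀ r e, e * e = e → ∑ s, (Φ.rep s e).rank = r →
      (ρ e).rank = ∑ s, Φ.mult hk ρ s * (Φ.rep s e).rank from fun e he => this _ e he rfl
  intro r
  induction r using Nat.strong_induction_on with
  | _ r ih =>
    intro e he hr
    by_cases h0 : Φ.pi e = 0
    · obtain ⟨M, hM⟩ := Φ.ker_nilpotent hk h0
      have he0 : e = 0 := by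
        rcases M with - | M
        · rw [pow_zero] at hM
          rw [← one_mul e, hM, zero_mul]
        · rwa [(show IsIdempotentElem e from he).pow_succ_eq M] at hM
      simp [he0]
    obtain ⟨s, hs⟩ : ∃ s, Φ.rep s e ≠ 0 := by
      by_contra hc
      push Not at hc
      exact h0 (funext hc)
    obtain ⟨P, A, B, hEP, hPE, hPP, hPAB, hQ⟩ :=
      exists_rank_one (k := k) (E := Φ.rep s e) (by rw [← map_mul, he]) hs (Φ.pt s)
    have hmul : ∀ Y : Matrix (ι s) (ι s) k, ∀ z,
        Pi.single (M := fun t => Matrix (ι t) (ι t) k) s Y * Φ.pi z = Pi.single s (Y * Φ.rep s z) :=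
      fun Y z => funext fun t => by
        by_cases ht : t = s
        · subst ht; simp [Φ.pi_apply]
        · simp [Pi.single_eq_of_ne ht]
    have hmul' : ∀ Y : Matrix (ι s) (ι s) k, ∀ z,
        Φ.pi z * Pi.single (M := fun t => Matrix (ι t) (ι t) k) s Y = Pi.single s (Φ.rep s z * Y) :=
      fun Y z => funext fun t => by
        by_cases ht : t = s
        · subst ht; simp [Φ.pi_apply]
        · simp [Pi.single_eq_of_ne ht]
    obtain ⟨f, hf, hfP, hf1, hf2⟩ := exists_isIdempotentElem_mul_eq_zero_of_ker_isNilpotent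
      Φ.pi.toRingHom (fun z hz => Φ.ker_nilpotent hk hz) (Pi.single s P) (Φ.pi_surjective _)
      (show Pi.single (M := fun t => Matrix (ι t) (ι t) k) s P * Pi.single s P = Pi.single s P by
        rw [← Pi.single_mul, hPP]) (1 - e)
      (show IsIdempotentElem (1 - e) from (show IsIdempotentElem e from he).one_sub)
      (show Pi.single s P * Φ.pi (1 - e) = 0 by
        rw [map_sub, map_one, mul_sub, mul_one, hmul, hPE, sub_self])
      (show Φ.pi (1 - e) * Pi.single s P = 0 by
        rw [map_sub, map_one, sub_mul, one_mul, hmul', hEP, sub_self])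
    replace hf : f * f = f := hf
    replace hfP : Φ.pi f = Pi.single s P := hfP
    have hef : e * f = f := by
      rw [sub_mul, one_mul, sub_eq_zero] at hf2; exact hf2.symm
    have hfe : f * e = f := by
      rw [mul_sub, mul_one, sub_eq_zero] at hf1; exact hf1.symm
    have hrest : (e - f) * (e - f) = e - f := by
      rw [sub_mul, mul_sub, mul_sub, he, hef, hfe, hf, sub_self, sub_zero]
    have h1 : f * (e - f) = 0 := by rw [mul_sub, hfe, hf, sub_self]
    have h2 : (e - f) * f = 0 := by rw [sub_mul, hef, hf, sub_self]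
    have hrepf : ∀ t, (Φ.rep t f).rank = if t = s then 1 else 0 := by
      intro t
      rw [← Φ.pi_apply, hfP]
      by_cases ht : t = s
      · subst ht
        rw [Pi.single_eq_same, if_pos rfl, hPAB]
        refine le_antisymm ((rank_le_of_mul _ _ _).trans (rank_single_one _).le) ?_
        calc 1 = (Matrix.single (Φ.pt t) (Φ.pt t) (1 : k)).rank := (rank_single_one _).symm
          _ ≤ _ := by
            conv_lhs => rw [hQ, hPAB]
            exact rank_le_of_mul _ _ _
      · rw [Pi.single_eq_of_ne ht, Matrix.rank_zero, if_neg ht]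
    have hlt : ∑ t, (Φ.rep t (e - f)).rank < r := by
      rw [← hr]
      refine Finset.sum_lt_sum (fun t _ => ?_) ⟨s, Finset.mem_univ _, ?_⟩
      · rw [rank_split (Φ.rep t) hf hrest h1 h2]; omega
      · rw [rank_split (Φ.rep s) hf hrest h1 h2, hrepf, if_pos rfl]; omega
    rw [rank_split ρ hf hrest h1 h2, ih _ hlt _ hrest rfl, Φ.rank_eq_mult hk ρ s hf (by rw [hfP, hPAB])
      (hPAB ▸ hQ)]
    simp only [fun t => rank_split (Φ.rep t) hf hrest h1 h2, hrepf, mul_add, Finset.sum_add_distrib, mul_ite, mul_one,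
      mul_zero, Finset.sum_ite_eq', Finset.mem_univ, if_true]

end Family

end Cfsg.Agent.Chevalley.NoSub
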