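import Cfsg.Agent.Chevalley.NoSub.CheckDefs

/-!
Kernel evaluation of searches.
-/

set_option autoImplicit false
set_option maxRecDepth 100000
set_option maxHeartbeats 4000000

namespace Cfsg.Agent.Chevalley.NoSub.Checks

open Tables

theorem dfs73_0 : dfs73 [0, 2, 4, 5, 6, 7, 10, 11, 12, 13, 14, 15, 16, 17, 18, 19, 20, 21, 22, 23, 25, 26, 28, 29, 30, 31, 32, 33, 34, 35, 36] 7294900904160756764166280596037380199268595480672187633264262222065799544844 = true := by decide +kernel

theorem dfs73_1 : dfs73 [0, 2, 4, 5, 6, 7, 10, 11, 12, 13, 14, 15, 16, 17, 18, 19, 20, 21, 22, 23, 25, 26, 28, 29, 30, 31, 32, 33, 34, 35, 36] 14588007353420569900077238466664056256886959001588741255638363110433959723020 = true := by decide +kernel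

theorem dfs73_2 : dfs73 [0, 2, 4, 5, 6, 7, 10, 11, 12, 13, 14, 15, 16, 17, 18, 19, 20, 21, 22, 23, 25, 26, 28, 29, 30, 31, 32, 33, 34, 35, 36] 21881113802680383035988196337290732314505322522505294878012463998802119901196 = true := by decide +kernel

theorem dfs73_3 : dfs73 [0, 1, 2, 3, 4, 5, 6, 7, 8, 9, 10, 11, 12, 13, 14, 15, 16, 17, 18, 19, 20, 21, 22, 23, 24, 25, 26, 27, 28, 29, 30, 31, 32, 33, 34, 35, 36] 21881973070528414654798335422393262611356990522669395941720300138782357749894 = true := by decide +kernel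

theorem dfs73_6 : dfs73 [0, 2, 4, 5, 6, 7, 10, 11, 12, 15, 16, 17, 18, 19, 21, 22, 23, 25, 26, 28, 30, 32, 33, 35, 36] 29174220251940196171899154207917408372123686043421848500386564887170280079372 = true := by decide +kernel

theorem dfs73_7 : dfs73 [0, 1, 2, 3, 4, 5, 6, 7, 8, 9, 10, 11, 12, 13, 14, 15, 16, 17, 18, 19, 20, 21, 22, 23, 24, 25, 26, 27, 28, 29, 30, 31, 32, 33, 34, 35, 36] 29175952591117434859720295378968633217317629706338639394719713768308985659526 = true := by decide +kernel

end Cfsg.Agent.Chevalley.NoSub.Checks
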