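import Cfsg.Agent.Chevalley.NoSub.Check26
import Cfsg.Agent.Chevalley.NoSub.Check73a
import Cfsg.Agent.Chevalley.NoSub.Check73b
import Cfsg.Agent.Chevalley.NoSub.Check73c

/-!
All tabulated capacities are refuted.
-/

set_option autoImplicit false
set_option maxRecDepth 100000

namespace Cfsg.Agent.Chevalley.NoSub.Checks

open Tables

theorem dfs26_0_caps : dfs26 (Checks.cands 14 5146711325839689305477481482) 5146711325839689305477481482 = true := by
  rw [show Checks.cands 14 5146711325839689305477481482 = [0, 1, 2, 3, 4, 5, 6, 7, 8, 9, 10, 11, 12, 13] from by decide +kernel]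
  exact dfs26_0

theorem dfs26_1_caps : dfs26 (Checks.cands 14 5185701526115760442464895754) 5185701526115760442464895754 = true := by
  rw [show Checks.cands 14 5185701526115760442464895754 = [0, 1, 2, 3, 4, 5, 6, 7, 8, 9, 10, 11, 12, 13] from by decide +kernel]
  exact dfs26_1

theorem dfs26_2_caps : dfs26 (Checks.cands 14 5224691726391831579452310026) 5224691726391831579452310026 = true := by
  rw [show Checks.cands 14 5224691726391831579452310026 = [0, 1, 2, 3, 4, 5, 6, 7, 8, 9, 10, 11, 12, 13] from by decide +kernel]
  exact dfs26_2

theorem dfs26_3_caps : dfs26 (Checks.cands 14 5263681926667902716439724298) 5263681926667902716439724298 = true := by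
  rw [show Checks.cands 14 5263681926667902716439724298 = [0, 1, 2, 3, 4, 5, 6, 7, 8, 9, 10, 11, 12, 13] from by decide +kernel]
  exact dfs26_3

theorem dfs26_4_caps : dfs26 (Checks.cands 14 10002355959063375644993946379) 10002355959063375644993946379 = true := by
  rw [show Checks.cands 14 10002355959063375644993946379 = [0, 1, 2, 3, 4, 5, 6, 7, 8, 9, 10, 11, 12, 13] from by decide +kernel]
  exact dfs26_4

theorem dfs26_5_caps : dfs26 (Checks.cands 14 10041346159339446781981360651) 10041346159339446781981360651 = true := by
  rw [show Checks.cands 14 10041346159339446781981360651 = [0, 1, 2, 3, 4, 5, 6, 7, 8, 9, 10, 11, 12, 13] from by decide +kernel]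
  exact dfs26_5

theorem dfs26_6_caps : dfs26 (Checks.cands 14 10059783514017044909837649160) 10059783514017044909837649160 = true := by
  rw [show Checks.cands 14 10059783514017044909837649160 = [0, 1, 2, 3, 4, 5, 6, 7, 8, 9, 10, 11, 12, 13] from by decide +kernel]
  exact dfs26_6

theorem dfs26_7_caps : dfs26 (Checks.cands 14 10080336359615517918968774923) 10080336359615517918968774923 = true := by
  rw [show Checks.cands 14 10080336359615517918968774923 = [0, 1, 2, 3, 4, 5, 6, 7, 8, 9, 10, 11, 12, 13] from by decide +kernel]
  exact dfs26_7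

theorem dfs26_8_caps : dfs26 (Checks.cands 14 10098773714293116046825063432) 10098773714293116046825063432 = true := by
  rw [show Checks.cands 14 10098773714293116046825063432 = [0, 1, 2, 3, 4, 5, 6, 7, 8, 9, 10, 11, 12, 13] from by decide +kernel]
  exact dfs26_8

theorem dfs26_9_caps : dfs26 (Checks.cands 14 10136857275469268535109273099) 10136857275469268535109273099 = true := by
  rw [show Checks.cands 14 10136857275469268535109273099 = [0, 1, 2, 3, 4, 5, 6, 7, 8, 9, 10, 11, 12, 13] from by decide +kernel]
  exact dfs26_9

theorem dfs26_10_caps : dfs26 (Checks.cands 14 24896324399452104439019766277) 24896324399452104439019766277 = true := by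
  rw [show Checks.cands 14 24896324399452104439019766277 = [0, 1, 2, 3, 4, 5, 6, 7, 8, 9, 10, 11, 12, 13] from by decide +kernel]
  exact dfs26_10

theorem dfs26_11_caps : dfs26 (Checks.cands 14 24953751954405773703863469058) 24953751954405773703863469058 = true := by
  rw [show Checks.cands 14 24953751954405773703863469058 = [0, 1, 2, 3, 4, 5, 6, 7, 8, 9, 10, 11, 12, 13] from by decide +kernel]
  exact dfs26_11

theorem dfs26_12_caps : dfs26 (Checks.cands 14 25030825715857997329135092997) 25030825715857997329135092997 = true := by
  rw [show Checks.cands 14 25030825715857997329135092997 = [0, 1, 2, 3, 4, 5, 6, 7, 8, 9, 10, 11, 12, 13] from by decide +kernel]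
  exact dfs26_12

theorem dfs26_13_caps : dfs26 (Checks.cands 14 25069815916134068466122507269) 25069815916134068466122507269 = true := by
  rw [show Checks.cands 14 25069815916134068466122507269 = [0, 1, 2, 3, 4, 5, 6, 7, 8, 9, 10, 11, 12, 13] from by decide +kernel]
  exact dfs26_13

theorem dfs73_0_caps : dfs73 (Checks.cands 37 7294900904160756764166280596037380199268595480672187633264262222065799544844) 7294900904160756764166280596037380199268595480672187633264262222065799544844 = true := by
  rw [show Checks.cands 37 7294900904160756764166280596037380199268595480672187633264262222065799544844 = [0, 2, 4, 5, 6, 7, 10, 11, 12, 13, 14, 15, 16, 17, 18, 19, 20, 21, 22, 23, 25, 26, 28, 29, 30, 31, 32, 33, 34, 35, 36] from by decide +kernel]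
  exact dfs73_0

theorem dfs73_1_caps : dfs73 (Checks.cands 37 14588007353420569900077238466664056256886959001588741255638363110433959723020) 14588007353420569900077238466664056256886959001588741255638363110433959723020 = true := by
  rw [show Checks.cands 37 14588007353420569900077238466664056256886959001588741255638363110433959723020 = [0, 2, 4, 5, 6, 7, 10, 11, 12, 13, 14, 15, 16, 17, 18, 19, 20, 21, 22, 23, 25, 26, 28, 29, 30, 31, 32, 33, 34, 35, 36] from by decide +kernel]
  exact dfs73_1

theorem dfs73_2_caps : dfs73 (Checks.cands 37 21881113802680383035988196337290732314505322522505294878012463998802119901196) 21881113802680383035988196337290732314505322522505294878012463998802119901196 = true := by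
  rw [show Checks.cands 37 21881113802680383035988196337290732314505322522505294878012463998802119901196 = [0, 2, 4, 5, 6, 7, 10, 11, 12, 13, 14, 15, 16, 17, 18, 19, 20, 21, 22, 23, 25, 26, 28, 29, 30, 31, 32, 33, 34, 35, 36] from by decide +kernel]
  exact dfs73_2

theorem dfs73_3_caps : dfs73 (Checks.cands 37 21881973070528414654798335422393262611356990522669395941720300138782357749894) 21881973070528414654798335422393262611356990522669395941720300138782357749894 = true := by
  rw [show Checks.cands 37 21881973070528414654798335422393262611356990522669395941720300138782357749894 = [0, 1, 2, 3, 4, 5, 6, 7, 8, 9, 10, 11, 12, 13, 14, 15, 16, 17, 18, 19, 20, 21, 22, 23, 24, 25, 26, 27, 28, 29, 30, 31, 32, 33, 34, 35, 36] from by decide +kernel]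
  exact dfs73_3

theorem dfs73_4_caps : dfs73 (Checks.cands 37 21881979972269825133354312826722082679500875409059989926359706600350727307526) 21881979972269825133354312826722082679500875409059989926359706600350727307526 = true := by
  rw [show Checks.cands 37 21881979972269825133354312826722082679500875409059989926359706600350727307526 = [0, 1, 2, 3, 4, 5, 6, 7, 8, 9, 10, 11, 12, 13, 14, 15, 16, 17, 18, 19, 20, 21, 22, 23, 24, 25, 26, 27, 28, 29, 30, 31, 32, 33, 34, 35, 36] from by decide +kernel]
  exact dfs73_4

theorem dfs73_5_caps : dfs73 (Checks.cands 37 21882407880758899699063534851697670547399641783008696892424426170872368234758) 21882407880758899699063534851697670547399641783008696892424426170872368234758 = true := by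
  rw [show Checks.cands 37 21882407880758899699063534851697670547399641783008696892424426170872368234758 = [0, 1, 2, 3, 4, 5, 6, 7, 8, 9, 10, 11, 12, 13, 14, 15, 16, 17, 18, 19, 20, 21, 22, 23, 24, 25, 26, 27, 28, 29, 30, 31, 32, 33, 34, 35, 36] from by decide +kernel]
  exact dfs73_5

theorem dfs73_6_caps : dfs73 (Checks.cands 37 29174220251940196171899154207917408372123686043421848500386564887170280079372) 29174220251940196171899154207917408372123686043421848500386564887170280079372 = true := by
  rw [show Checks.cands 37 29174220251940196171899154207917408372123686043421848500386564887170280079372 = [0, 2, 4, 5, 6, 7, 10, 11, 12, 15, 16, 17, 18, 19, 21, 22, 23, 25, 26, 28, 30, 32, 33, 35, 36] from by decide +kernel]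
  exact dfs73_6

theorem dfs73_7_caps : dfs73 (Checks.cands 37 29175952591117434859720295378968633217317629706338639394719713768308985659526) 29175952591117434859720295378968633217317629706338639394719713768308985659526 = true := by
  rw [show Checks.cands 37 29175952591117434859720295378968633217317629706338639394719713768308985659526 = [0, 1, 2, 3, 4, 5, 6, 7, 8, 9, 10, 11, 12, 13, 14, 15, 16, 17, 18, 19, 20, 21, 22, 23, 24, 25, 26, 27, 28, 29, 30, 31, 32, 33, 34, 35, 36] from by decide +kernel]
  exact dfs73_7

theorem caps26_refuted : ∀ S ∈ caps26, dfs26 (Checks.cands 14 S) S = true :=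
  List.forall_mem_cons.2 ⟨dfs26_0_caps, List.forall_mem_cons.2 ⟨dfs26_1_caps, List.forall_mem_cons.2 ⟨dfs26_2_caps, List.forall_mem_cons.2 ⟨dfs26_3_caps, List.forall_mem_cons.2 ⟨dfs26_4_caps, List.forall_mem_cons.2 ⟨dfs26_5_caps, List.forall_mem_cons.2 ⟨dfs26_6_caps, List.forall_mem_cons.2 ⟨dfs26_7_caps, List.forall_mem_cons.2 ⟨dfs26_8_caps, List.forall_mem_cons.2 ⟨dfs26_9_caps, List.forall_mem_cons.2 ⟨dfs26_10_caps, List.forall_mem_cons.2 ⟨dfs26_11_caps, List.forall_mem_cons.2 ⟨dfs26_12_caps, List.forall_mem_cons.2 ⟨dfs26_13_caps, List.forall_mem_nil _⟩⟩⟩⟩⟩⟩⟩⟩⟩⟩⟩⟩⟩⟩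

theorem caps73_refuted : ∀ S ∈ caps73, dfs73 (Checks.cands 37 S) S = true :=
  List.forall_mem_cons.2 ⟨dfs73_0_caps, List.forall_mem_cons.2 ⟨dfs73_1_caps, List.forall_mem_cons.2 ⟨dfs73_2_caps, List.forall_mem_cons.2 ⟨dfs73_3_caps, List.forall_mem_cons.2 ⟨dfs73_4_caps, List.forall_mem_cons.2 ⟨dfs73_5_caps, List.forall_mem_cons.2 ⟨dfs73_6_caps, List.forall_mem_cons.2 ⟨dfs73_7_caps, List.forall_mem_nil _⟩⟩⟩⟩⟩⟩⟩⟩

theorem kills26 : ((kills.take 2).all fun ks => ks.all fun S => caps26.contains S) = true := by
  decide +kernel

theorem kills73 : ((kills.drop 2).all fun ks => ks.all fun S => caps73.contains S) = true := by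
  decide +kernel

end Cfsg.Agent.Chevalley.NoSub.Checks
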