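import Cfsg.Agent.Chevalley.NoSub.CheckDefs

/-!
Kernel evaluation of searches.
-/

set_option autoImplicit false
set_option maxRecDepth 100000

namespace Cfsg.Agent.Chevalley.NoSub.Checks

open Tables

theorem dfs26_0 : dfs26 [0, 1, 2, 3, 4, 5, 6, 7, 8, 9, 10, 11, 12, 13] 5146711325839689305477481482 = true := by decide +kernel

theorem dfs26_1 : dfs26 [0, 1, 2, 3, 4, 5, 6, 7, 8, 9, 10, 11, 12, 13] 5185701526115760442464895754 = true := by decide +kernel

theorem dfs26_2 : dfs26 [0, 1, 2, 3, 4, 5, 6, 7, 8, 9, 10, 11, 12, 13] 5224691726391831579452310026 = true := by decide +kernel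

theorem dfs26_3 : dfs26 [0, 1, 2, 3, 4, 5, 6, 7, 8, 9, 10, 11, 12, 13] 5263681926667902716439724298 = true := by decide +kernel

theorem dfs26_4 : dfs26 [0, 1, 2, 3, 4, 5, 6, 7, 8, 9, 10, 11, 12, 13] 10002355959063375644993946379 = true := by decide +kernel

theorem dfs26_5 : dfs26 [0, 1, 2, 3, 4, 5, 6, 7, 8, 9, 10, 11, 12, 13] 10041346159339446781981360651 = true := by decide +kernel

theorem dfs26_6 : dfs26 [0, 1, 2, 3, 4, 5, 6, 7, 8, 9, 10, 11, 12, 13] 10059783514017044909837649160 = true := by decide +kernel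

theorem dfs26_7 : dfs26 [0, 1, 2, 3, 4, 5, 6, 7, 8, 9, 10, 11, 12, 13] 10080336359615517918968774923 = true := by decide +kernel

theorem dfs26_8 : dfs26 [0, 1, 2, 3, 4, 5, 6, 7, 8, 9, 10, 11, 12, 13] 10098773714293116046825063432 = true := by decide +kernel

theorem dfs26_9 : dfs26 [0, 1, 2, 3, 4, 5, 6, 7, 8, 9, 10, 11, 12, 13] 10136857275469268535109273099 = true := by decide +kernel

theorem dfs26_10 : dfs26 [0, 1, 2, 3, 4, 5, 6, 7, 8, 9, 10, 11, 12, 13] 24896324399452104439019766277 = true := by decide +kernel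

theorem dfs26_11 : dfs26 [0, 1, 2, 3, 4, 5, 6, 7, 8, 9, 10, 11, 12, 13] 24953751954405773703863469058 = true := by decide +kernel

theorem dfs26_12 : dfs26 [0, 1, 2, 3, 4, 5, 6, 7, 8, 9, 10, 11, 12, 13] 25030825715857997329135092997 = true := by decide +kernel

theorem dfs26_13 : dfs26 [0, 1, 2, 3, 4, 5, 6, 7, 8, 9, 10, 11, 12, 13] 25069815916134068466122507269 = true := by decide +kernel


end Cfsg.Agent.Chevalley.NoSub.Checks
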