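import Cfsg.Agent.Chevalley.NoSub.CheckDefs

/-!
Kernel evaluation of searches.
-/

set_option autoImplicit false
set_option maxRecDepth 100000

namespace Cfsg.Agent.Chevalley.NoSub.Checks

open Tables

theorem combAll_eq : combAll = true := by decide +kernel

theorem walk13_eq : walk13 (List.range 14) = true := by decide +kernel

end Cfsg.Agent.Chevalley.NoSub.Checks
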