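import Cfsg.Agent.Chevalley.NoSub.Walk
import Cfsg.Agent.Chevalley.NoSub.Tables

/-!
The searches as Boolean functions.
-/

set_option autoImplicit false

namespace Cfsg.Agent.Chevalley.NoSub.Checks

open Walk Tables

/-- Seven times the folded class, from seven times a value at most seventy-three. -/
noncomputable def b73 (x : ℕ) : ℕ := bif Nat.ble x 252 then x else 511 - x

/-- Seven times the folded class, from seven times a value at most twenty-six. -/
noncomputable def b26 (x : ℕ) : ℕ := bif Nat.ble x 91 then x else 182 - x

/-- The candidates allowed by capacities. -/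
def cands (n S : ℕ) : List ℕ :=
  (List.range n).filter fun a => a == 0 || S / 2 ^ (7 * a) % 128 != 0

/-- The search with capacities `S`. -/
noncomputable def dfs73 (cand : List ℕ) (S : ℕ) : Bool :=
  search (fun V shs S k => eat b73 511 V shs S k) (fun _ => false) cand lev73 0 73 S

/-- The search with capacities `S`. -/
noncomputable def dfs26 (cand : List ℕ) (S : ℕ) : Bool :=
  search (fun V shs S k => eat b26 255 V shs S k) (fun _ => false) cand lev26 0 26 S

/-- The folded signature modulo thirteen with a multiplier. -/
noncomputable def fold13 (k S : ℕ) : ℕ :=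
  ((List.range 14).map fun d =>
    fld 127 S (7 * d) * 2 ^ (7 * Nat.min (d * k % 13) (13 - d * k % 13))).sum

/-- The test at the end of the walk through the alcove of order thirteen. -/
noncomputable def leaf13 (S : ℕ) : Bool :=
  bif Nat.beq (fold13 1 S) (fold13 3 S) then
    (Nat.beq (fold13 1 S) 120 || sigs13.any fun T => Nat.beq (fold13 1 S) T)
  else true

/-- The walk through the alcove of order thirteen. -/
noncomputable def walk13 (cand : List ℕ) : Bool :=
  search (fun V shs S k => add 255 V shs S k) leaf13 cand lev26 0 13 0

/-- The multiplicities from zero upwards. -/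
noncomputable def sweep (d p q : ℕ) (next : ℕ → ℕ → ℕ → Bool) (fuel : ℕ) : ℕ → ℕ → ℕ → Bool :=
  Nat.rec (fun r A B => next r A B) (fun _ ih r A B => next r A B &&
    (bif Nat.ble d r then force (r - d) fun r' => force (A + p) fun A' => ih r' A' (B + q) else true)) fuel

/-- The search over multiplicities. -/
noncomputable def comb (leaf : ℕ → ℕ → ℕ → Bool) (O : List (ℕ × ℕ × ℕ)) : ℕ → ℕ → ℕ → Bool :=
  List.rec (fun r A B => leaf r A B)
    (fun o _ ih r A B => force (r / o.1) fun f => sweep o.1 o.2.1 o.2.2 ih f r A B) O

/-- The fields of the combined weighting. -/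
def fieldsB (B : ℕ) : List ℕ :=
  [B % 2 ^ 120, B / 2 ^ 120 % 2 ^ 120, B / 2 ^ 240 % 2 ^ 280, B / 2 ^ 520 % 2 ^ 280, B / 2 ^ 800]

/-- The test at the end of the search over multiplicities. -/
noncomputable def leafComb (r A B : ℕ) : Bool :=
  force (A + r * 512) fun A' =>
    bif (sigs2.any fun T => Nat.beq (A' % 512) T) &&
        (sigs13.any fun T => Nat.beq (A' / 512) (8 + 2 * T)) then
      force (B + r * (1 + 2 ^ 120 + 2 ^ 240 + 2 ^ 520 + 2 ^ 800)) fun B' =>
        ((fieldsB B').zip kills).any fun fk => fk.2.any fun S => Nat.beq fk.1 (8 + 2 * S)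
    else true

/-- The search over multiplicities. -/
noncomputable def combAll : Bool := comb leafComb orbits 248 0 0

end Cfsg.Agent.Chevalley.NoSub.Checks
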