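import Cfsg.Agent.Chevalley.NoSub.CheckDefs

/-!
Kernel refutation of uniform spectra of elements of order eleven.
-/

set_option autoImplicit false
set_option maxRecDepth 100000
set_option maxHeartbeats 4000000

namespace Cfsg.Agent.Chevalley.NoSub.Checks

open Walk Tables

/-- Seven times the folded class, from seven times a value at most eleven. -/
noncomputable def b11 (x : ℕ) : ℕ := bif Nat.ble x 35 then x else 77 - x

/-- The search with capacities `S`. -/
noncomputable def dfs11 (cand : List ℕ) (S : ℕ) : Bool :=
  search (fun V shs S k => eat b11 255 V shs S k) (fun _ => false) cand lev26 0 11 S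

/-- The capacities of a uniform spectrum with multiplicity `a`. -/
def unifS (h a : ℕ) : ℕ := (120 - h * a) + a * ((List.range h).map fun c => 2 ^ (7 * (c + 1))).sum

theorem uni11_1 : dfs11 (Checks.cands 6 (unifS 5 1)) (unifS 5 1) = true := by decide +kernel

theorem uni11_2 : dfs11 (Checks.cands 6 (unifS 5 2)) (unifS 5 2) = true := by decide +kernel

theorem uni11_3 : dfs11 (Checks.cands 6 (unifS 5 3)) (unifS 5 3) = true := by decide +kernel

theorem uni11_4 : dfs11 (Checks.cands 6 (unifS 5 4)) (unifS 5 4) = true := by decide +kernel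

theorem uni11_5 : dfs11 (Checks.cands 6 (unifS 5 5)) (unifS 5 5) = true := by decide +kernel

theorem uni11_6 : dfs11 (Checks.cands 6 (unifS 5 6)) (unifS 5 6) = true := by decide +kernel

theorem uni11_7 : dfs11 (Checks.cands 6 (unifS 5 7)) (unifS 5 7) = true := by decide +kernel

theorem uni11_8 : dfs11 (Checks.cands 6 (unifS 5 8)) (unifS 5 8) = true := by decide +kernel

theorem uni11_9 : dfs11 (Checks.cands 6 (unifS 5 9)) (unifS 5 9) = true := by decide +kernel

theorem uni11_10 : dfs11 (Checks.cands 6 (unifS 5 10)) (unifS 5 10) = true := by decide +kernel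

theorem uni11_11 : dfs11 (Checks.cands 6 (unifS 5 11)) (unifS 5 11) = true := by decide +kernel

theorem uni11_12 : dfs11 (Checks.cands 6 (unifS 5 12)) (unifS 5 12) = true := by decide +kernel

theorem uni11_13 : dfs11 (Checks.cands 6 (unifS 5 13)) (unifS 5 13) = true := by decide +kernel

theorem uni11_14 : dfs11 (Checks.cands 6 (unifS 5 14)) (unifS 5 14) = true := by decide +kernel

theorem uni11_15 : dfs11 (Checks.cands 6 (unifS 5 15)) (unifS 5 15) = true := by decide +kernel

theorem uni11_16 : dfs11 (Checks.cands 6 (unifS 5 16)) (unifS 5 16) = true := by decide +kernel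

theorem uni11_17 : dfs11 (Checks.cands 6 (unifS 5 17)) (unifS 5 17) = true := by decide +kernel

theorem uni11_18 : dfs11 (Checks.cands 6 (unifS 5 18)) (unifS 5 18) = true := by decide +kernel

theorem uni11_19 : dfs11 (Checks.cands 6 (unifS 5 19)) (unifS 5 19) = true := by decide +kernel

theorem uni11_20 : dfs11 (Checks.cands 6 (unifS 5 20)) (unifS 5 20) = true := by decide +kernel

theorem uni11_21 : dfs11 (Checks.cands 6 (unifS 5 21)) (unifS 5 21) = true := by decide +kernel

theorem uni11_23 : dfs11 (Checks.cands 6 (unifS 5 23)) (unifS 5 23) = true := by decide +kernel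

theorem uni11_24 : dfs11 (Checks.cands 6 (unifS 5 24)) (unifS 5 24) = true := by decide +kernel

end Cfsg.Agent.Chevalley.NoSub.Checks
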