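import Cfsg.Agent.Chevalley.NoSub.GFTables

/-!
Kernel checks of the counts in SL(2, 32).
-/

set_option autoImplicit false
set_option maxRecDepth 100000
set_option maxHeartbeats 4000000

namespace Cfsg.Agent.Chevalley.NoSub.GF32

theorem mul_table : ((List.range 32).all fun a => (List.range 32).all fun b => gmul a b == gmulSlow 5 a b) = true := by
  decide +kernel

theorem inv_table : ((List.range 32).all fun a => a == 0 || gmul a (invTab.getD a 0) == 1) = true := by
  decide +kernel

theorem order_ok : orderTest = true := by decide +kernel

theorem tot_ok : totTest = true := by decide +kernel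

theorem conv_ok0 : ([0, 1, 2, 3, 4, 5, 6, 7, 8, 9, 10].all convTest) = true := by decide +kernel

theorem conv_ok1 : ([11, 12, 13, 14, 15, 16, 17, 18, 19, 20, 21].all convTest) = true := by decide +kernel

theorem conv_ok2 : ([22, 23, 24, 25, 26, 27, 28, 29, 30, 31, 32].all convTest) = true := by decide +kernel

/-- The class functions multiply as orthogonal idempotents. -/
theorem conv_ok (g : ℕ) (hg : g < 33) : convTest g = true := by
  have h0 := List.all_eq_true.1 conv_ok0
  have h1 := List.all_eq_true.1 conv_ok1
  have h2 := List.all_eq_true.1 conv_ok2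
  rcases (show g < 11 ∨ (11 ≤ g ∧ g < 22) ∨ (22 ≤ g ∧ g < 33) by omega) with h | h | h
  · exact h0 g (by simp; omega)
  · exact h1 g (by simp; omega)
  · exact h2 g (by simp; omega)

end Cfsg.Agent.Chevalley.NoSub.GF32
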