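import Mathlib.Algebra.BigOperators.Group.List.Basic
import Mathlib.Algebra.BigOperators.Ring.List
import Mathlib.Algebra.Order.BigOperators.Group.List
import Mathlib.Tactic.Ring
import Mathlib.Tactic.Linarith

/-!
Searches over the lattice points of an alcove with packed counters, and their soundness.
-/

set_option autoImplicit false

namespace Cfsg.Agent.Chevalley.NoSub.Walk

/-- Dot product of two lists. -/
def dot : List ℕ → List ℕ → ℕ
  | a :: as, b :: bs => a * b + dot as bs
  | _, _ => 0

/-- Fields of width `w` in one number. -/
def pk (w : ℕ) : List ℕ → ℕ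
  | [] => 0
  | x :: l => x + 2 ^ w * pk w l

/-- The counter of a list of classes, with fields of seven bits. -/
def hist (xs : List ℕ) : ℕ := (xs.map fun x => 2 ^ (7 * x)).sum

/-- The field at a shift. -/
noncomputable def fld (m V sh : ℕ) : ℕ := Nat.land (Nat.shiftRight V sh) m

/-- Evaluate to a literal. -/
noncomputable def force {α : Type} (x : ℕ) (k : ℕ → α) : α :=
  Nat.rec (k 0) (fun p _ => k (p + 1)) x

theorem force_eq {α : Type} (x : ℕ) (k : ℕ → α) : force x k = k x := by
  cases x <;> rfl

theorem fld_pk {w : ℕ} : ∀ (l : List ℕ), (∀ x ∈ l, x < 2 ^ w) → ∀ i, i < l.length →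
    fld (2 ^ w - 1) (pk w l) (w * i) = l.getD i 0 := by
  intro l
  induction l with
  | nil => intro _ i h; simp at h
  | cons x l ih =>
    intro hl i hi
    have hx := hl x (by simp)
    show (pk w (x :: l) >>> (w * i)) &&& (2 ^ w - 1) = _
    rw [Nat.and_two_pow_sub_one_eq_mod, Nat.shiftRight_eq_div_pow, pk]
    cases i with
    | zero => simp [Nat.add_mul_mod_self_left, Nat.mod_eq_of_lt hx]
    | succ i =>
      rw [Nat.mul_succ, pow_add, Nat.mul_comm (2 ^ (w * i)), ← Nat.div_div_eq_div_mul,
        Nat.add_mul_div_left _ _ (Nat.two_pow_pos w), Nat.div_eq_of_lt hx, Nat.zero_add]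
      have h := ih (fun y hy => hl y (by simp [hy])) i (by simpa using hi)
      simp only [fld] at h
      have h' : pk w l >>> (w * i) &&& (2 ^ w - 1) = l.getD i 0 := h
      rw [Nat.and_two_pow_sub_one_eq_mod, Nat.shiftRight_eq_div_pow] at h'
      simpa using h'

theorem sum_filter_split (xs : List ℕ) (x : ℕ) (f : ℕ → ℕ) :
    (xs.map f).sum = ((xs.filter (· < x)).map f).sum + xs.count x * f x
      + ((xs.filter (x < ·)).map f).sum := by
  induction xs with
  | nil => simp
  | cons a l ih =>
    rcases lt_trichotomy a x with h | h | h
    · simp [List.filter_cons, h, h.ne, not_lt.2 h.le, ih]; ring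
    · subst h; simp [List.filter_cons, ih]; ring
    · simp [List.filter_cons, h, h.ne', not_lt.2 h.le, ih]; ring

/-- A field of a counter is a number of occurrences. -/
theorem fld_hist {xs : List ℕ} (hlen : xs.length < 128) (x : ℕ) :
    fld 127 (hist xs) (7 * x) = xs.count x := by
  show (hist xs >>> (7 * x)) &&& (2 ^ 7 - 1) = _
  rw [Nat.and_two_pow_sub_one_eq_mod, Nat.shiftRight_eq_div_pow, hist,
    sum_filter_split xs x fun y => 2 ^ (7 * y)]
  set low := ((xs.filter (· < x)).map fun y => 2 ^ (7 * y)).sum
  obtain ⟨q, hq⟩ : 2 ^ (7 * (x + 1)) ∣ ((xs.filter (x < ·)).map fun y => 2 ^ (7 * y)).sum := by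
    refine List.dvd_sum fun y hy => ?_
    simp only [List.mem_map, List.mem_filter, decide_eq_true_eq] at hy
    obtain ⟨z, ⟨-, hz⟩, rfl⟩ := hy
    exact pow_dvd_pow 2 (by omega)
  have hlow : low < 2 ^ (7 * x) := by
    rcases Nat.eq_zero_or_pos x with rfl | hx
    · simp [low]
    have hle : low ≤ (xs.filter (· < x)).length * 2 ^ (7 * (x - 1)) := by
      have := List.sum_le_card_nsmul ((xs.filter (· < x)).map fun y => 2 ^ (7 * y))
        (2 ^ (7 * (x - 1))) (fun y hy => by
          simp only [List.mem_map, List.mem_filter, decide_eq_true_eq] at hy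
          obtain ⟨z, ⟨-, hz⟩, rfl⟩ := hy
          exact Nat.pow_le_pow_right (by norm_num) (by omega))
      simpa [low] using this
    have hc : (xs.filter (· < x)).length < 128 := lt_of_le_of_lt (List.length_filter_le _ _) hlen
    have e : 2 ^ (7 * x) = 128 * 2 ^ (7 * (x - 1)) := by
      rw [show 7 * x = 7 + 7 * (x - 1) by omega, pow_add]; norm_num
    rw [e]
    exact lt_of_le_of_lt hle (Nat.mul_lt_mul_of_pos_right hc (Nat.two_pow_pos _))
  rw [hq, show 7 * (x + 1) = 7 * x + 7 by ring, pow_add,
    show low + xs.count x * 2 ^ (7 * x) + 2 ^ (7 * x) * 2 ^ 7 * q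
      = low + 2 ^ (7 * x) * (xs.count x + 2 ^ 7 * q) by ring,
    Nat.add_mul_div_left _ _ (Nat.two_pow_pos _), Nat.div_eq_of_lt hlow, Nat.zero_add,
    Nat.add_mul_mod_self_left, Nat.mod_eq_of_lt]
  exact lt_of_le_of_lt List.count_le_length (by simpa using hlen)

/-- Remove values from a counter, failing when one is missing. -/
noncomputable def eat (g : ℕ → ℕ) (m V : ℕ) (shs : List ℕ) : ℕ → (ℕ → Bool) → Bool :=
  List.rec (fun S k => k S) (fun sh _ ih S k => force (g (fld m V sh)) fun b =>
    bif Nat.beq (fld 127 S b) 0 then true else force (S - Nat.shiftLeft 1 b) fun S' => ih S' k) shs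

theorem eat_sound (g : ℕ → ℕ) (m V : ℕ) {cls : ℕ → ℕ} :
    ∀ (shs : List ℕ) (xs rest : List ℕ) (k : ℕ → Bool),
      shs.map (fun sh => g (fld m V sh)) = xs.map (fun x => 7 * cls x) →
      ((xs ++ rest).length < 128) →
      eat g m V shs (hist ((xs ++ rest).map cls)) k = true → k (hist (rest.map cls)) = true := by
  intro shs
  induction shs with
  | nil =>
    intro xs rest k hxs _ h
    obtain rfl : xs = [] := by simpa using hxs.symm
    exact h
  | cons sh l ih =>
    intro xs rest k hxs hlen h
    cases xs with
    | nil => simp at hxs
    | cons x xs =>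
      simp only [List.map_cons, List.cons.injEq] at hxs
      have hlen' : (xs ++ rest).length < 128 := by
        simp only [List.cons_append, List.length_cons] at hlen; omega
      refine ih xs rest k hxs.2 hlen' ?_
      set S := hist (((x :: xs) ++ rest).map cls) with hS
      have hf : fld 127 S (7 * cls x) = (((x :: xs) ++ rest).map cls).count (cls x) :=
        fld_hist (by rw [List.length_map]; exact hlen) _
      have hne : fld 127 S (7 * cls x) ≠ 0 := by
        rw [hf]; simp
      have hsub : S - Nat.shiftLeft 1 (7 * cls x) = hist ((xs ++ rest).map cls) := by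
        rw [hS, hist, hist, List.cons_append, List.map_cons, List.map_cons, List.sum_cons,
          show Nat.shiftLeft 1 (7 * cls x) = 2 ^ (7 * cls x) from Nat.one_shiftLeft _,
          Nat.add_sub_cancel_left]
      change (force (g (fld m V sh)) fun b => bif Nat.beq (fld 127 S b) 0 then true
        else force (S - Nat.shiftLeft 1 b) fun S' => eat g m V l S' k) = true at h
      rw [force_eq, hxs.1] at h
      rw [show Nat.beq (fld 127 S (7 * cls x)) 0 = false from by
        rw [Bool.eq_false_iff]; exact fun e => hne (Nat.eq_of_beq_eq_true e)] at h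
      simp only [cond_false, force_eq, hsub] at h
      exact h

/-- Add values to a counter. -/
noncomputable def add (m V : ℕ) (shs : List ℕ) : ℕ → (ℕ → Bool) → Bool :=
  List.rec (fun S k => k S) (fun sh _ ih S k =>
    force (S + Nat.shiftLeft 1 (fld m V sh)) fun S' => ih S' k) shs

theorem add_sound (m V : ℕ) : ∀ (shs : List ℕ) (xs done : List ℕ) (k : ℕ → Bool),
    shs.map (fun sh => fld m V sh) = xs.map (fun x => 7 * x) →
    add m V shs (hist done) k = true → k (hist (done ++ xs)) = true := by
  intro shs
  induction shs with
  | nil =>
    intro xs done k hxs h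
    obtain rfl : xs = [] := by simpa using hxs.symm
    rw [List.append_nil]
    exact h
  | cons sh l ih =>
    intro xs done k hxs h
    cases xs with
    | nil => simp at hxs
    | cons x xs =>
      simp only [List.map_cons, List.cons.injEq] at hxs
      rw [List.append_cons]
      refine ih xs (done ++ [x]) k hxs.2 ?_
      change (force (hist done + Nat.shiftLeft 1 (fld m V sh)) fun S' => add m V l S' k) = true at h
      rw [force_eq, hxs.1] at h
      have e : hist (done ++ [x]) = hist done + Nat.shiftLeft 1 (7 * x) := by
        rw [show Nat.shiftLeft 1 (7 * x) = 2 ^ (7 * x) from Nat.one_shiftLeft _]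
        simp [hist]
      rwa [e]

/-- Go through candidates within a budget. -/
noncomputable def scan (t b : ℕ) (body : ℕ → Bool) (cand : List ℕ) : Bool :=
  List.rec true (fun a _ ih => bif Nat.ble (a * t) b then body a && ih else true) cand

theorem scan_sound {t b : ℕ} {body : ℕ → Bool} : ∀ {cand : List ℕ}, cand.Pairwise (· < ·) →
    scan t b body cand = true → ∀ a ∈ cand, a * t ≤ b → body a = true := by
  intro cand
  induction cand with
  | nil => intro _ _ a ha; simp at ha
  | cons c l ih =>
    intro hp h a ha hb
    rw [List.pairwise_cons] at hp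
    change (bif Nat.ble (c * t) b then body c && scan t b body l else true) = true at h
    have hc : c * t ≤ b := by
      rcases List.mem_cons.1 ha with rfl | ha
      · exact hb
      · exact le_trans (Nat.mul_le_mul_right t (hp.1 a ha).le) hb
    rw [Nat.ble_eq_true_of_le hc] at h
    simp only [cond_true, Bool.and_eq_true] at h
    rcases List.mem_cons.1 ha with rfl | ha
    · exact h.1
    · exact ih hp.2 h.2 a ha hb

/-- A level: weight in the budget, increments of the packed values, positions of its roots. -/
abbrev Level : Type := ℕ × ℕ × List ℕ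

/-- Depth first search; the per-level operation is a parameter. -/
noncomputable def search (op : ℕ → List ℕ → ℕ → (ℕ → Bool) → Bool) (leaf : ℕ → Bool) (cand : List ℕ)
    (L : List Level) : ℕ → ℕ → ℕ → Bool :=
  List.rec (fun _ _ S => leaf S) (fun lv _ ih V b S => scan lv.1 b (fun a =>
    force (V + a * lv.2.1) fun V' => op V' lv.2.2 S fun S' =>
      force (b - a * lv.1) fun b' => ih V' b' S') cand) L

/-- The levels are those of the list of roots `R`. -/
def okLevels (w mult : ℕ) (R : List (List ℕ)) : List Level → ℕ → ℕ → Bool
  | [], _, st => st == R.length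
  | lv :: L, k, st =>
    (lv.2.1 == pk w (R.map fun r => mult * r.getD k 0)) &&
    (lv.2.2 == (List.range' st lv.2.2.length).map (w * ·)) &&
    decide (st + lv.2.2.length ≤ R.length) &&
    (((R.drop st).take lv.2.2.length).all fun r => (r.drop (k + 1)).all (· == 0)) &&
    okLevels w mult R L (k + 1) (st + lv.2.2.length)

theorem dot_nil (r : List ℕ) : dot r [] = 0 := by cases r <;> rfl

theorem dot_append_single : ∀ (r acc : List ℕ) (a : ℕ),
    dot r (acc ++ [a]) = dot r acc + a * r.getD acc.length 0 := by
  intro r
  induction r with
  | nil => intro acc a; simp [dot]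
  | cons x r ih =>
    intro acc a
    cases acc with
    | nil => simp [dot, dot_nil, Nat.mul_comm]
    | cons y acc => simp [dot, ih, Nat.add_assoc]

theorem dot_of_zero : ∀ (r us : List ℕ), (∀ x ∈ r, x = 0) → dot r us = 0 := by
  intro r
  induction r with
  | nil => intros; simp [dot]
  | cons x r ih =>
    intro us h
    cases us with
    | nil => rfl
    | cons y us => simp [dot, h x (by simp), ih us fun z hz => h z (by simp [hz])]

theorem dot_prefix : ∀ (r acc rest : List ℕ), (∀ x ∈ r.drop acc.length, x = 0) →
    dot r (acc ++ rest) = dot r acc := by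
  intro r
  induction r with
  | nil => intros; simp [dot]
  | cons x r ih =>
    intro acc rest h
    cases acc with
    | nil => rw [List.nil_append, dot_nil, dot_of_zero _ _ (by simpa using h)]
    | cons y acc => simp [dot, ih acc rest (by simpa using h)]

theorem dot_le_append : ∀ (r acc rest : List ℕ), dot r acc ≤ dot r (acc ++ rest) := by
  intro r
  induction r with
  | nil => intros; simp [dot]
  | cons x r ih =>
    intro acc rest
    cases acc with
    | nil => simp [dot_nil]
    | cons y acc => simpa [dot] using ih acc rest

theorem pk_add (w a : ℕ) : ∀ (R : List (List ℕ)) (f g : List ℕ → ℕ),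
    pk w (R.map f) + a * pk w (R.map g) = pk w (R.map fun r => f r + a * g r) := by
  intro R
  induction R with
  | nil => intros; simp [pk]
  | cons r R ih =>
    intro f g
    simp only [List.map_cons, pk]
    rw [← ih f g]
    ring

/-- Soundness: the invariant `Inv` holds along the path of every point, so the leaf test holds. -/
theorem search_sound {op : ℕ → List ℕ → ℕ → (ℕ → Bool) → Bool} {leaf : ℕ → Bool} {cand : List ℕ}
    (hcand : cand.Pairwise (· < ·)) {w mult : ℕ} {R : List (List ℕ)}
    (full : List ℕ) (hw : ∀ r ∈ R, mult * dot r full < 2 ^ w) (hfull : ∀ a ∈ full, a ∈ cand)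
    (state : ℕ → ℕ)
    (hop : ∀ (V S : ℕ) (shs : List ℕ) (st : ℕ) (k : ℕ → Bool), st + shs.length ≤ R.length →
      shs.map (fun sh => fld (2 ^ w - 1) V sh)
        = ((R.drop st).take shs.length).map (fun r => mult * dot r full) →
      S = state st → op V shs S k = true → k (state (st + shs.length)) = true) :
    ∀ (L : List Level) (acc rest : List ℕ) (st b : ℕ), acc ++ rest = full → rest.length = L.length →
      okLevels w mult R L acc.length st = true → dot (L.map Prod.fst) rest ≤ b →
      search op leaf cand L (pk w (R.map fun r => mult * dot r acc)) b (state st) = true →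
      leaf (state R.length) = true := by
  intro L
  induction L with
  | nil =>
    intro acc rest st b _ _ hok _ h
    simp only [okLevels, beq_iff_eq] at hok
    rw [← hok]
    exact h
  | cons lv L ih =>
    intro acc rest st b hacc hlen hok hb h
    cases rest with
    | nil => simp at hlen
    | cons a rest =>
      simp only [okLevels, Bool.and_eq_true, beq_iff_eq, decide_eq_true_eq, List.all_eq_true] at hok
      obtain ⟨⟨⟨⟨hcol, hshs⟩, hst⟩, hz⟩, hrest⟩ := hok
      simp only [List.map_cons, dot] at hb
      change scan lv.1 b (fun a => force (pk w (R.map fun r => mult * dot r acc) + a * lv.2.1)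
        fun V' => op V' lv.2.2 (state st) fun S' =>
          force (b - a * lv.1) fun b' => search op leaf cand L V' b' S') cand = true at h
      have hb1 : a * lv.1 ≤ b := by rw [Nat.mul_comm]; omega
      have h1 := scan_sound hcand h a (hfull a (by rw [← hacc]; simp)) hb1
      rw [force_eq] at h1
      have hV : pk w (R.map fun r => mult * dot r acc) + a * lv.2.1
          = pk w (R.map fun r => mult * dot r (acc ++ [a])) := by
        rw [hcol, pk_add]
        congr 1
        refine List.map_congr_left fun r _ => ?_
        rw [dot_append_single]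
        ring
      rw [hV] at h1
      have hacc' : (acc ++ [a]) ++ rest = full := by rw [← hacc]; simp
      have hvals : lv.2.2.map (fun sh => fld (2 ^ w - 1) (pk w (R.map fun r => mult * dot r (acc ++ [a]))) sh)
          = ((R.drop st).take lv.2.2.length).map (fun r => mult * dot r full) := by
        refine List.ext_getElem (by simp; omega) fun i h1 h2 => ?_
        simp only [List.length_map] at h1
        rw [List.getElem_map, List.getElem_map]
        have e : lv.2.2[i] = w * (st + i) := by
          have e0 := List.getElem_of_eq hshs h1
          rw [e0]; simp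
        have hi : st + i < R.length := by omega
        rw [e, fld_pk _ (fun x hx => ?_) _ (by simpa using hi)]
        · simp only [List.getD_eq_getElem?_getD, List.getElem?_map, List.getElem?_eq_getElem hi,
            Option.map_some, Option.getD_some, List.getElem_take, List.getElem_drop]
          congr 1
          refine Eq.trans (dot_prefix _ _ rest ?_).symm (congrArg _ hacc')
          intro x hx
          have hm : R[st + i] ∈ (R.drop st).take lv.2.2.length := by
            rw [List.mem_iff_getElem]
            exact ⟨i, by simp; omega, by simp⟩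
          exact hz _ hm x (by simpa using hx)
        · simp only [List.mem_map] at hx
          obtain ⟨r, hr, rfl⟩ := hx
          refine lt_of_le_of_lt (Nat.mul_le_mul_left _ ?_) (hw r hr)
          rw [← hacc']
          exact dot_le_append _ _ _
      have h2 := hop _ _ _ st _ hst hvals rfl h1
      rw [force_eq] at h2
      refine ih (acc ++ [a]) rest (st + lv.2.2.length) (b - a * lv.1) hacc' (by simpa using hlen)
        (by simpa using hrest) ?_ h2
      rw [Nat.mul_comm a lv.1]
      omega

end Cfsg.Agent.Chevalley.NoSub.Walk
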