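import Cfsg.Agent.Chevalley.NoSub.CodeField32
import Cfsg.Agent.Chevalley.NoSub.GFCheck
import Cfsg.Agent.Chevalley.NoSub.Walk
import Mathlib.Data.List.Chain

/-!
Sums of class functions over SL(2, 32) through the tabulated counts.
-/

set_option autoImplicit false
set_option linter.style.haveILetI false
set_option linter.unusedSectionVars false
set_option maxRecDepth 100000
set_option maxHeartbeats 1000000

namespace Cfsg.Agent.Chevalley.NoSub.GF32

open scoped MatrixGroups

variable {F : Type*} [Field F] [Fintype F] [DecidableEq F] [CharP F 2]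

/-- A coordinate system on the field by codes. -/
structure Coord (F : Type*) [Field F] where
  α : F
  root : α ^ 5 = α ^ 2 + 1
  code : F → ℕ
  code_lt : ∀ y, code y < 32
  iota_code : ∀ y, iota α (code y) = y
  code_iota : ∀ a, a < 32 → code (iota α a) = a

theorem iota_gmul {α : F} (hα : α ^ 5 = α ^ 2 + 1) {a b : ℕ} (ha : a < 32) (hb : b < 32) :
    iota α (gmul a b) = iota α a * iota α b ∧ gmul a b < 32 := by
  have h := List.all_eq_true.1 (List.all_eq_true.1 mul_table a (List.mem_range.2 ha)) b (List.mem_range.2 hb)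
  rw [beq_iff_eq] at h
  rw [h]
  exact ⟨iota_gmulSlow hα 5 a b ha, gmulSlow_lt 5 a b ha⟩

theorem iota_one (α : F) : iota α 1 = 1 := by
  simp [iota, Finset.sum_range_succ, Nat.testBit_succ]

theorem iota_zero (α : F) : iota α 0 = 0 := by simp [iota]

theorem exists_coord (hF : Fintype.card F = 32) : Nonempty (Coord F) := by
  obtain ⟨α, hα⟩ := exists_root hF
  have hinj : Function.Injective fun a : Fin 32 => iota α a.val := by
    intro a b h
    by_contra hne
    have hx : Nat.xor a.val b.val < 32 := Nat.xor_lt_two_pow (n := 5) a.isLt b.isLt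
    have hx0 : Nat.xor a.val b.val ≠ 0 := fun h0 => hne (Fin.ext (Nat.eq_of_testBit_eq fun i => by
      have h1 : (a.val ^^^ b.val).testBit i = false := by rw [show a.val ^^^ b.val = 0 from h0, Nat.zero_testBit]
      rw [Nat.testBit_xor] at h1
      simpa using h1))
    have h' := List.all_eq_true.1 inv_table _ (List.mem_range.2 hx)
    rw [Bool.or_eq_true, beq_iff_eq, beq_iff_eq] at h'
    have hinv : ∀ i, invTab.getD i 0 < 32 := by
      intro i
      rw [List.getD_eq_getElem?_getD]
      rcases hi : invTab[i]? with _ | y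
      · simp
      · have hm := List.mem_of_getElem? hi
        revert hm
        have : ∀ z ∈ invTab, z < 32 := by decide +kernel
        exact fun hm => this y hm
    have h1 := (iota_gmul hα hx (hinv (Nat.xor a.val b.val))).1
    rw [h'.resolve_left hx0, iota_one, iota_xor, show iota α a.val = iota α b.val from h,
      CharTwo.add_self_eq_zero, zero_mul] at h1
    exact one_ne_zero h1
  have hbij := (Fintype.bijective_iff_injective_and_card _).2 ⟨hinj, by rw [Fintype.card_fin, hF]⟩
  let e := Equiv.ofBijective _ hbij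
  refine ⟨⟨α, hα, fun y => (e.symm y).val, fun y => (e.symm y).isLt, fun y => e.apply_symm_apply y,
    fun a ha => ?_⟩⟩
  exact congrArg Fin.val (e.symm_apply_apply ⟨a, ha⟩)

namespace Coord

variable (C : Coord F)

theorem code_inj {x y : F} (h : C.code x = C.code y) : x = y := by
  rw [← C.iota_code x, h, C.iota_code]

theorem code_add (x y : F) : C.code (x + y) = Nat.xor (C.code x) (C.code y) := by
  conv_lhs => rw [← C.iota_code x, ← C.iota_code y, ← iota_xor]
  exact C.code_iota _ (Nat.xor_lt_two_pow (n := 5) (C.code_lt x) (C.code_lt y))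

theorem code_mul (x y : F) : C.code (x * y) = gmul (C.code x) (C.code y) := by
  obtain ⟨h1, h2⟩ := iota_gmul C.root (C.code_lt x) (C.code_lt y)
  conv_lhs => rw [← C.iota_code x, ← C.iota_code y, ← h1]
  exact C.code_iota _ h2

theorem code_one : C.code 1 = 1 := by rw [← iota_one C.α, C.code_iota _ (by norm_num)]

theorem code_zero : C.code 0 = 0 := by rw [← iota_zero C.α, C.code_iota _ (by norm_num)]

/-- The codes of a matrix. -/
def toCode (g : SL(2, F)) : Code :=
  (C.code ((g : Matrix (Fin 2) (Fin 2) F) 0 0), C.code ((g : Matrix (Fin 2) (Fin 2) F) 0 1),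
    C.code ((g : Matrix (Fin 2) (Fin 2) F) 1 0), C.code ((g : Matrix (Fin 2) (Fin 2) F) 1 1))

theorem toCode_inj {g h : SL(2, F)} (e : C.toCode g = C.toCode h) : g = h := by
  simp only [toCode, Prod.mk.injEq] at e
  obtain ⟨h0, h1, h2, h3⟩ := e
  refine Subtype.ext (Matrix.ext fun i j => ?_)
  fin_cases i <;> fin_cases j
  exacts [C.code_inj h0, C.code_inj h1, C.code_inj h2, C.code_inj h3]

theorem toCode_one : C.toCode 1 = cone := by simp [toCode, cone, code_one, code_zero]

theorem toCode_mul (g h : SL(2, F)) : C.toCode (g * h) = cmul (C.toCode g) (C.toCode h) := by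
  simp [toCode, cmul, Matrix.mul_apply, Fin.sum_univ_two, code_add, code_mul]

theorem toCode_pow (g : SL(2, F)) : ∀ k, C.toCode (g ^ k) = cpow (C.toCode g) k
  | 0 => by rw [pow_zero, toCode_one]; rfl
  | k + 1 => by rw [pow_succ, toCode_mul, toCode_pow g k]; rfl

theorem ceq_iff (x y : Code) : ceq x y = true ↔ x = y := by
  obtain ⟨a, b, c, d⟩ := x
  obtain ⟨a', b', c', d'⟩ := y
  simp [ceq, and_assoc]

/-- The class of an element. -/
noncomputable def key (g : SL(2, F)) : ℕ := ckey (C.toCode g)

open Classical in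
theorem key_eq (g : SL(2, F)) :
    C.key g = if g = 1 then 32 else C.code ((g : Matrix (Fin 2) (Fin 2) F) 0 0 + (g : Matrix (Fin 2) (Fin 2) F) 1 1) := by
  unfold key ckey
  rcases Bool.eq_false_or_eq_true (ceq (C.toCode g) cone) with h | h
  · rw [h, cond_true, if_pos (C.toCode_inj ((ceq_iff _ _).1 h |>.trans C.toCode_one.symm))]
  · rw [h, cond_false, if_neg (fun hg => by
      rw [hg, toCode_one, Bool.eq_false_iff] at h
      exact h ((ceq_iff _ _).2 rfl)), code_add]
    rfl

theorem key_lt (g : SL(2, F)) : C.key g < 33 := by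
  classical
  rw [key_eq]
  split
  · norm_num
  · exact lt_trans (C.code_lt _) (by norm_num)

/-- The companion matrix of a trace. -/
def compM (x : F) : SL(2, F) := ⟨!![x, 1; 1, 0], by rw [Matrix.det_fin_two_of]; simp [CharTwo.neg_eq]⟩

/-- The representative of a class. -/
def rep (t : ℕ) : SL(2, F) := if t = 32 then 1 else compM (iota C.α t)

theorem toCode_rep {t : ℕ} (ht : t < 33) : C.toCode (C.rep t) = crep t := by
  by_cases h : t = 32
  · simp [rep, crep, h, C.toCode_one]
  · simp [rep, crep, h, compM, toCode, code_one, code_zero, C.code_iota t (by omega)]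

/-- Every element is conjugate to the representative of its class. -/
theorem exists_conj_rep (g : SL(2, F)) : ∃ h, h * C.rep (C.key g) * h⁻¹ = g := by
  classical
  by_cases hg : g = 1
  · exact ⟨1, by simp [key_eq, hg, rep]⟩
  have hk : C.rep (C.key g) = compM ((g : Matrix (Fin 2) (Fin 2) F) 0 0 + (g : Matrix (Fin 2) (Fin 2) F) 1 1) := by
    have := C.code_lt ((g : Matrix (Fin 2) (Fin 2) F) 0 0 + (g : Matrix (Fin 2) (Fin 2) F) 1 1)
    rw [key_eq, if_neg hg]
    simp only [rep, if_neg (show ¬ C.code ((g : Matrix (Fin 2) (Fin 2) F) 0 0 + (g : Matrix (Fin 2) (Fin 2) F) 1 1) = 32 by omega), C.iota_code]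
  have hdet : (g : Matrix (Fin 2) (Fin 2) F) 0 0 * (g : Matrix (Fin 2) (Fin 2) F) 1 1 -
      (g : Matrix (Fin 2) (Fin 2) F) 0 1 * (g : Matrix (Fin 2) (Fin 2) F) 1 0 = 1 := by
    rw [← Matrix.det_fin_two]; exact g.det_coe
  obtain ⟨x, y, hD⟩ : ∃ x y : F, ((g : Matrix (Fin 2) (Fin 2) F) 0 0 * x + (g : Matrix (Fin 2) (Fin 2) F) 0 1 * y) * y -
      ((g : Matrix (Fin 2) (Fin 2) F) 1 0 * x + (g : Matrix (Fin 2) (Fin 2) F) 1 1 * y) * x ≠ 0 := by
    by_cases hc : (g : Matrix (Fin 2) (Fin 2) F) 1 0 = 0
    · by_cases hb : (g : Matrix (Fin 2) (Fin 2) F) 0 1 = 0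
      · refine ⟨1, 1, fun h => hg ?_⟩
        simp only [hb, hc, mul_one, add_zero, zero_add, sub_eq_zero] at h
        rw [hb, hc, mul_zero, sub_zero, ← h] at hdet
        have h1 : (g : Matrix (Fin 2) (Fin 2) F) 0 0 = 1 := by
          have := (sq_eq_one_iff (a := (g : Matrix (Fin 2) (Fin 2) F) 0 0)).1 (by rw [pow_two]; exact hdet)
          rcases this with h' | h'
          · exact h'
          · rw [h', CharTwo.neg_eq]
        refine Subtype.ext (Matrix.ext fun i j => ?_)
        fin_cases i <;> fin_cases j <;> simp [hb, hc, h1, ← h]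
      · exact ⟨0, 1, by simpa using hb⟩
    · exact ⟨1, 0, by simpa using hc⟩
  obtain ⟨s, hs⟩ : ∃ s : F, s ^ 2 = ((g : Matrix (Fin 2) (Fin 2) F) 0 0 * x + (g : Matrix (Fin 2) (Fin 2) F) 0 1 * y) * y -
      ((g : Matrix (Fin 2) (Fin 2) F) 1 0 * x + (g : Matrix (Fin 2) (Fin 2) F) 1 1 * y) * x :=
    ((Fintype.bijective_iff_injective_and_card (frobenius F 2)).2 ⟨frobenius_inj F 2, rfl⟩).2 _
  have hs0 : s ≠ 0 := fun h => hD (by rw [← hs, h]; simp)
  let h : SL(2, F) := ⟨!![s⁻¹ * ((g : Matrix (Fin 2) (Fin 2) F) 0 0 * x + (g : Matrix (Fin 2) (Fin 2) F) 0 1 * y), s⁻¹ * x;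
      s⁻¹ * ((g : Matrix (Fin 2) (Fin 2) F) 1 0 * x + (g : Matrix (Fin 2) (Fin 2) F) 1 1 * y), s⁻¹ * y], by
    rw [Matrix.det_fin_two_of]
    field_simp
    linear_combination -hs⟩
  refine ⟨h, ?_⟩
  rw [hk, mul_inv_eq_iff_eq_mul]
  refine Subtype.ext ?_
  rw [Matrix.SpecialLinearGroup.coe_mul, Matrix.SpecialLinearGroup.coe_mul]
  refine Matrix.ext fun i j => ?_
  have h2 : (2 : F) = 0 := CharTwo.two_eq_zero
  fin_cases i <;> fin_cases j <;> simp [h, compM, Matrix.mul_apply, Fin.sum_univ_two] <;> grind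

theorem key_conj (g h : SL(2, F)) : C.key (h * g * h⁻¹) = C.key g := by
  classical
  rw [key_eq, key_eq]
  by_cases hg : g = 1
  · rw [if_pos hg, if_pos (by rw [hg, mul_one, mul_inv_cancel])]
  · rw [if_neg hg, if_neg (by rwa [mul_inv_eq_one, mul_eq_left])]
    congr 1
    rw [← Matrix.trace_fin_two, ← Matrix.trace_fin_two, Matrix.SpecialLinearGroup.coe_mul, Matrix.trace_mul_comm,
      ← Matrix.SpecialLinearGroup.coe_mul, inv_mul_cancel_left]

theorem adjKey_eq (g x : SL(2, F)) : adjKey (C.toCode g) (C.toCode x) = C.key (x⁻¹ * g) := by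
  classical
  rw [key_eq]
  unfold adjKey
  rcases Bool.eq_false_or_eq_true (ceq (C.toCode x) (C.toCode g)) with h | h
  · rw [h, cond_true, if_pos (by rw [C.toCode_inj ((ceq_iff _ _).1 h), inv_mul_cancel])]
  · rw [h, cond_false, if_neg (fun hg => by
      rw [inv_mul_eq_one.1 hg, Bool.eq_false_iff] at h
      exact h ((ceq_iff _ _).2 rfl))]
    simp [toCode, Matrix.SpecialLinearGroup.coe_inv, Matrix.adjugate_fin_two, Matrix.mul_apply, Fin.sum_univ_two,
      CharTwo.neg_eq, code_add, code_mul]

theorem key_inv (g : SL(2, F)) : C.key g⁻¹ = C.key g := by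
  classical
  rw [key_eq, key_eq]
  by_cases hg : g = 1
  · rw [if_pos hg, if_pos (by rw [hg, inv_one])]
  · rw [if_neg hg, if_neg (by rwa [inv_eq_one]), add_comm]
    congr 1
    simp [Matrix.SpecialLinearGroup.coe_inv, Matrix.adjugate_fin_two]

/-- Decidable membership in a listed class. -/
noncomputable def validCode (s : ℕ) (x : Code) : Bool :=
  Nat.blt x.1 32 && Nat.blt x.2.1 32 && Nat.blt x.2.2.1 32 && Nat.blt x.2.2.2 32 &&
    Nat.beq (Nat.xor (gmul x.1 x.2.2.2) (gmul x.2.1 x.2.2.1)) 1 && Nat.beq (ckey x) s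

/-- A number for a code. -/
def codeNum (x : Code) : ℕ := x.1 * 1024 + x.2.1 * 32 + x.2.2.1

/-- Each listed class is valid and increasing. -/
noncomputable def classOk (s : ℕ) : Bool :=
  (inClass s).all (validCode s) &&
    (List.rec (fun _ => true) (fun x _ r prev => Nat.blt prev x && r x) ((inClass s).map fun x => codeNum x + 1) : ℕ → Bool) 0

theorem classes_ok : supp.all classOk = true := by decide +kernel

theorem pairwise_of_rec : ∀ (l : List ℕ) (p : ℕ),
    (List.rec (fun _ => true) (fun x _ r prev => Nat.blt prev x && r x) l : ℕ → Bool) p = true →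
      (p :: l).Pairwise (· < ·)
  | [], p, _ => List.pairwise_singleton _ _
  | x :: l, p, h => by
    simp only [Bool.and_eq_true, Nat.blt_eq] at h
    have ih := pairwise_of_rec l x h.2
    refine List.pairwise_cons.2 ⟨fun y hy => ?_, ih⟩
    rcases List.mem_cons.1 hy with rfl | hy
    · exact h.1
    · exact lt_trans h.1 ((List.pairwise_cons.1 ih).1 y hy)

theorem inClass_nodup {s : ℕ} (hs : s ∈ supp) : (inClass s).Nodup := by
  have h := List.all_eq_true.1 classes_ok s hs
  simp only [classOk, Bool.and_eq_true] at h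
  have h1 := (List.pairwise_cons.1 (pairwise_of_rec _ 0 h.2)).2
  exact List.Nodup.of_map _ (h1.imp fun hlt => Nat.ne_of_lt hlt)

theorem mem_inClass {s : ℕ} (hs : s ∈ supp) (y : Code) :
    y ∈ inClass s ↔ ∃ x : SL(2, F), C.key x = s ∧ C.toCode x = y := by
  classical
  constructor
  · intro hy
    have h := List.all_eq_true.1 classes_ok s hs
    simp only [classOk, Bool.and_eq_true] at h
    have h1 := List.all_eq_true.1 h.1 y hy
    obtain ⟨a, b, c, d⟩ := y
    simp only [validCode, Bool.and_eq_true, Nat.blt_eq, Nat.beq_eq] at h1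
    obtain ⟨⟨⟨⟨⟨ha, hb⟩, hc⟩, hd⟩, hdet⟩, hk⟩ := h1
    let x : SL(2, F) := ⟨!![iota C.α a, iota C.α b; iota C.α c, iota C.α d], by
      rw [Matrix.det_fin_two_of, ← (iota_gmul C.root ha hd).1, ← (iota_gmul C.root hb hc).1,
        CharTwo.sub_eq_add, ← iota_xor, hdet, iota_one]⟩
    have hx : C.toCode x = (a, b, c, d) := by
      simp [toCode, x, C.code_iota _ ha, C.code_iota _ hb, C.code_iota _ hc, C.code_iota _ hd]
    exact ⟨x, by rw [key, hx, hk], hx⟩
  · rintro ⟨x, hx, rfl⟩
    have hkey := C.key_eq x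
    rw [hx] at hkey
    by_cases h1 : x = 1
    · rw [if_pos h1] at hkey
      subst hkey
      rw [h1, toCode_one]
      simp [inClass]
    rw [if_neg h1] at hkey
    have hlt := C.code_lt ((x : Matrix (Fin 2) (Fin 2) F) 0 0 + (x : Matrix (Fin 2) (Fin 2) F) 1 1)
    have hw : C.toCode x ∈ withTrace s := by
      have hd : C.code ((x : Matrix (Fin 2) (Fin 2) F) 1 1) = Nat.xor s (C.code ((x : Matrix (Fin 2) (Fin 2) F) 0 0)) := by
        rw [hkey, ← code_add]
        congr 1
        rw [add_comm, ← add_assoc, CharTwo.add_self_eq_zero, zero_add]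
      have hdet : (x : Matrix (Fin 2) (Fin 2) F) 0 0 * (x : Matrix (Fin 2) (Fin 2) F) 1 1 +
          (x : Matrix (Fin 2) (Fin 2) F) 0 1 * (x : Matrix (Fin 2) (Fin 2) F) 1 0 = 1 := by
        rw [← CharTwo.sub_eq_add, ← Matrix.det_fin_two]; exact x.det_coe
      simp only [withTrace, List.mem_flatMap, List.mem_range]
      refine ⟨_, C.code_lt ((x : Matrix (Fin 2) (Fin 2) F) 0 0), _, C.code_lt ((x : Matrix (Fin 2) (Fin 2) F) 0 1), ?_⟩
      rcases Bool.eq_false_or_eq_true (Nat.beq (C.code ((x : Matrix (Fin 2) (Fin 2) F) 0 1)) 0) with hb | hb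
      · rw [hb, cond_true]
        rw [Nat.beq_eq] at hb
        have hb0 : (x : Matrix (Fin 2) (Fin 2) F) 0 1 = 0 := C.code_inj (hb.trans C.code_zero.symm)
        rw [hb0, zero_mul, add_zero] at hdet
        rw [show Nat.beq (gmul (C.code ((x : Matrix (Fin 2) (Fin 2) F) 0 0)) (Nat.xor s (C.code ((x : Matrix (Fin 2) (Fin 2) F) 0 0)))) 1 = true
          by rw [Nat.beq_eq, ← hd, ← code_mul, hdet, code_one], cond_true, List.mem_map]
        exact ⟨_, List.mem_range.2 (C.code_lt _), by rw [← hd, toCode]⟩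
      · rw [hb, cond_false, List.mem_singleton]
        have hb0 : C.code ((x : Matrix (Fin 2) (Fin 2) F) 0 1) ≠ 0 := fun h => by simp [h] at hb
        have hc : (x : Matrix (Fin 2) (Fin 2) F) 1 0 =
            iota C.α (invTab.getD (C.code ((x : Matrix (Fin 2) (Fin 2) F) 0 1)) 0) *
              (1 + (x : Matrix (Fin 2) (Fin 2) F) 0 0 * (x : Matrix (Fin 2) (Fin 2) F) 1 1) := by
          have h' := List.all_eq_true.1 inv_table _ (List.mem_range.2 (C.code_lt ((x : Matrix (Fin 2) (Fin 2) F) 0 1)))
          rw [Bool.or_eq_true, beq_iff_eq, beq_iff_eq] at h'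
          have hinv : ∀ i, i < 32 → invTab.getD i 0 < 32 := by decide +kernel
          have h2 := (iota_gmul C.root (C.code_lt ((x : Matrix (Fin 2) (Fin 2) F) 0 1)) (hinv _ (C.code_lt ((x : Matrix (Fin 2) (Fin 2) F) 0 1)))).1
          rw [h'.resolve_left hb0, iota_one, C.iota_code] at h2
          have h3 : (2 : F) = 0 := CharTwo.two_eq_zero
          grind
        have hinv : ∀ i, i < 32 → invTab.getD i 0 < 32 := by decide +kernel
        rw [toCode, hd]
        congr 1
        congr 1
        congr 1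
        rw [hc, code_mul, code_add, code_one, code_mul, hd, C.code_iota _ (hinv _ (C.code_lt _))]
    rcases eq_or_ne s 0 with rfl | hs0
    · simp only [inClass]
      rw [show Nat.beq 0 32 = false from rfl, cond_false, show Nat.beq 0 0 = true from rfl, cond_true, List.mem_filter]
      refine ⟨hw, ?_⟩
      rw [Bool.not_eq_true', Bool.eq_false_iff, Ne, ceq_iff, ← C.toCode_one]
      exact fun h => h1 (C.toCode_inj h)
    · have hs32 : s ≠ 32 := by omega
      simp only [inClass]
      rw [show Nat.beq s 32 = false by rw [Bool.eq_false_iff, Ne, Nat.beq_eq]; exact hs32,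
        show Nat.beq s 0 = false by rw [Bool.eq_false_iff, Ne, Nat.beq_eq]; exact hs0, cond_false, cond_false]
      exact hw

theorem sum_fiber {M : Type*} [AddCommMonoid M] {s : ℕ} (hs : s ∈ supp) (φ : Code → M) :
    ∑ x ∈ Finset.univ.filter (fun x : SL(2, F) => C.key x = s), φ (C.toCode x) = ((inClass s).map φ).sum := by
  classical
  rw [← List.sum_toFinset _ (inClass_nodup hs),
    ← Finset.sum_image (f := φ) (g := C.toCode) fun x _ y _ h => C.toCode_inj h]
  refine Finset.sum_congr ?_ fun _ _ => rfl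
  ext y
  simp [C.mem_inClass hs y]

theorem adjKey_lt {s : ℕ} (hs : s ∈ supp) (g : SL(2, F)) : ∀ y ∈ inClass s, adjKey (C.toCode g) y < 33 := by
  intro y hy
  obtain ⟨x, -, rfl⟩ := (C.mem_inClass hs y).1 hy
  rw [adjKey_eq]
  exact C.key_lt _

theorem pk_range (w : ℕ) : ∀ (n : ℕ) (f : ℕ → ℕ),
    Walk.pk w ((List.range n).map f) = ∑ i ∈ Finset.range n, f i * 2 ^ (w * i)
  | 0, f => by simp [Walk.pk]
  | n + 1, f => by
    rw [List.range_succ_eq_map, List.map_cons, List.map_map, Walk.pk, pk_range w n (f ∘ Nat.succ),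
      Finset.sum_range_succ', Finset.mul_sum, add_comm]
    congr 1
    · exact Finset.sum_congr rfl fun i _ => by simp only [Function.comp_apply]; rw [Nat.mul_succ, pow_add]; ring
    · simp

theorem hist_rec (n w : ℕ) (f : Code → ℕ) : ∀ L : List Code, (∀ y ∈ L, f y < n) →
    (List.rec 0 (fun x _ r => Nat.add r (2 ^ (w * f x))) L : ℕ) =
      ∑ i ∈ Finset.range n, (L.map f).count i * 2 ^ (w * i) := by
  intro L
  induction L with
  | nil => simp
  | cons x L ih =>
    intro hL
    show Nat.add (List.rec 0 (fun x _ r => Nat.add r (2 ^ (w * f x))) L : ℕ) _ = _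
    rw [ih fun y hy => hL y (by simp [hy])]
    simp only [List.map_cons, List.count_cons, add_mul, Finset.sum_add_distrib, Nat.add_eq]
    congr 1
    rw [Finset.sum_eq_single (f x)]
    · simp
    · intro b _ hb; simp [Ne.symm hb]
    · intro h; exact absurd (Finset.mem_range.2 (hL x (by simp))) h

theorem histAt_eq {s : ℕ} (hs : s ∈ supp) (g : SL(2, F)) {u : ℕ} (hu : u < 33) :
    histAt (pairHist (C.toCode g) s) u = ((inClass s).map (adjKey (C.toCode g))).count u := by
  show Walk.fld (2 ^ 16 - 1) _ (16 * u) = _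
  rw [pairHist, hist_rec 33 16 _ _ (C.adjKey_lt hs g), ← pk_range,
    Walk.fld_pk _ (fun c hc => ?_) u (by simpa using hu)]
  · rw [List.getD_eq_getElem?_getD, List.getElem?_map, List.getElem?_range hu]
    rfl
  · obtain ⟨i, -, rfl⟩ := List.mem_map.1 hc
    refine lt_of_le_of_lt List.count_le_length ?_
    rw [List.length_map]
    revert hs
    have : ∀ s ∈ supp, (inClass s).length < 2 ^ 16 := by decide +kernel
    exact this s

/-- Sums of functions of two classes through the counts. -/
theorem sum_counts {M : Type*} [AddCommMonoid M] {s : ℕ} (hs : s ∈ supp) (g : SL(2, F)) (Φ : ℕ → M) :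
    ∑ x ∈ Finset.univ.filter (fun x : SL(2, F) => C.key x = s), Φ (C.key (x⁻¹ * g)) =
      ∑ u ∈ Finset.range 33, histAt (pairHist (C.toCode g) s) u • Φ u := by
  have h1 := C.sum_fiber hs fun y => Φ (adjKey (C.toCode g) y)
  simp only [adjKey_eq] at h1
  rw [h1, Finset.sum_congr rfl fun u hu => by rw [C.histAt_eq hs g (Finset.mem_range.1 hu)]]
  have key : ∀ L : List ℕ, (∀ y ∈ L, y < 33) → (L.map Φ).sum = ∑ u ∈ Finset.range 33, L.count u • Φ u := by
    intro L
    induction L with
    | nil => simp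
    | cons x L ih =>
      intro hL
      simp only [List.map_cons, List.sum_cons, List.count_cons, add_nsmul, Finset.sum_add_distrib,
        ih fun y hy => hL y (by simp [hy])]
      rw [add_comm]
      congr 1
      rw [Finset.sum_eq_single x]
      · simp
      · intro b _ hb; simp [Ne.symm hb]
      · intro h; exact absurd (Finset.mem_range.2 (hL x (by simp))) h
  have h2 := key ((inClass s).map (adjKey (C.toCode g))) (List.forall_mem_map.2 (C.adjKey_lt hs g))
  rw [List.map_map] at h2
  exact h2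

end Coord

end Cfsg.Agent.Chevalley.NoSub.GF32
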