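import Cfsg.Agent.Chevalley.NoSub.GFTables
import Mathlib.LinearAlgebra.Matrix.SpecialLinearGroup
import Mathlib.FieldTheory.Finite.Basic
import Mathlib.Algebra.CharP.Two
import Mathlib.Algebra.Polynomial.Roots

/-!
The field with thirty-two elements as codes, and conjugacy in SL(2, 32).
-/

set_option autoImplicit false
set_option linter.style.haveILetI false
set_option linter.unusedSectionVars false
set_option maxRecDepth 100000
set_option maxHeartbeats 1000000

namespace Cfsg.Agent.Chevalley.NoSub.GF32

open scoped MatrixGroups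

variable {F : Type*} [Field F]

/-- The element with a given code. -/
def iota (α : F) (a : ℕ) : F := ∑ i ∈ Finset.range 5, if a.testBit i then α ^ i else 0

variable [CharP F 2]

theorem iota_xor (α : F) (a b : ℕ) : iota α (Nat.xor a b) = iota α a + iota α b := by
  rw [iota, iota, iota, ← Finset.sum_add_distrib]
  refine Finset.sum_congr rfl fun i _ => ?_
  rw [show Nat.xor a b = a ^^^ b from rfl, Nat.testBit_xor]
  cases a.testBit i <;> cases b.testBit i <;> simp [CharTwo.add_self_eq_zero]

theorem shl1_bits : ∀ a, a < 32 → shl1 a < 32 ∧ (shl1 a).testBit 0 = a.testBit 4 ∧ (shl1 a).testBit 1 = a.testBit 0 ∧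
    (shl1 a).testBit 2 = xor (a.testBit 1) (a.testBit 4) ∧ (shl1 a).testBit 3 = a.testBit 2 ∧
    (shl1 a).testBit 4 = a.testBit 3 := by decide +kernel

theorem iota_shl1 {α : F} (hα : α ^ 5 = α ^ 2 + 1) {a : ℕ} (ha : a < 32) : iota α (shl1 a) = α * iota α a := by
  obtain ⟨-, h0, h1, h2, h3, h4⟩ := shl1_bits a ha
  simp only [iota, Finset.sum_range_succ, Finset.sum_range_zero, h0, h1, h2, h3, h4]
  have h2' : (2 : F) = 0 := CharTwo.two_eq_zero
  cases a.testBit 0 <;> cases a.testBit 1 <;> cases a.testBit 2 <;> cases a.testBit 3 <;> cases a.testBit 4 <;>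
    simp <;> grind

theorem gmulSlow_lt : ∀ k a b, a < 32 → gmulSlow k a b < 32
  | 0, _, _, _ => by simp [gmulSlow]
  | k + 1, a, b, ha => by
    simp only [gmulSlow]
    refine Nat.xor_lt_two_pow (n := 5) ?_ (gmulSlow_lt k _ _ (shl1_bits a ha).1)
    split <;> omega

theorem iota_gmulSlow {α : F} (hα : α ^ 5 = α ^ 2 + 1) : ∀ k a b, a < 32 →
    iota α (gmulSlow k a b) = iota α a * ∑ i ∈ Finset.range k, if b.testBit i then α ^ i else 0
  | 0, _, _, _ => by simp [gmulSlow, iota]
  | k + 1, a, b, ha => by
    simp only [gmulSlow]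
    rw [iota_xor, iota_gmulSlow hα k _ _ (shl1_bits a ha).1, iota_shl1 hα ha, Finset.sum_range_succ' _ k,
      mul_add, add_comm]
    congr 1
    · rw [mul_comm α, mul_assoc, Finset.mul_sum, Finset.mul_sum, Finset.mul_sum]
      refine Finset.sum_congr rfl fun i _ => ?_
      rw [Nat.testBit_succ]
      split <;> simp [pow_succ']
    · rw [Nat.testBit_zero]
      split <;> simp_all [iota]

variable [Fintype F]

theorem exists_root (hF : Fintype.card F = 32) : ∃ α : F, α ^ 5 = α ^ 2 + 1 := by
  classical
  by_contra hne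
  push Not at hne
  have h2 : (2 : F) = 0 := CharTwo.two_eq_zero
  set q : Polynomial F := Polynomial.X ^ 27 + Polynomial.X ^ 24 + Polynomial.X ^ 22 + Polynomial.X ^ 21 + Polynomial.X ^ 18 +
    Polynomial.X ^ 17 + Polynomial.X ^ 16 + Polynomial.X ^ 15 + Polynomial.X ^ 14 + Polynomial.X ^ 10 +
    Polynomial.X ^ 9 + Polynomial.X ^ 7 + Polynomial.X ^ 6 + Polynomial.X ^ 5 + Polynomial.X ^ 3 + Polynomial.X with hqdef
  have hq : ∀ x : F, q.eval x = 0 := by
    intro x
    have h32 : x ^ 32 = x := by
      have := FiniteField.pow_card x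
      rwa [hF] at this
    have hmul : (x ^ 5 + x ^ 2 + 1) * q.eval x = 0 := by
      simp only [q, Polynomial.eval_add, Polynomial.eval_pow, Polynomial.eval_X]
      ring_nf
      simp only [h2, mul_zero, add_zero, zero_add, CharTwo.add_self_eq_zero]
      grind
    refine (mul_eq_zero.1 hmul).resolve_left fun h => hne x ?_
    grind
  have hdeg : q.natDegree ≤ 27 := by simp only [q]; compute_degree
  have hq0 : q ≠ 0 := fun h => by
    have := congrArg (fun p : Polynomial F => p.coeff 27) h
    simp [q, Polynomial.coeff_X_pow, Polynomial.coeff_X] at this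
  have := Polynomial.card_le_degree_of_subset_roots (Z := Finset.univ) (p := q) fun x _ => by
    rw [Polynomial.mem_roots hq0]; exact hq x
  rw [Finset.card_univ, hF] at this
  omega

end Cfsg.Agent.Chevalley.NoSub.GF32
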