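import Cfsg.Agent.Chevalley.NoSub.Lifting
import Mathlib.LinearAlgebra.FiniteDimensional.Lemmas
import Mathlib.FieldTheory.Finiteness

/-!
Dimensions of fixed spaces of two-groups in characteristic three, and the action of a `p`-group of
order exceeding the dimension.
-/

set_option autoImplicit false
set_option linter.style.haveILetI false
set_option linter.unusedSectionVars false

namespace Cfsg.Agent.Chevalley.NoSub

open Matrix

variable {n : Type*} [Fintype n] [DecidableEq n]

theorem rank_idem_map {K L : Type*} [Field K] [Field L] (f : K →+* L) {E : Matrix n n K}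
    (hE : E * E = E) : (E.map f).rank = E.rank := by
  classical
  obtain ⟨P, s, rfl⟩ := idem_diag hE
  have hu : IsUnit ((P : Matrix n n K).map f) := P.isUnit.map f.mapMatrix
  have hu' : IsUnit ((↑P⁻¹ : Matrix n n K).map f) := P⁻¹.isUnit.map f.mapMatrix
  rw [Matrix.map_mul, Matrix.map_mul,
    Matrix.rank_mul_eq_left_of_isUnit_det _ _ ((Matrix.isUnit_iff_isUnit_det _).1 hu'),
    Matrix.rank_mul_eq_right_of_isUnit_det _ _ ((Matrix.isUnit_iff_isUnit_det _).1 hu),
    Matrix.rank_mul_eq_left_of_isUnit_det _ _ ((Matrix.isUnit_iff_isUnit_det _).1 P⁻¹.isUnit),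
    Matrix.rank_mul_eq_right_of_isUnit_det _ _ ((Matrix.isUnit_iff_isUnit_det _).1 P.isUnit),
    Matrix.diagonal_map f.map_zero, Matrix.rank_diagonal, Matrix.rank_diagonal,
    Fintype.card_subtype, Fintype.card_subtype]
  congr 1
  ext i
  by_cases h : i ∈ s <;> simp [h]

theorem trace_idem_field {K : Type*} [Field K] {E : Matrix n n K} (hE : E * E = E) :
    E.trace = (E.rank : K) := by
  haveI : IsLocalHom (RingHom.id K) := ⟨fun _ h => h⟩
  have h := trace_idem (RingHom.id K) (fun a => ⟨a, rfl⟩) (RingHom.id K) hE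
  simpa using h

theorem pow_sum_idem {A : Type*} [Ring A] {R : Type*} [CommRing R] [Algebra R A] {a : A} {l : ℕ}
    (ha : a ^ l = 1) {c : R} (hc : c * (l : R) = 1) :
    (c • ∑ i ∈ Finset.range l, a ^ i) * (c • ∑ i ∈ Finset.range l, a ^ i) = c • ∑ i ∈ Finset.range l, a ^ i := by
  set S := ∑ i ∈ Finset.range l, a ^ i with hS
  have h1 : a * S = S := by
    rw [hS, Finset.mul_sum]
    have h2 := Finset.sum_range_succ' (fun i => a ^ i) l
    have h3 := Finset.sum_range_succ (fun i => a ^ i) l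
    simp only [pow_succ', pow_zero] at h2
    rw [h2, ha] at h3
    exact add_right_cancel h3
  have h2 : ∀ i, a ^ i * S = S := fun i => by
    induction i with
    | zero => rw [pow_zero, one_mul]
    | succ i ih => rw [pow_succ, mul_assoc, h1, ih]
  have h3 : S * S = (l : R) • S := by
    nth_rewrite 1 [hS]
    rw [Finset.sum_mul, Finset.sum_congr rfl (fun i _ => h2 i), Finset.sum_const, Finset.card_range,
      Nat.cast_smul_eq_nsmul]
  rw [smul_mul_smul_comm, h3, smul_smul, mul_assoc, hc, mul_one]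

section Group

variable {Γ : Type*} [Group Γ] [Fintype Γ]

theorem group_sum_idem {A : Type*} [Ring A] {R : Type*} [CommRing R] [Algebra R A] (σ : Γ →* A)
    {c : R} (hc : c * (Fintype.card Γ : R) = 1) :
    (c • ∑ x, σ x) * (c • ∑ x, σ x) = c • ∑ x, σ x := by
  have h2 : ∀ y, σ y * ∑ x, σ x = ∑ x, σ x := fun y => by
    rw [Finset.mul_sum]
    exact Fintype.sum_equiv (Equiv.mulLeft y) _ _ fun x => (map_mul σ y x).symm
  have h3 : (∑ x, σ x) * (∑ x, σ x) = (Fintype.card Γ : R) • ∑ x, σ x := by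
    nth_rewrite 1 [Finset.sum_mul]
    rw [Finset.sum_congr rfl (fun i _ => h2 i), Finset.sum_const, Finset.card_univ,
      Nat.cast_smul_eq_nsmul]
  rw [smul_mul_smul_comm, h3, smul_smul, mul_assoc, hc, mul_one]

variable {p : ℕ} [hp : Fact p.Prime] {L : Type*} [Field L] (f : ZMod p →+* L)

/-- The dimension of the space fixed by an element of order dividing eight. -/
noncomputable def fix8 (A : Matrix n n (ZMod p)) : ℕ := ((avgPow 8 A).map f).rank

/-- The average of the image of a group. -/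
noncomputable def avgGroup (ρ : Γ →* Matrix n n (ZMod p)) : Matrix n n (ZMod p) :=
  (Fintype.card Γ : ZMod p)⁻¹ • ∑ x, ρ x

theorem card_ne_zero_zmod (hΓ : ¬ p ∣ Fintype.card Γ) : (Fintype.card Γ : ZMod p) ≠ 0 := by
  rwa [Ne, ZMod.natCast_eq_zero_iff]

theorem avgGroup_idem (hΓ : ¬ p ∣ Fintype.card Γ) (ρ : Γ →* Matrix n n (ZMod p)) :
    avgGroup ρ * avgGroup ρ = avgGroup ρ :=
  group_sum_idem ρ (inv_mul_cancel₀ (card_ne_zero_zmod hΓ))

theorem mul_avgGroup (ρ : Γ →* Matrix n n (ZMod p)) (y : Γ) : ρ y * avgGroup ρ = avgGroup ρ := by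
  rw [avgGroup, Matrix.mul_smul, Finset.mul_sum]
  congr 1
  exact Fintype.sum_equiv (Equiv.mulLeft y) _ _ fun x => (map_mul ρ y x).symm

/-- The identity of fixed space dimensions for a group of exponent dividing eight. -/
theorem fixed_identity (hp2 : p ≠ 2) (hΓ : ¬ p ∣ Fintype.card Γ) (ρ : Γ →* Matrix n n (ZMod p))
    (hexp : ∀ x : Γ, x ^ 8 = 1) :
    Fintype.card Γ * ((avgGroup ρ).map f).rank + ∑ x, fix8 f (ρ x * ρ x) = 2 * ∑ x, fix8 f (ρ x) := by
  classical
  set m := 8 * Fintype.card Γ * Fintype.card n + 8 * Fintype.card Γ with hm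
  obtain ⟨σ, hσ⟩ := exists_lift m (by rwa [Nat.card_eq_fintype_card]) ρ
  haveI : NeZero (p ^ (m + 1)) := ⟨pow_ne_zero _ hp.out.ne_zero⟩
  haveI : IsLocalRing (ZMod (p ^ (m + 1))) := by
    haveI : Nontrivial (ZMod (p ^ (m + 1))) := by
      haveI : Fact (1 < p ^ (m + 1)) := ⟨Nat.one_lt_pow (Nat.succ_ne_zero m) hp.out.one_lt⟩
      infer_instance
    exact IsLocalRing.of_isUnit_or_isUnit_one_sub_self fun a => by
      by_cases h : red p m a = 0
      · exact Or.inr (red_isUnit (by rw [map_sub, map_one, h, sub_zero]; exact one_ne_zero))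
      · exact Or.inl (red_isUnit h)
  have hinv : ∀ l : ℕ, ¬ p ∣ l → ∃ c : ZMod (p ^ (m + 1)), c * (l : ZMod (p ^ (m + 1))) = 1 ∧
      red p m c = (l : ZMod p)⁻¹ := by
    intro l hl
    have hne : red p m (l : ZMod (p ^ (m + 1))) ≠ 0 := by rwa [map_natCast, Ne, ZMod.natCast_eq_zero_iff]
    obtain ⟨u, hu⟩ := red_isUnit hne
    refine ⟨↑u⁻¹, by rw [← hu, Units.inv_mul], eq_inv_of_mul_eq_one_left ?_⟩
    rw [← map_natCast (red p m), ← map_mul, ← hu, Units.inv_mul, map_one]
  have h8 : ¬ p ∣ 8 := fun h => hp2 ((Nat.prime_dvd_prime_iff_eq hp.out Nat.prime_two).1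
    (hp.out.dvd_of_dvd_pow (show p ∣ 2 ^ 3 from h)))
  obtain ⟨c8, hc8, hc8'⟩ := hinv 8 h8
  obtain ⟨cG, hcG, hcG'⟩ := hinv _ hΓ
  have hred : ∀ (A : Matrix n n (ZMod (p ^ (m + 1)))) (c : ZMod (p ^ (m + 1))),
      (c • A).map (red p m) = red p m c • A.map (red p m) := fun A c => by
    ext i j; simp [smul_eq_mul]
  -- one element
  have hel : ∀ x : Γ, (fix8 f (ρ x) : ZMod (p ^ (m + 1))) * 8 =
      ∑ i ∈ Finset.range 8, (σ (x ^ i)).trace := by
    intro x
    have hid := pow_sum_idem (R := ZMod (p ^ (m + 1))) (a := σ x) (l := 8)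
      (by rw [← map_pow, hexp, map_one]) hc8
    have ht := trace_idem (red p m) (red_surjective m) f hid
    have he : ((c8 • ∑ i ∈ Finset.range 8, σ x ^ i).map (red p m)) = avgPow 8 (ρ x) := by
      rw [hred, hc8', avgPow]
      congr 1
      rw [← RingHom.mapMatrix_apply, map_sum]
      refine Finset.sum_congr rfl fun i _ => ?_
      rw [map_pow, RingHom.mapMatrix_apply, hσ]
    rw [he, Matrix.trace_smul, Matrix.trace_sum, smul_eq_mul] at ht
    change c8 * _ = (fix8 f (ρ x) : ZMod (p ^ (m + 1))) at ht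
    rw [← ht, show (8 : ZMod (p ^ (m + 1))) = ((8 : ℕ) : ZMod (p ^ (m + 1))) from (Nat.cast_ofNat).symm,
      mul_right_comm, hc8, one_mul]
    exact Finset.sum_congr rfl fun i _ => by rw [map_pow]
  have hG : (((avgGroup ρ).map f).rank : ZMod (p ^ (m + 1))) * (Fintype.card Γ : ZMod (p ^ (m + 1))) =
      ∑ x, (σ x).trace := by
    have hid := group_sum_idem σ hcG
    have ht := trace_idem (red p m) (red_surjective m) f hid
    have he : ((cG • ∑ x, σ x).map (red p m)) = avgGroup ρ := by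
      rw [hred, hcG', avgGroup]
      congr 1
      rw [← RingHom.mapMatrix_apply, map_sum]
      exact Finset.sum_congr rfl fun i _ => hσ i
    rw [he, Matrix.trace_smul, Matrix.trace_sum, smul_eq_mul] at ht
    rw [← ht, mul_right_comm, hcG, one_mul]
  set T : Γ → ZMod (p ^ (m + 1)) := fun x => (σ x).trace with hT
  have hodd : ∀ x : Γ, (fix8 f (ρ x) : ZMod (p ^ (m + 1))) * 8 =
      T x + T (x ^ 3) + T (x ^ 5) + T (x ^ 7) + (fix8 f (ρ x * ρ x) : ZMod (p ^ (m + 1))) * 4 := by
    intro x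
    have h2 := hel (x ^ 2)
    rw [map_pow, pow_two] at h2
    simp only [← pow_mul, Finset.sum_range_succ, Finset.sum_range_zero] at h2
    have hx : ∀ i, x ^ (8 + i) = x ^ i := fun i => by rw [pow_add, hexp, one_mul]
    simp only [show 2 * 0 = 0 from rfl, show 2 * 1 = 2 from rfl, show 2 * 2 = 4 from rfl,
      show 2 * 3 = 6 from rfl, show 2 * 4 = 8 + 0 from rfl, show 2 * 5 = 8 + 2 from rfl,
      show 2 * 6 = 8 + 4 from rfl, show 2 * 7 = 8 + 6 from rfl, hx] at h2
    have hhalf : (fix8 f (ρ x * ρ x) : ZMod (p ^ (m + 1))) * 4 =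
        T (x ^ 0) + T (x ^ 2) + T (x ^ 4) + T (x ^ 6) := by
      have h2u : IsUnit (2 : ZMod (p ^ (m + 1))) := red_isUnit (by
        rw [show (2 : ZMod (p ^ (m + 1))) = ((2 : ℕ) : ZMod (p ^ (m + 1))) from (Nat.cast_ofNat).symm,
          map_natCast, Ne, ZMod.natCast_eq_zero_iff]
        exact fun h => hp2 ((Nat.prime_dvd_prime_iff_eq hp.out Nat.prime_two).1 h))
      refine h2u.mul_right_cancel ?_
      simp only [T]
      linear_combination h2
    have h1 := hel x
    simp only [Finset.sum_range_succ, Finset.sum_range_zero] at h1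
    rw [hhalf, h1]
    simp only [T, pow_one]
    ring
  have hperm : ∀ k, Odd k → ∑ x, T (x ^ k) = ∑ x, T x := by
    intro k hk
    refine Fintype.sum_equiv (Equiv.ofBijective (fun x : Γ => x ^ k) ?_) _ _ fun x => rfl
    have : Function.Injective fun x : Γ => x ^ k := fun a b hab => by
      have hk8 : ∃ j, k * j % 8 = 1 := ⟨k, by
        obtain ⟨t, rfl⟩ := hk
        have : t % 4 = 0 ∨ t % 4 = 1 ∨ t % 4 = 2 ∨ t % 4 = 3 := by omega
        rw [Nat.mul_mod]
        rcases this with h | h | h | h <;>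
          · rw [show (2 * t + 1) % 8 = 2 * (t % 4) + 1 by omega, h]⟩
      obtain ⟨j, hj⟩ := hk8
      have e : ∀ a : Γ, (a ^ k) ^ j = a := fun a => by
        rw [← pow_mul, ← Nat.mod_add_div (k * j) 8, pow_add, pow_mul, hexp, one_pow, mul_one, hj, pow_one]
      rw [← e a, ← e b]
      exact congrArg (· ^ j) hab
    exact Finite.injective_iff_bijective.1 this
  have hsum : ((4 * (Fintype.card Γ * ((avgGroup ρ).map f).rank + ∑ x, fix8 f (ρ x * ρ x)) : ℕ) :
      ZMod (p ^ (m + 1))) = ((4 * (2 * ∑ x, fix8 f (ρ x)) : ℕ) : ZMod (p ^ (m + 1))) := by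
    push_cast
    have := Finset.sum_congr (s₁ := Finset.univ) rfl fun x _ => hodd x
    simp only [← Finset.sum_mul, Finset.sum_add_distrib, hperm 3 ⟨1, rfl⟩, hperm 5 ⟨2, rfl⟩,
      hperm 7 ⟨3, rfl⟩] at this
    rw [← hG] at this
    linear_combination -this
  have hb : ∀ A : Matrix n n L, A.rank ≤ Fintype.card n := fun A => A.rank_le_card_width
  have hbig : 8 * Fintype.card Γ * Fintype.card n + 8 * Fintype.card Γ < p ^ (m + 1) :=
    lt_of_lt_of_le (Nat.lt_succ_self _) (le_of_lt (Nat.lt_pow_self hp.out.one_lt))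
  have hs : ∀ g : Γ → Matrix n n L, ∑ x, (g x).rank ≤ Fintype.card Γ * Fintype.card n := fun g => by
    refine le_trans (Finset.sum_le_sum fun x _ => hb (g x)) ?_
    rw [Finset.sum_const, Finset.card_univ, smul_eq_mul]
  have hr := Nat.mul_le_mul_left (Fintype.card Γ) (hb ((avgGroup ρ).map f))
  have := hs fun x => (avgPow 8 (ρ x * ρ x)).map f
  have := hs fun x => (avgPow 8 (ρ x)).map f
  rw [ZMod.natCast_eq_natCast_iff', Nat.mod_eq_of_lt, Nat.mod_eq_of_lt] at hsum
  · omega
  all_goals simp only [fix8] at *; rw [Nat.mul_assoc 8] at hbig; omega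

end Group

/-- A `p`-group larger than the rank of a commuting idempotent has norm zero on its image. -/
theorem norm_mul_eq_zero {p : ℕ} [hp : Fact p.Prime] {U : Type*} [Group U] [Fintype U] (hU : IsPGroup p U)
    (σ : U →* Matrix n n (ZMod p)) {P : Matrix n n (ZMod p)} (hcomm : ∀ u, σ u * P = P * σ u)
    (hlt : P.rank < Fintype.card U) : (∑ u, σ u) * P = 0 := by
  classical
  refine Matrix.toLin'.injective (LinearMap.ext fun v => ?_)
  rw [map_zero, LinearMap.zero_apply, Matrix.toLin'_apply]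
  let θ : (U → ZMod p) →ₗ[ZMod p] (n → ZMod p) :=
    { toFun := fun a => ∑ u, a u • ((σ u * P) *ᵥ v)
      map_add' := fun a b => by simp [add_smul, Finset.sum_add_distrib]
      map_smul' := fun c a => by simp [smul_smul, Finset.smul_sum] }
  have hrange : ∀ a, θ a ∈ LinearMap.range (Matrix.toLin' P) := fun a => by
    refine Submodule.sum_mem _ fun u _ => Submodule.smul_mem _ _ ⟨σ u *ᵥ v, ?_⟩
    rw [Matrix.toLin'_apply, Matrix.mulVec_mulVec, hcomm]
  have hninj : ¬ Function.Injective θ := fun hi => by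
    have h1 := LinearMap.finrank_le_finrank_of_injective
      (f := θ.codRestrict _ hrange) (fun a b h => hi (congrArg Subtype.val h))
    rw [Module.finrank_fintype_fun_eq_card] at h1
    have h2 : P.rank = Module.finrank (ZMod p) (LinearMap.range (Matrix.toLin' P)) := rfl
    omega
  obtain ⟨a, ha, ha0⟩ : ∃ a, θ a = 0 ∧ a ≠ 0 := by
    by_contra hc
    push Not at hc
    exact hninj ((injective_iff_map_eq_zero θ).2 hc)
  let Z := LinearMap.ker θ
  have hinv : ∀ (w : U) (b : U → ZMod p), θ b = 0 → θ (fun u => b (w⁻¹ * u)) = 0 := by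
    intro w b hb
    calc θ (fun u => b (w⁻¹ * u)) = σ w *ᵥ θ b := by
          show ∑ u, b (w⁻¹ * u) • ((σ u * P) *ᵥ v) = σ w *ᵥ ∑ u, b u • ((σ u * P) *ᵥ v)
          rw [Matrix.mulVec_sum]
          refine (Fintype.sum_equiv (Equiv.mulLeft w) _ _ fun u => ?_).symm
          simp [Matrix.mulVec_smul, Matrix.mulVec_mulVec, Matrix.mul_assoc]
      _ = 0 := by rw [hb, Matrix.mulVec_zero]
  letI : MulAction U Z :=
    { smul := fun w b => ⟨fun u => b.1 (w⁻¹ * u), hinv w b.1 b.2⟩
      one_smul := fun b => Subtype.ext (funext fun u => by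
        show b.1 (1⁻¹ * u) = b.1 u
        rw [inv_one, one_mul])
      mul_smul := fun x y b => Subtype.ext (funext fun u => by
        show b.1 ((x * y)⁻¹ * u) = b.1 (y⁻¹ * (x⁻¹ * u))
        rw [_root_.mul_inv_rev, mul_assoc]) }
  have hdvd : p ∣ Nat.card Z := by
    have hz : Module.finrank (ZMod p) Z ≠ 0 := fun h => ha0 (by
      have : Z = ⊥ := Submodule.finrank_eq_zero.1 h
      exact (Submodule.mem_bot _).1 (this ▸ (show a ∈ Z from ha)))
    rw [Module.natCard_eq_pow_finrank (K := ZMod p) (V := Z), Nat.card_zmod]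
    exact dvd_pow_self p hz
  obtain ⟨b, hb, hb0⟩ := hU.exists_fixed_point_of_prime_dvd_card_of_fixed_point Z hdvd
    (a := 0) (fun w => Subtype.ext (funext fun u => rfl))
  have hconst : ∀ u, b.1 u = b.1 1 := fun u => by
    have := congrArg (fun c : Z => c.1 u) (hb u)
    change b.1 (u⁻¹ * u) = b.1 u at this
    rw [inv_mul_cancel] at this
    exact this.symm
  have hb1 : b.1 1 ≠ 0 := fun h => hb0 (Subtype.ext (funext fun u => by
    rw [hconst u, h]; rfl))
  have hz : b.1 1 • ∑ u, (σ u * P) *ᵥ v = 0 := by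
    rw [Finset.smul_sum]
    exact (Finset.sum_congr rfl fun u _ => by rw [hconst u]).trans b.2
  rw [Finset.sum_mul, Matrix.sum_mulVec]
  exact (smul_eq_zero.1 hz).resolve_left hb1

/-- Fixed points of an element of prime order on the image of an idempotent. -/
theorem rank_modEq {p s : ℕ} [hp : Fact p.Prime] [hs : Fact s.Prime] {Y P Q : Matrix n n (ZMod p)}
    (hY : Y ^ s = 1) (hP : P * P = P) (hPY : Y * P = P * Y) (hQ : Y * Q = Q) (hPQ : P * Q = Q)
    (hfix : ∀ v, P *ᵥ v = v → Y *ᵥ v = v → Q *ᵥ v = v) :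
    p ^ P.rank ≡ p ^ Q.rank [MOD s] := by
  classical
  obtain ⟨Yu, hYu⟩ : IsUnit Y := IsUnit.of_pow_eq_one hY hs.out.ne_zero
  let Z := Subgroup.zpowers Yu
  have hmem : ∀ g : Z, (g.1 : Matrix n n (ZMod p)) * P = P * g.1 := by
    rintro ⟨g, hg⟩
    obtain ⟨i, rfl⟩ := Subgroup.mem_zpowers_iff.1 hg
    exact ((show Commute (Yu : Matrix n n (ZMod p)) P from hYu.symm ▸ hPY).units_zpow_left i).eq
  let W := LinearMap.range (Matrix.toLin' P)
  have hW : ∀ w, w ∈ W ↔ P *ᵥ w = w := fun w => by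
    constructor
    · rintro ⟨v, rfl⟩; rw [Matrix.toLin'_apply, Matrix.mulVec_mulVec, hP]
    · exact fun h => ⟨w, by rw [Matrix.toLin'_apply, h]⟩
  letI : MulAction Z W :=
    { smul := fun g w => ⟨(g.1 : Matrix n n (ZMod p)) *ᵥ w.1, (hW _).2 (by
        rw [Matrix.mulVec_mulVec, ← hmem, ← Matrix.mulVec_mulVec, (hW _).1 w.2])⟩
      one_smul := fun w => Subtype.ext (Matrix.one_mulVec w.1)
      mul_smul := fun g h w => Subtype.ext (Matrix.mulVec_mulVec w.1 _ _).symm }
  have hZ : IsPGroup s Z := by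
    rintro ⟨g, hg⟩
    obtain ⟨i, rfl⟩ := Subgroup.mem_zpowers_iff.1 hg
    have : Yu ^ s = 1 := Units.ext (by rw [Units.val_pow_eq_pow_val, hYu, hY, Units.val_one])
    refine ⟨1, Subtype.ext ?_⟩
    rw [SubmonoidClass.coe_pow, pow_one, ← zpow_natCast, ← zpow_mul, mul_comm, zpow_mul, zpow_natCast,
      this, one_zpow, OneMemClass.coe_one]
  have h := hZ.card_modEq_card_fixedPoints W
  have hQr : ∀ w, Q *ᵥ w = w ↔ w ∈ LinearMap.range (Matrix.toLin' Q) := by
    intro w
    have hQQ : ∀ v, Q *ᵥ (Q *ᵥ v) = Q *ᵥ v := fun v => hfix _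
      (by rw [Matrix.mulVec_mulVec, hPQ]) (by rw [Matrix.mulVec_mulVec, hQ])
    constructor
    · exact fun h => ⟨w, by rw [Matrix.toLin'_apply, h]⟩
    · rintro ⟨v, rfl⟩; rw [Matrix.toLin'_apply, hQQ]
  let e : MulAction.fixedPoints Z W ≃ LinearMap.range (Matrix.toLin' Q) :=
    { toFun := fun w => ⟨w.1.1, (hQr _).1 (hfix _ ((hW _).1 w.1.2) (by
        have h1 := congrArg Subtype.val (w.2 ⟨Yu, Subgroup.mem_zpowers Yu⟩)
        change (Yu : Matrix n n (ZMod p)) *ᵥ w.1.1 = w.1.1 at h1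
        rwa [hYu] at h1))⟩
      invFun := fun w => ⟨⟨w.1, (hW _).2 (by
          rw [← (hQr _).2 w.2, Matrix.mulVec_mulVec, hPQ])⟩, fun g => Subtype.ext (by
        show (g.1 : Matrix n n (ZMod p)) *ᵥ w.1 = w.1
        obtain ⟨g, hg⟩ := g
        have h1 : Y *ᵥ w.1 = w.1 := by
          rw [← (hQr _).2 w.2, Matrix.mulVec_mulVec, hQ]
        let St : Subgroup (Matrix n n (ZMod p))ˣ :=
          { carrier := {g | (g : Matrix n n (ZMod p)) *ᵥ w.1 = w.1}
            mul_mem' := fun {a b} ha hb => by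
              show ((a * b : (Matrix n n (ZMod p))ˣ) : Matrix n n (ZMod p)) *ᵥ w.1 = w.1
              rw [Units.val_mul, ← Matrix.mulVec_mulVec, hb, ha]
            one_mem' := Matrix.one_mulVec _
            inv_mem' := fun {a} ha => by
              show ((a⁻¹ : (Matrix n n (ZMod p))ˣ) : Matrix n n (ZMod p)) *ᵥ w.1 = w.1
              conv_lhs => rw [← ha, Matrix.mulVec_mulVec, Units.inv_mul, Matrix.one_mulVec] }
        exact (Subgroup.zpowers_le.2 (show Yu ∈ St by
          show (Yu : Matrix n n (ZMod p)) *ᵥ w.1 = w.1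
          rwa [hYu])) hg)⟩
      left_inv := fun w => rfl
      right_inv := fun w => rfl }
  rw [Nat.card_congr e, Module.natCard_eq_pow_finrank (K := ZMod p) (V := W),
    Module.natCard_eq_pow_finrank (K := ZMod p) (V := LinearMap.range (Matrix.toLin' Q)), Nat.card_zmod] at h
  exact h

end Cfsg.Agent.Chevalley.NoSub
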