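import Cfsg.Agent.Chevalley.NoSub.OrbitSound
import Cfsg.Agent.Chevalley.NoSub.CheckComb

/-!
Signatures of elements of small order on the adjoint module, and their expression through the
composition multiplicities.
-/

set_option autoImplicit false
set_option linter.style.haveILetI false
set_option linter.unusedSectionVars false
set_option maxRecDepth 100000
set_option maxHeartbeats 1000000

namespace Cfsg.Agent.Chevalley.NoSub

open Cfsg.Lie Walk Tables Checks
open MonoidAlgebra (single)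
open scoped MatrixGroups

theorem wfold_mod (l k a : ℕ) : wfold l k (a % l) = wfold l k a := by
  unfold wfold
  rw [Nat.mod_mul_mod]

theorem wfold_one_smul (l k : ℕ) : (fun a => wfold l 1 (k * a % l)) = wfold l k := by
  funext a
  rw [wfold_mod]
  unfold wfold
  simp only [Nat.mul_one, Nat.mul_comm k a]

variable {l w : ℕ} {ord : List ℕ} {R : List (List ℕ)} {L : List Level}

/-- The coordinates of a point in an order. -/
def coords (ord : List ℕ) (u : Fin 8 → ℕ) : List ℕ :=
  ord.map fun j => if hj : j < 8 then u ⟨j, hj⟩ else 0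

theorem fold_point (h : Setup l w ord R L) (hl : 0 < l) (k : ℕ) (v : Fin 8 → ℤ) :
    ∃ u : Fin 8 → ℕ, ∑ m, topRoot m * (u m : ℤ) ≤ l ∧
      wsum l (wfold l k) v = 8 + 2 * hist ((R.map fun r => dot r (coords ord u)).map (cls l)) ∧
      ∀ W, wsum l W (fun j => (u j : ℤ)) = wsum l (fun a => W (k * a % l)) v := by
  obtain ⟨u, hu, ht, hW⟩ := exists_alcove hl fun j => (k : ℤ) * v j
  obtain ⟨u', rfl⟩ : ∃ u' : Fin 8 → ℕ, u = fun j => ((u' j : ℕ) : ℤ) :=
    ⟨fun j => (u j).toNat, funext fun j => (Int.toNat_of_nonneg (hu j)).symm⟩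
  have hW' : ∀ W, wsum l W (fun j => (u' j : ℤ)) = wsum l (fun a => W (k * a % l)) v :=
    fun W => (hW W).trans (wsum_smul hl k W v)
  refine ⟨u', ht, ?_, hW'⟩
  have := hW' (wfold l 1)
  rw [wfold_one_smul, wsum_fold hl u' h.ord_perm h.rows] at this
  exact this.symm

/-- A refuted capacity is the signature of no element. -/
theorem refuted (h : Setup l w ord R L) (hl : 0 < l) {g : ℕ → ℕ}
    (hg : ∀ d, d ≤ l → g (7 * d) = 7 * cls l d) {n S : ℕ} (hn : l / 2 < n)
    (hS : search (fun V shs S k => eat g (2 ^ w - 1) V shs S k) (fun _ => false) (Checks.cands n S) L 0 l S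
      = true)
    (k : ℕ) (v : Fin 8 → ℤ) : wsum l (wfold l k) v ≠ 8 + 2 * S := by
  intro e
  obtain ⟨u, hu, hsum, -⟩ := fold_point h hl k v
  refine h.no_point hg hn hS u hu ?_
  show hist ((R.map fun r => dot r (coords ord u)).map (cls l)) = S
  omega

theorem hist_lt {xs : List ℕ} {b : ℕ} (hlen : xs.length ≤ 120) (hb : ∀ x ∈ xs, x ≤ b) :
    hist xs ≤ 120 * 2 ^ (7 * b) := by
  have := List.sum_le_card_nsmul (xs.map fun x => 2 ^ (7 * x)) (2 ^ (7 * b)) fun y hy => by
    obtain ⟨x, hx, rfl⟩ := List.mem_map.1 hy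
    exact Nat.pow_le_pow_right (by norm_num) (Nat.mul_le_mul_left 7 (hb x hx))
  rw [List.length_map, smul_eq_mul] at this
  exact le_trans this (Nat.mul_le_mul_right _ hlen)

theorem wsum_fold_lt (h : Setup l w ord R L) (hl : 0 < l) (k : ℕ) (v : Fin 8 → ℤ) :
    wsum l (wfold l k) v ≤ 8 + 240 * 2 ^ (7 * (l / 2)) := by
  obtain ⟨u, -, hsum, -⟩ := fold_point h hl k v
  have := hist_lt (xs := (R.map fun r => dot r (coords ord u)).map (cls l)) (b := l / 2)
    (by simp [h.card]) (fun x hx => by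
      obtain ⟨d, -, rfl⟩ := List.mem_map.1 hx
      unfold cls
      omega)
  omega

/-- All lists of bits of a given length. -/
def bitLists : ℕ → List (List ℕ)
  | 0 => [[]]
  | n + 1 => (bitLists n).flatMap fun r => [0 :: r, 1 :: r]

theorem mem_bitLists : ∀ xs : List ℕ, (∀ a ∈ xs, a < 2) → xs ∈ bitLists xs.length
  | [], _ => by simp [bitLists]
  | a :: xs, h => by
    have := mem_bitLists xs fun b hb => h b (by simp [hb])
    have ha : a = 0 ∨ a = 1 := by have := h a (by simp); omega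
    simp only [List.length_cons, bitLists, List.mem_flatMap]
    exact ⟨xs, this, by rcases ha with rfl | rfl <;> simp⟩

theorem bits_table : ((bitLists 8).all fun xs => (0 :: sigs2).contains
    ((roots26.map fun r => dot r xs % 2 + (2 - dot r xs % 2) % 2).sum)) = true := by decide +kernel

/-- The numbers of odd classes of an involution. -/
theorem sig2 (v : Fin 8 → ℤ) (hne : ∃ i, kap 2 v i ≠ 0) : wsum 2 id v ∈ sigs2 := by
  have hpos : 0 < wsum 2 id v := by
    obtain ⟨i, hi⟩ := hne
    exact lt_of_lt_of_le (Nat.pos_of_ne_zero hi)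
      (Finset.single_le_sum (fun x _ => Nat.zero_le (id (kap 2 v x))) (Finset.mem_univ i))
  obtain ⟨u, hu, ht, hW⟩ := exists_alcove (by norm_num : 0 < 2) v
  obtain ⟨u', rfl⟩ : ∃ u' : Fin 8 → ℕ, u = fun j => ((u' j : ℕ) : ℤ) :=
    ⟨fun j => (u j).toNat, funext fun j => (Int.toNat_of_nonneg (hu j)).symm⟩
  have h := setup26 (l := 2) (by norm_num)
  have hsum := wsum_eq_list (by norm_num : 0 < 2) id u' h.ord_perm h.rows
  rw [hW id] at hsum
  have hsmall : ∀ j : Fin 8, u' j < 2 := by
    intro j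
    simp [Fin.sum_univ_eight, topRoot] at ht
    fin_cases j <;> simp <;> omega
  have hall := bits_table
  simp only [List.all_eq_true, List.contains_iff_mem, List.mem_cons] at hall
  have hlen : (coords ord26 u').length = 8 := rfl
  rcases hall (coords ord26 u') (hlen ▸ mem_bitLists _ fun a ha => by
    obtain ⟨j, -, rfl⟩ := List.mem_map.1 ha
    split
    · exact hsmall _
    · norm_num) with h0 | h0
  · exfalso
    simp only [id, Nat.mul_zero, Nat.zero_add] at hsum
    rw [hsum] at hpos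
    exact hpos.ne' h0
  · simp only [id, Nat.mul_zero, Nat.zero_add] at hsum
    rw [hsum]
    exact h0

theorem sum_count_mul (f : ℕ → ℕ) (n : ℕ) : ∀ xs : List ℕ, (∀ x ∈ xs, x < n) →
    ∑ d ∈ Finset.range n, xs.count d * f d = (xs.map f).sum
  | [], _ => by simp
  | a :: xs, h => by
    have ha := h a (by simp)
    simp [List.count_cons, Nat.add_mul, Finset.sum_add_distrib,
      sum_count_mul f n xs fun x hx => h x (by simp [hx]), ha, Nat.add_comm]

theorem fold13_hist (k : ℕ) (xs : List ℕ) (hlen : xs.length < 128) (h : ∀ x ∈ xs, x < 14) :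
    fold13 k (hist xs) = (xs.map (wfold 13 k)).sum := by
  rw [← sum_count_mul (wfold 13 k) 14 xs h, fold13, sum_range_list]
  exact Finset.sum_congr rfl fun d _ => by rw [fld_hist hlen]; rfl

theorem wfold13_neg : ∀ x, x < 13 → wfold 13 1 ((13 - x) % 13) = wfold 13 1 x ∧
    wfold 13 3 ((13 - x) % 13) = wfold 13 3 x := by decide +kernel

theorem wsum_wfold13 (h : Setup 13 w ord R L) (u : Fin 8 → ℕ) {k : ℕ} (hk : k = 1 ∨ k = 3) :
    wsum 13 (wfold 13 k) (fun j => (u j : ℤ)) =
      8 + 2 * ((R.map fun r => dot r (coords ord u)).map (wfold 13 k)).sum := by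
  have h0 : wfold 13 k 0 = 1 := by simp [wfold]
  have hterm : ∀ d, wfold 13 k (d % 13) + wfold 13 k ((13 - d % 13) % 13) = 2 * wfold 13 k d := by
    intro d
    have h13 := wfold13_neg (d % 13) (Nat.mod_lt _ (by norm_num))
    rcases hk with rfl | rfl
    · rw [h13.1, wfold_mod, two_mul]
    · rw [h13.2, wfold_mod, two_mul]
  rw [wsum_eq_list (by norm_num : 0 < 13) _ u h.ord_perm h.rows, h0, Nat.mul_one, List.map_map,
    ← List.sum_map_mul_left]
  exact congrArg (8 + ·) (congrArg List.sum (List.map_congr_left fun r _ => hterm _))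

/-- The signature of an element of order thirteen invariant under cubing. -/
theorem sig13 (v : Fin 8 → ℤ) (hne : ∃ i, kap 13 v i ≠ 0)
    (hinv : wsum 13 (wfold 13 3) v = wsum 13 (wfold 13 1) v) :
    ∃ T ∈ sigs13, wsum 13 (wfold 13 1) v = 8 + 2 * T := by
  have h := setup26 (l := 13) (by norm_num)
  obtain ⟨u, hu, -, hW⟩ := fold_point h (by norm_num : 0 < 13) 1 v
  set xs := roots26.map fun r => dot r (coords ord26 u) with hxs
  have hval : ∀ r ∈ roots26, dot r (coords ord26 u) < 14 := fun r hr => by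
    have := h.value_le (h.budget u hu) hr
    exact Nat.lt_succ_of_le this
  have key : ∀ k, (k = 1 ∨ k = 3) → wsum 13 (wfold 13 k) v = 8 + 2 * fold13 k (hist xs) := by
    intro k hk
    have e := hW (wfold 13 k)
    simp only [Nat.one_mul, wfold_mod] at e
    rw [← e, wsum_wfold13 h u hk, fold13_hist k xs (by simp [hxs, h.card])
      (fun x hx => by obtain ⟨r, hr, rfl⟩ := List.mem_map.1 hx; exact hval r hr)]
  have hleaf : leaf13 (hist xs) = true := walk13_sound walk13_eq u hu
  have e1 := key 1 (Or.inl rfl)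
  have heq : fold13 1 (hist xs) = fold13 3 (hist xs) := by
    have e3 := key 3 (Or.inr rfl)
    omega
  rw [leaf13, ← heq, show Nat.beq (fold13 1 (hist xs)) (fold13 1 (hist xs)) = true from
    Nat.beq_refl _, cond_true, Bool.or_eq_true] at hleaf
  rcases hleaf with h0 | h0
  · exfalso
    rw [Nat.eq_of_beq_eq_true h0] at e1
    obtain ⟨i, hi⟩ := hne
    have hlt := kap_lt (by norm_num : 0 < 13) v i
    have hbig : 2 ≤ wfold 13 1 (kap 13 v i) := by
      unfold wfold
      rw [Nat.mul_one, Nat.mod_eq_of_lt hlt]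
      exact le_trans (by norm_num) (Nat.pow_le_pow_right (by norm_num)
        (show 1 ≤ 7 * min (kap 13 v i) (13 - kap 13 v i) by omega))
    have hsum : ∑ _x : chevE8.Idx, 1 < wsum 13 (wfold 13 1) v :=
      Finset.sum_lt_sum (fun x _ => Nat.one_le_two_pow) ⟨i, Finset.mem_univ i, hbig⟩
    have hcard : ∑ _x : chevE8.Idx, 1 = 248 := by
      rw [Finset.sum_const, smul_eq_mul, Nat.mul_one, Finset.card_univ]
      exact (Fintype.card_sum).trans (by rw [Fintype.card_fin, Fintype.card_fin]; rfl)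
    omega
  · obtain ⟨T, hT, hT'⟩ := List.any_eq_true.1 h0
    exact ⟨T, hT, by rw [e1, Nat.eq_of_beq_eq_true hT']⟩

variable {n : ℕ} {F : Type*} [Field F] [Fintype F] [DecidableEq F] (ι : F →+* Kbar)

/-- The matrices of a homomorphism into the group of type E8. -/
noncomputable def mrep (ψ : SL(2, F) →* ↥(chevE8.group (ZMod 3))) :
    SL(2, F) →* Matrix chevE8.Idx chevE8.Idx (ZMod 3) :=
  (Units.coeHom (Matrix chevE8.Idx chevE8.Idx (ZMod 3))).comp
    ((chevE8.group (ZMod 3)).subtype.comp ψ)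

/-- The signatures through the multiplicities. -/
theorem spectrum_relation (ψ : SL(2, F) →* ↥(chevE8.group (ZMod 3))) {c : (Fin n → Fin 3) → ℕ}
    (hodd : ∀ s, Odd (ones s) → c s = 0)
    (hrank : ∀ e, e * e = e → (extRep (algebraMap (ZMod 3) Kbar) (mrep ψ) e).rank =
      ∑ s, c s * (lrep ι s e).rank)
    {g : SL(2, F)} {m l : ℕ} (hgm : g ^ m = 1) (hmk : (m : Kbar) ≠ 0) (hlm : l ∣ m) (hl : 0 < l)
    {μ : Kbar} (hμ : μ ≠ 0) (hζ : IsPrimitiveRoot (μ ^ 2) l) (P : (Matrix (Fin 2) (Fin 2) Kbar)ˣ)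
    (hP : (g : Matrix (Fin 2) (Fin 2) F).map ι = (P : Matrix (Fin 2) (Fin 2) Kbar) * !![μ, 0; 0, μ⁻¹] *
      (↑P⁻¹ : Matrix (Fin 2) (Fin 2) Kbar))
    (hxl : ψ g ^ l = 1) (hx1 : ψ g ≠ 1) (hd : ∃ h, h * toK (ψ g) * h⁻¹ ∈ HK) :
    ∃ v : Fin 8 → ℤ, (∃ i, kap l v i ≠ 0) ∧
      ∀ W, wsum l W v = ∑ s, c s * packS l W (ofVec s) := by
  obtain ⟨v, Q, hQ, hne⟩ := exists_spectrum hxl hx1 hd hζ hl
  refine ⟨v, hne, fun W => ?_⟩
  calc wsum l W v
      = ∑ a : Fin l, W a.val *
          (extRep (algebraMap (ZMod 3) Kbar) (mrep ψ) (eig g m ((μ ^ 2) ^ a.val))).rank :=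
        (weighted_rank hgm hmk hlm hζ _ Q (fun i => ⟨kap l v i, kap_lt hl v i⟩)
          (by rw [extRep_single]; exact hQ) fun a => W a.val).symm
    _ = ∑ a : Fin l, ∑ s, c s * (W a.val * (lrep ι s (eig g m ((μ ^ 2) ^ a.val))).rank) := by
        refine Finset.sum_congr rfl fun a _ => ?_
        rw [hrank _ (eig_idem hgm (by
          obtain ⟨d, rfl⟩ := hlm
          rw [← pow_mul, Nat.mul_comm, Nat.mul_assoc, pow_mul, hζ.pow_eq_one, one_pow]) hmk),
          Finset.mul_sum]
        exact Finset.sum_congr rfl fun s _ => by ring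
    _ = ∑ s, c s * packS l W (ofVec s) := by
        rw [Finset.sum_comm]
        refine Finset.sum_congr rfl fun s _ => ?_
        rw [← Finset.mul_sum]
        rcases Nat.even_or_odd (ones s) with h | h
        · rw [weighted_lrep ι g hgm hmk hlm hμ hζ P hP s (even_digits h) W]
          rfl
        · rw [hodd s h, Nat.zero_mul, Nat.zero_mul]

end Cfsg.Agent.Chevalley.NoSub
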