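import Cfsg.Agent.Chevalley.NoSub.SquareRoot
import Cfsg.Agent.Chevalley.NoSub.Weighted
import Cfsg.Agent.Chevalley.NoSub.FixDim
import Mathlib.LinearAlgebra.Matrix.Charpoly.Basic
import Mathlib.LinearAlgebra.Matrix.Charpoly.FiniteField

/-!
Eigenvalue multiplicities of semisimple elements on the adjoint module: invariance under the Galois
group and under conjugation, and the possible fixed space dimensions of elements of order dividing
eight.
-/

set_option autoImplicit false
set_option linter.style.haveILetI false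
set_option linter.unusedSectionVars false
set_option maxRecDepth 100000
set_option maxHeartbeats 1000000

namespace Cfsg.Agent.Chevalley.NoSub

open Cfsg.Lie Walk Tables Checks

/-- The matrix of an element over the field with three elements. -/
noncomputable abbrev mat3 : ↥(chevE8.group (ZMod 3)) →* Matrix chevE8.Idx chevE8.Idx (ZMod 3) :=
  (Units.coeHom (Matrix chevE8.Idx chevE8.Idx (ZMod 3))).comp (chevE8.group (ZMod 3)).subtype

/-- The embedding of the prime field. -/
noncomputable abbrev fK : ZMod 3 →+* Kbar := algebraMap (ZMod 3) Kbar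

/-- The number of eigenvalues with a given exponent. -/
noncomputable def cnt (l : ℕ) (v : Fin 8 → ℤ) (a : ℕ) : ℕ := wsum l (fun b => if b = a then 1 else 0) v

theorem cnt_eq_card (l : ℕ) (v : Fin 8 → ℤ) (a : ℕ) :
    cnt l v a = (Finset.univ.filter fun i => kap l v i = a).card := by
  rw [cnt, wsum, Finset.card_filter]

theorem wsum_eq_cnt {l : ℕ} (hl : 0 < l) (v : Fin 8 → ℤ) (W : ℕ → ℕ) :
    wsum l W v = ∑ a ∈ Finset.range l, cnt l v a * W a := by
  unfold wsum
  rw [← Finset.sum_fiberwise_of_maps_to (s := (Finset.univ : Finset chevE8.Idx))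
    (t := Finset.range l) (g := kap l v) (fun i _ => Finset.mem_range.2 (kap_lt hl v i))]
  refine Finset.sum_congr rfl fun a _ => ?_
  rw [cnt_eq_card, Finset.sum_congr rfl (g := fun _ => W a) (fun i hi => by
    rw [(Finset.mem_filter.1 hi).2]), Finset.sum_const, smul_eq_mul]

/-- The spectral decomposition of an element. -/
def HasSpectrum (x : ↥(chevE8.group (ZMod 3))) (l : ℕ) (ζ : Kbar) (v : Fin 8 → ℤ) : Prop :=
  ∃ P : (Matrix chevE8.Idx chevE8.Idx Kbar)ˣ, (mat3 x).map fK =
    (P : Matrix chevE8.Idx chevE8.Idx Kbar) * Matrix.diagonal (fun i => ζ ^ kap l v i) *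
      (↑P⁻¹ : Matrix chevE8.Idx chevE8.Idx Kbar)

theorem charpoly_of_spectrum {x : ↥(chevE8.group (ZMod 3))} {l : ℕ} {ζ : Kbar} {v : Fin 8 → ℤ}
    (h : HasSpectrum x l ζ v) :
    ((mat3 x).map fK).charpoly.roots = Finset.univ.val.map fun i => ζ ^ kap l v i := by
  obtain ⟨P, hP⟩ := h
  rw [hP, Matrix.coe_units_inv, Matrix.charpoly_units_conj, Matrix.charpoly_diagonal,
    ← Polynomial.roots_multiset_prod_X_sub_C (Finset.univ.val.map fun i => ζ ^ kap l v i),
    Multiset.map_map]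
  rfl

open Classical in
theorem count_roots {x : ↥(chevE8.group (ZMod 3))} {l : ℕ} {ζ : Kbar} {v : Fin 8 → ℤ}
    (hζ : IsPrimitiveRoot ζ l) (hl : 0 < l) (h : HasSpectrum x l ζ v) (a : ℕ) :
    cnt l v (a % l) = ((mat3 x).map fK).charpoly.roots.count (ζ ^ a) := by
  rw [charpoly_of_spectrum h, Multiset.count_map, cnt_eq_card]
  refine congrArg Finset.card (Finset.filter_congr fun i _ => ?_)
  have e : ζ ^ a = ζ ^ (a % l) := by
    conv_lhs => rw [← Nat.mod_add_div a l, pow_add, pow_mul, hζ.pow_eq_one, one_pow, mul_one]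
  rw [e]
  exact ⟨fun hi => by rw [hi], fun hi => (hζ.pow_inj (Nat.mod_lt _ hl) (kap_lt hl v i) hi).symm⟩

theorem cnt_frob {x : ↥(chevE8.group (ZMod 3))} {l : ℕ} {ζ : Kbar} {v : Fin 8 → ℤ}
    (hζ : IsPrimitiveRoot ζ l) (hl : 0 < l) (h : HasSpectrum x l ζ v) (a : ℕ) :
    cnt l v (3 * a % l) = cnt l v (a % l) := by
  classical
  rw [count_roots hζ hl h, count_roots hζ hl h, charpoly_of_spectrum h]
  set R := Finset.univ.val.map fun i => ζ ^ kap l v i with hR
  set σ := frobenius Kbar 3 with hσ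
  have hq : ((mat3 x).map fK).charpoly = (R.map fun r => Polynomial.X - Polynomial.C r).prod := by
    obtain ⟨P, hP⟩ := h
    rw [hP, Matrix.coe_units_inv, Matrix.charpoly_units_conj, Matrix.charpoly_diagonal, hR, Multiset.map_map]
    rfl
  have hfix : (((mat3 x).map fK).charpoly).map σ = ((mat3 x).map fK).charpoly := by
    rw [Matrix.charpoly_map, Polynomial.map_map]
    congr 1
    exact Subsingleton.elim _ _
  have hmap : R.map σ = R := by
    rw [hq, Polynomial.map_multiset_prod, Multiset.map_map] at hfix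
    have e : (R.map ((Polynomial.map σ) ∘ fun r => Polynomial.X - Polynomial.C r)).prod =
        ((R.map σ).map fun r => Polynomial.X - Polynomial.C r).prod := by
      conv_rhs => rw [Multiset.map_map]
      exact congrArg Multiset.prod (Multiset.map_congr rfl fun r _ => by
        rw [Function.comp_apply, Function.comp_apply, Polynomial.map_sub, Polynomial.map_X, Polynomial.map_C])
    rw [e] at hfix
    have := congrArg Polynomial.roots hfix
    rwa [Polynomial.roots_multiset_prod_X_sub_C, Polynomial.roots_multiset_prod_X_sub_C] at this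
  conv_lhs => rw [← hmap, show ζ ^ (3 * a) = σ (ζ ^ a) by rw [hσ, frobenius_def, ← pow_mul, Nat.mul_comm]]
  exact Multiset.count_map_eq_count' _ _ (frobenius_inj Kbar 3) _

theorem spectrum_pow {x : ↥(chevE8.group (ZMod 3))} {l : ℕ} {ζ : Kbar} {v : Fin 8 → ℤ}
    (h : HasSpectrum x l ζ v) (k : ℕ) :
    ∃ P : (Matrix chevE8.Idx chevE8.Idx Kbar)ˣ, (mat3 (x ^ k)).map fK =
      (P : Matrix chevE8.Idx chevE8.Idx Kbar) * Matrix.diagonal (fun i => (ζ ^ kap l v i) ^ k) *
        (↑P⁻¹ : Matrix chevE8.Idx chevE8.Idx Kbar) := by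
  obtain ⟨P, hP⟩ := h
  refine ⟨P, ?_⟩
  rw [map_pow, ← RingHom.mapMatrix_apply, map_pow, RingHom.mapMatrix_apply, hP, Units.conj_pow,
    Matrix.diagonal_pow]
  rfl

theorem cnt_conj {x : ↥(chevE8.group (ZMod 3))} {l : ℕ} {ζ : Kbar} {v : Fin 8 → ℤ}
    (hζ : IsPrimitiveRoot ζ l) (hl : 0 < l) (h : HasSpectrum x l ζ v) {k : ℕ} (hk : Nat.Coprime k l)
    {g : ↥(chevE8.group (ZMod 3))} (hg : g * x * g⁻¹ = x ^ k) (a : ℕ) :
    cnt l v (k * a % l) = cnt l v (a % l) := by
  classical
  obtain ⟨P, hP⟩ := spectrum_pow h k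
  have hc : ((mat3 (x ^ k)).map fK).charpoly = ((mat3 x).map fK).charpoly := by
    rw [Matrix.charpoly_map, Matrix.charpoly_map, ← hg, mul_assoc, map_mul, Matrix.charpoly_mul_comm,
      ← map_mul, inv_mul_cancel_right]
  rw [count_roots hζ hl h]
  rw [hP, Matrix.coe_units_inv, Matrix.charpoly_units_conj, Matrix.charpoly_diagonal,
    show (∏ i, (Polynomial.X - Polynomial.C ((ζ ^ kap l v i) ^ k)))
      = ((Finset.univ.val.map fun i => (ζ ^ kap l v i) ^ k).map fun r => Polynomial.X - Polynomial.C r).prod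
      by rw [Multiset.map_map]; rfl] at hc
  rw [← hc, Polynomial.roots_multiset_prod_X_sub_C, Multiset.count_map, cnt_eq_card]
  refine congrArg Multiset.card (Multiset.filter_congr fun i _ => ?_)
  rw [← pow_mul, (isOfFinOrder_iff_pow_eq_one.2 ⟨l, hl, hζ.pow_eq_one⟩).pow_inj_mod, ← hζ.eq_orderOf]
  constructor
  · intro hi
    have : k * a ≡ k * kap l v i [MOD l] := by rw [Nat.ModEq, hi, Nat.mul_comm]
    rw [← Nat.mod_eq_of_lt (kap_lt hl v i)]
    exact (Nat.ModEq.cancel_left_of_coprime (Nat.coprime_comm.1 hk) this).symm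
  · intro hi
    rw [hi, Nat.mod_mul_mod, Nat.mul_comm]

theorem exists_hasSpectrum {x : ↥(chevE8.group (ZMod 3))} {l : ℕ} (hx : x ^ l = 1) (hx1 : x ≠ 1)
    (hd : ∃ g, g * toK x * g⁻¹ ∈ HK) {ζ : Kbar} (hζ : IsPrimitiveRoot ζ l) (hl : 0 < l) :
    ∃ v, HasSpectrum x l ζ v ∧ ∃ i, kap l v i ≠ 0 := by
  obtain ⟨v, P, hP, hne⟩ := exists_spectrum hx hx1 hd hζ hl
  exact ⟨v, ⟨P, hP⟩, hne⟩

theorem exists_prim (l : ℕ) (hl : ¬ 3 ∣ l) : ∃ ζ : Kbar, IsPrimitiveRoot ζ l := by
  haveI : NeZero (l : Kbar) := ⟨by rwa [Ne, CharP.cast_eq_zero_iff Kbar 3]⟩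
  exact HasEnoughRootsOfUnity.exists_primitiveRoot Kbar l

theorem cnt_zero_ge {l : ℕ} (v : Fin 8 → ℤ) : 8 ≤ cnt l v 0 := by
  have h : ∀ a : Fin chevE8.rank, kap l v (.inl a) = 0 := fun a => by simp [kap, Chevalley.Cert.cfI]
  rw [cnt, wsum, Fintype.sum_sum_type, Finset.sum_congr rfl (g := fun _ => 1) fun a _ => by
    rw [if_pos (h a)]]
  rw [Finset.sum_const, Finset.card_univ, Fintype.card_fin, smul_eq_mul, mul_one]
  exact Nat.le_add_right 8 _

/-- A spectrum invariant enough has all nontrivial multiplicities equal. -/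
theorem uniform_counts {l : ℕ} (hl : 1 < l) {v : Fin 8 → ℤ}
    (hu : ∀ a, 0 < a → a < l → cnt l v a = cnt l v 1) :
    cnt l v 0 + (l - 1) * cnt l v 1 = 248 ∧
      ∀ W, wsum l W v = cnt l v 0 * W 0 + cnt l v 1 * ∑ a ∈ Finset.Ico 1 l, W a := by
  have key : ∀ W, wsum l W v = cnt l v 0 * W 0 + cnt l v 1 * ∑ a ∈ Finset.Ico 1 l, W a := by
    intro W
    rw [wsum_eq_cnt (by omega) v W, Finset.range_eq_Ico, Finset.sum_eq_sum_Ico_succ_bot (by omega),
      Finset.mul_sum]
    exact congrArg _ (Finset.sum_congr rfl fun a ha => by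
      obtain ⟨h1, h2⟩ := Finset.mem_Ico.1 ha
      rw [hu a h1 h2])
  refine ⟨?_, key⟩
  have h := key fun _ => 1
  have h248 : wsum l (fun _ => 1) v = 248 := by
    unfold wsum
    rw [Finset.sum_const, smul_eq_mul, Nat.mul_one, Finset.card_univ]
    exact (Fintype.card_sum).trans (by rw [Fintype.card_fin, Fintype.card_fin]; rfl)
  rw [h248, Finset.sum_const, Nat.card_Ico, smul_eq_mul, mul_one, mul_one, mul_comm _ (l - 1)] at h
  exact h.symm

/-- Multiplicities invariant under a set of multipliers with one orbit. -/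
theorem uniform_of_orbit {l : ℕ} {v : Fin 8 → ℤ} {ks : List ℕ}
    (hk : ∀ k ∈ ks, ∀ a, cnt l v (k * a % l) = cnt l v (a % l)) (h1 : 1 < l) :
    ∀ (n : ℕ) (a : ℕ), a ∈ (Nat.iterate (fun L : List ℕ => L ++ L.flatMap fun b => ks.map fun k => k * b % l) n [1]) →
      a < l ∧ cnt l v a = cnt l v 1 := by
  intro n
  induction n with
  | zero => intro a ha; rw [List.mem_singleton.1 ha]; exact ⟨h1, rfl⟩
  | succ n ih =>
    intro a ha
    rw [Function.iterate_succ_apply', List.mem_append, List.mem_flatMap] at ha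
    rcases ha with ha | ⟨b, hb, ha⟩
    · exact ih a ha
    · obtain ⟨k, hk', rfl⟩ := List.mem_map.1 ha
      obtain ⟨hbl, e⟩ := ih b hb
      refine ⟨Nat.mod_lt _ (by omega), ?_⟩
      rw [hk k hk', Nat.mod_eq_of_lt hbl, e]

theorem trace_spectrum {x : ↥(chevE8.group (ZMod 3))} {l : ℕ} {ζ : Kbar} {v : Fin 8 → ℤ}
    (hl : 0 < l) (h : HasSpectrum x l ζ v) :
    fK (mat3 x).trace = ∑ a ∈ Finset.range l, (cnt l v a : Kbar) * ζ ^ a := by
  obtain ⟨P, hP⟩ := h
  have e : fK (mat3 x).trace = ((mat3 x).map fK).trace := AddMonoidHom.map_trace fK.toAddMonoidHom _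
  rw [e, hP, Matrix.trace_units_conj, Matrix.trace_diagonal,
    ← Finset.sum_fiberwise_of_maps_to (t := Finset.range l) (g := kap l v)
      (fun i _ => Finset.mem_range.2 (kap_lt hl v i))]
  refine Finset.sum_congr rfl fun a _ => ?_
  rw [cnt_eq_card, Finset.sum_congr rfl (g := fun _ => ζ ^ a) (fun i hi => by
    rw [(Finset.mem_filter.1 hi).2]), Finset.sum_const, nsmul_eq_mul]

theorem fix8_spectrum {x : ↥(chevE8.group (ZMod 3))} {ζ : Kbar} {v : Fin 8 → ℤ}
    (hζ : IsPrimitiveRoot ζ 8) (h : HasSpectrum x 8 ζ v) (k : ℕ) :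
    fix8 fK (mat3 (x ^ k)) = wsum 8 (fun a => if k * a % 8 = 0 then 1 else 0) v := by
  classical
  obtain ⟨P, hP⟩ := spectrum_pow h k
  have h8 : (8 : Kbar) ≠ 0 := by
    rw [show (8 : Kbar) = ((8 : ℕ) : Kbar) from (Nat.cast_ofNat).symm, Ne, CharP.cast_eq_zero_iff Kbar 3]
    norm_num
  have e : (avgPow 8 (mat3 (x ^ k))).map fK = (P : Matrix chevE8.Idx chevE8.Idx Kbar) *
      Matrix.diagonal (fun i => if k * kap 8 v i % 8 = 0 then (1 : Kbar) else 0) *
        (↑P⁻¹ : Matrix chevE8.Idx chevE8.Idx Kbar) := by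
    have hd : (fun i => if k * kap 8 v i % 8 = 0 then (1 : Kbar) else 0) =
        (8 : Kbar)⁻¹ • ∑ j ∈ Finset.range 8, fun i => ((ζ ^ kap 8 v i) ^ k) ^ j := by
      funext i
      rw [Pi.smul_apply, Finset.sum_apply, smul_eq_mul, ← pow_mul, Nat.mul_comm (kap 8 v i)]
      by_cases hi : k * kap 8 v i % 8 = 0
      · rw [if_pos hi, (hζ.pow_eq_one_iff_dvd _).2 (Nat.dvd_of_mod_eq_zero hi)]
        simp [h8]
      · rw [if_neg hi, geom_sum_eq (fun h => hi (Nat.mod_eq_zero_of_dvd ((hζ.pow_eq_one_iff_dvd _).1 h))),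
          ← pow_mul, Nat.mul_comm _ 8, pow_mul, hζ.pow_eq_one, one_pow, sub_self, zero_div, mul_zero]
    have hpow : ∀ j, (mat3 (x ^ k) ^ j).map fK = (P : Matrix chevE8.Idx chevE8.Idx Kbar) *
        Matrix.diagonal (fun i => ((ζ ^ kap 8 v i) ^ k) ^ j) * (↑P⁻¹ : Matrix chevE8.Idx chevE8.Idx Kbar) := by
      intro j
      rw [← RingHom.mapMatrix_apply, map_pow, RingHom.mapMatrix_apply, hP, Units.conj_pow, Matrix.diagonal_pow]
      rfl
    rw [hd, avgPow, Matrix.diagonal_smul, Matrix.mul_smul, Matrix.smul_mul]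
    rw [show ((((8 : ℕ) : ZMod 3))⁻¹ • ∑ i ∈ Finset.range 8, mat3 (x ^ k) ^ i).map fK
      = fK ((((8 : ℕ) : ZMod 3))⁻¹) • (∑ i ∈ Finset.range 8, mat3 (x ^ k) ^ i).map fK by
      ext i j; simp only [Matrix.map_apply, Matrix.smul_apply, smul_eq_mul, map_mul], map_inv₀, map_natCast, Nat.cast_ofNat]
    refine congrArg (fun M => (8 : Kbar)⁻¹ • M) ?_
    rw [← RingHom.mapMatrix_apply, map_sum]
    simp only [RingHom.mapMatrix_apply, hpow]
    rw [← Finset.sum_mul, ← Finset.mul_sum]
    congr 2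
    ext i j
    by_cases hij : i = j
    · subst hij; simp [Matrix.sum_apply, Finset.sum_apply]
    · simp [Matrix.sum_apply, Matrix.diagonal_apply_ne _ hij]
  rw [fix8, e, Matrix.rank_mul_eq_left_of_isUnit_det _ _
      ((Matrix.isUnit_iff_isUnit_det _).1 P⁻¹.isUnit),
    Matrix.rank_mul_eq_right_of_isUnit_det _ _
      ((Matrix.isUnit_iff_isUnit_det _).1 P.isUnit), Matrix.rank_diagonal, Fintype.card_subtype, wsum,
    ← Finset.card_filter]
  congr 1
  ext i
  simp

/-- The lists with a bounded dot product. -/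
def budgetLists : List ℕ → ℕ → List (List ℕ)
  | [], _ => [[]]
  | t :: ts, b => (List.range (b / t + 1)).flatMap fun a => (budgetLists ts (b - a * t)).map (a :: ·)

theorem mem_budgetLists : ∀ (ts vl : List ℕ) (b : ℕ), (∀ t ∈ ts, 0 < t) → vl.length = ts.length →
    dot ts vl ≤ b → vl ∈ budgetLists ts b
  | [], [], _, _, _, _ => by simp [budgetLists]
  | [], _ :: _, _, _, h, _ => by simp at h
  | _ :: _, [], _, _, h, _ => by simp at h
  | t :: ts, a :: vl, b, ht, hlen, hb => by
    simp only [dot] at hb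
    have ht0 : 0 < t := ht t (by simp)
    simp only [budgetLists, List.mem_flatMap, List.mem_range, List.mem_map]
    refine ⟨a, Nat.lt_succ_of_le ((Nat.le_div_iff_mul_le ht0).2 ?_), vl,
      mem_budgetLists ts vl _ (fun u hu => ht u (by simp [hu])) (by simpa using hlen) ?_, rfl⟩
    · rw [Nat.mul_comm]; omega
    · rw [Nat.mul_comm]; omega

/-- A multiplicity read off from the list of positive roots. -/
def rootCnt (vl : List ℕ) (W : ℕ → ℕ) : ℕ :=
  8 * W 0 + ((roots26.map fun r => W (dot r vl % 8) + W ((8 - dot r vl % 8) % 8))).sum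

/-- The possible fixed space dimensions of an element of order dividing eight and of its powers. -/
def opts8 : List (List ℕ) :=
  [[30, 60, 120], [32, 60, 120], [32, 64, 120], [34, 66, 136], [34, 70, 136], [36, 70, 136], [38, 60, 120],
    [38, 70, 136], [40, 82, 136], [44, 92, 120], [48, 82, 136], [50, 66, 136], [52, 92, 120], [60, 120, 248],
    [64, 120, 248], [64, 134, 136], [66, 136, 248], [68, 92, 120], [70, 136, 248], [80, 82, 136], [80, 134, 136],
    [82, 136, 248], [92, 120, 248], [120, 248, 248], [134, 136, 248], [136, 248, 248], [248, 248, 248]]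

/-- The test at one point. -/
def optLeaf (vl : List ℕ) : Bool :=
  (List.range 8).any (fun a => rootCnt vl (fun b => if b = a then 1 else 0) !=
      rootCnt vl (fun b => if b = 3 * a % 8 then 1 else 0)) ||
    opts8.contains [rootCnt vl (fun b => if 1 * b % 8 = 0 then 1 else 0),
      rootCnt vl (fun b => if 2 * b % 8 = 0 then 1 else 0), rootCnt vl (fun b => if 4 * b % 8 = 0 then 1 else 0)]

theorem optLeaf_all : ((budgetLists (lev26.map Prod.fst) 8).all optLeaf) = true := by decide +kernel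

theorem options_eight {v : Fin 8 → ℤ} (hinv : ∀ a, cnt 8 v (3 * a % 8) = cnt 8 v (a % 8)) :
    [wsum 8 (fun a => if 1 * a % 8 = 0 then 1 else 0) v, wsum 8 (fun a => if 2 * a % 8 = 0 then 1 else 0) v,
      wsum 8 (fun a => if 4 * a % 8 = 0 then 1 else 0) v] ∈ opts8 := by
  obtain ⟨u, hu, ht, hW⟩ := exists_alcove (by norm_num : 0 < 8) v
  obtain ⟨u', rfl⟩ : ∃ u' : Fin 8 → ℕ, u = fun j => ((u' j : ℕ) : ℤ) :=
    ⟨fun j => (u j).toNat, funext fun j => (Int.toNat_of_nonneg (hu j)).symm⟩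
  have h := setup26 (l := 8) (by norm_num)
  have hsum : ∀ W, wsum 8 W v = rootCnt (coords ord26 u') W := fun W => by
    rw [← hW W]; exact wsum_eq_list (by norm_num) W u' h.ord_perm h.rows
  have hmem : coords ord26 u' ∈ budgetLists (lev26.map Prod.fst) 8 :=
    mem_budgetLists _ _ _ (by decide +kernel) rfl (h.budget u' ht)
  have hleaf := List.all_eq_true.1 optLeaf_all _ hmem
  simp only [optLeaf, Bool.or_eq_true, List.any_eq_true, List.mem_range, bne_iff_ne] at hleaf
  rcases hleaf with ⟨a, ha, hne⟩ | hc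
  · refine absurd ?_ hne
    have := hinv a
    rw [Nat.mod_eq_of_lt ha] at this
    rw [← hsum, ← hsum]
    exact this.symm
  · rw [hsum, hsum, hsum]
    exact List.contains_iff_mem.1 hc

end Cfsg.Agent.Chevalley.NoSub
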