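import Cfsg.Agent.Chevalley.NoSub.Weighted
import Cfsg.Agent.Linear.Order
import Mathlib.GroupTheory.Perm.Cycle.Type

/-!
The elements used against subgroups of the form PSL(2, 3^n).
-/

set_option autoImplicit false
set_option linter.style.haveILetI false
set_option linter.unusedSectionVars false
set_option maxRecDepth 100000
set_option maxHeartbeats 1000000

namespace Cfsg.Agent.Chevalley.NoSub

open Cfsg.Lie
open scoped MatrixGroups

variable {F : Type*} [Field F]

theorem center_sq {g : SL(2, F)} (hg : g ∈ Subgroup.center SL(2, F)) : g ^ 2 = 1 := by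
  obtain ⟨r, hr, hrg⟩ := Matrix.SpecialLinearGroup.mem_center_iff.1 hg
  rw [Fintype.card_fin] at hr
  refine Subtype.ext ?_
  rw [Matrix.SpecialLinearGroup.coe_pow, ← hrg, ← map_pow, hr, map_one,
    Matrix.SpecialLinearGroup.coe_one]

theorem neg_one_central {g : SL(2, F)} (hg : (g : Matrix (Fin 2) (Fin 2) F) = -1) :
    g ∈ Subgroup.center SL(2, F) :=
  Subgroup.mem_center_iff.2 fun h => Subtype.ext (by
    rw [Matrix.SpecialLinearGroup.coe_mul, Matrix.SpecialLinearGroup.coe_mul, hg, mul_neg_one,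
      neg_one_mul])

theorem diag_pow_of_conj {K : Type*} [Field K] (P : (Matrix (Fin 2) (Fin 2) K)ˣ) {μ ν : K} {k : ℕ}
    {X : Matrix (Fin 2) (Fin 2) K}
    (h : ((P : Matrix (Fin 2) (Fin 2) K) * !![μ, 0; 0, ν] * (↑P⁻¹ : Matrix (Fin 2) (Fin 2) K)) ^ k = X)
    (hX : X * P = P * X) : !![μ ^ k, 0; 0, ν ^ k] = X := by
  have hp : (!![μ, 0; 0, ν] : Matrix (Fin 2) (Fin 2) K) ^ k = !![μ ^ k, 0; 0, ν ^ k] := by
    clear h
    induction k with
    | zero => ext i j; fin_cases i <;> fin_cases j <;> simp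
    | succ k ih =>
      rw [pow_succ, ih]
      ext i j
      fin_cases i <;> fin_cases j <;> simp [pow_succ, Matrix.mul_apply, Fin.sum_univ_two]
  rw [Units.conj_pow, hp] at h
  generalize (!![μ ^ k, 0; 0, ν ^ k] : Matrix (Fin 2) (Fin 2) K) = D at h
  refine (Units.mul_right_inj P).1 ?_
  rw [← hX, ← h, mul_assoc _ (↑P⁻¹ : Matrix (Fin 2) (Fin 2) K), Units.inv_mul, mul_one]

variable [Fintype F] [DecidableEq F] {n : ℕ} (ι : F →+* Kbar)
  (ψ : SL(2, F) →* ↥(chevE8.group (ZMod 3)))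
  (hker : ∀ g, ψ g = 1 ↔ g ∈ Subgroup.center SL(2, F)) {c : (Fin n → Fin 3) → ℕ}
  (hodd : ∀ s, Odd (ones s) → c s = 0)
  (hrank : ∀ e, e * e = e → (extRep (algebraMap (ZMod 3) Kbar) (mrep ψ) e).rank =
    ∑ s, c s * (lrep ι s e).rank)

include hker hodd hrank

theorem rel2 : ∃ v : Fin 8 → ℤ, (∃ i, kap 2 v i ≠ 0) ∧
    ∀ W, wsum 2 W v = ∑ s, c s * packS 2 W (ofVec s) := by
  haveI : CharP F 3 := (RingHom.charP_iff ι ι.injective 3).2 inferInstance
  let J : SL(2, F) := ⟨!![0, 1; -1, 0], by simp [Matrix.det_fin_two]⟩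
  have hJ : ((J ^ 2 : SL(2, F)) : Matrix (Fin 2) (Fin 2) F) = -1 := by
    rw [Matrix.SpecialLinearGroup.coe_pow, pow_two]
    ext i j
    fin_cases i <;> fin_cases j <;> simp [J, Matrix.mul_apply, Fin.sum_univ_two]
  have h3 : (1 : F) ≠ -1 := by
    intro h
    have h2 : ((2 : ℕ) : F) = 0 := by push_cast; linear_combination h
    rw [CharP.cast_eq_zero_iff F 3] at h2
    omega
  have hJ2 : J ^ 2 ≠ 1 := fun h => by
    rw [h, Matrix.SpecialLinearGroup.coe_one] at hJ
    exact h3 (by simpa using congrFun (congrFun hJ 0) 0)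
  set A := (J : Matrix (Fin 2) (Fin 2) F).map ι with hA
  have hA2 : A ^ 2 = -1 := by
    have e := congrArg (ι.mapMatrix (m := Fin 2)) hJ
    rw [Matrix.SpecialLinearGroup.coe_pow, map_pow, map_neg, map_one] at e
    exact e
  haveI : CharP Kbar 3 := charPKbar
  have h2K : (2 : Kbar) ≠ 0 := by
    intro h
    have h' : ((2 : ℕ) : Kbar) = 0 := by push_cast; exact h
    rw [CharP.cast_eq_zero_iff Kbar 3] at h'
    omega
  have hm1 : (-1 : Kbar) ≠ 1 := fun h => h2K (by linear_combination -h)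
  have hA6 : A ^ 6 ≠ 1 := by
    rw [show 6 = 2 * 3 from rfl, pow_mul, hA2]
    intro h
    exact hm1 (by simpa [pow_succ, Matrix.mul_apply, Fin.sum_univ_two] using congrFun (congrFun h 0) 0)
  obtain ⟨μ, hμ, hμ2, P, hP⟩ := exists_diag A (by
    rw [hA, show (J : Matrix (Fin 2) (Fin 2) F).map ι = ι.mapMatrix (J : Matrix (Fin 2) (Fin 2) F) from rfl,
      ← RingHom.map_det, J.det_coe, map_one]) hA6
  have hsq : μ ^ 2 = -1 := by
    have e := diag_pow_of_conj P (hP ▸ hA2) (by rw [neg_one_mul, mul_neg_one])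
    simpa using congrFun (congrFun e 0) 0
  have hζ : IsPrimitiveRoot (μ ^ 2) 2 := by
    rw [IsPrimitiveRoot.iff_def, hsq]
    refine ⟨by simp, fun d hd => ?_⟩
    by_contra hnd
    rw [(Nat.odd_iff.2 (by omega) : Odd d).neg_one_pow] at hd
    exact hm1 hd
  have hg4 : J ^ 4 = 1 := by
    rw [show 4 = 2 * 2 from rfl, pow_mul]
    exact center_sq (neg_one_central hJ)
  have hψ2 : ψ J ^ 2 = 1 := by rw [← map_pow]; exact (hker _).2 (neg_one_central hJ)
  refine spectrum_relation ι ψ hodd hrank hg4 ?_ (by norm_num) (by norm_num) hμ hζ P hP hψ2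
    (fun h => hJ2 (center_sq ((hker J).1 h)))
    (conj_diag_26 (by rw [show 26 = 2 * 13 from rfl, pow_mul, hψ2, one_pow]))
  rw [Ne, CharP.cast_eq_zero_iff Kbar 3]
  norm_num

theorem rel_unit {N l : ℕ} (a : Fˣ) (ha : orderOf a = N) (hlN : N = 2 * l ∨ (N = l ∧ Odd l)) (hl : 2 < l)
    (hl26 : l ∣ 26) (hK : ¬ 3 ∣ N) : ∃ v : Fin 8 → ℤ, (∃ i, kap l v i ≠ 0) ∧
    ∀ W, wsum l W v = ∑ s, c s * packS l W (ofVec s) := by
  let g : SL(2, F) := ⟨!![(a : F), 0; 0, ((a⁻¹ : Fˣ) : F)], by simp [Matrix.det_fin_two]⟩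
  have hpow : ∀ k : ℕ, ((g ^ k : SL(2, F)) : Matrix (Fin 2) (Fin 2) F) =
      !![((a ^ k : Fˣ) : F), 0; 0, (((a ^ k)⁻¹ : Fˣ) : F)] := by
    intro k
    induction k with
    | zero => ext i j; fin_cases i <;> fin_cases j <;> simp
    | succ k ih =>
      rw [pow_succ, Matrix.SpecialLinearGroup.coe_mul, ih]
      ext i j
      fin_cases i <;> fin_cases j <;> simp [g, pow_succ, Matrix.mul_apply, Fin.sum_univ_two, mul_comm]
  have hgN : g ^ N = 1 := by
    refine Subtype.ext ?_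
    rw [hpow, ← ha, pow_orderOf_eq_one]
    ext i j; fin_cases i <;> fin_cases j <;> simp
  have hN3 : 2 < N := by omega
  have hζ0 : IsPrimitiveRoot (ι (a : F)) N :=
    ((IsPrimitiveRoot.coe_units_iff (ζ := a)).2 (ha ▸ IsPrimitiveRoot.orderOf a)).map_of_injective
      ι.injective
  have hζ : IsPrimitiveRoot (ι (a : F) ^ 2) l := by
    rcases hlN with h | ⟨h, hodd'⟩
    · exact hζ0.pow (by omega) h
    · subst h; exact hζ0.pow_of_coprime 2 (Nat.coprime_two_left.2 hodd')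
  have hxl : ψ g ^ l = 1 := by
    rw [← map_pow]
    rcases hlN with h | ⟨h, -⟩
    · refine (hker _).2 (neg_one_central ?_)
      rw [hpow]
      have hu : ((a ^ l : Fˣ) : F) = -1 := by
        have h1 : ((a ^ l : Fˣ) : F) ^ 2 = 1 := by
          rw [← Units.val_pow_eq_pow_val, ← pow_mul, Nat.mul_comm, ← h, ← ha, pow_orderOf_eq_one,
            Units.val_one]
        refine (sq_eq_one_iff.1 h1).resolve_left fun h1' => ?_
        exact pow_ne_one_of_lt_orderOf (by omega) (by omega) (Units.val_eq_one.1 h1')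
      rw [Units.val_inv_eq_inv_val, hu, inv_neg, inv_one]
      ext i j; fin_cases i <;> fin_cases j <;> simp
    · rw [← h, hgN, map_one]
  have hg2 : g ^ 2 ≠ 1 := fun h => by
    have e := congrArg (fun x : SL(2, F) => (x : Matrix (Fin 2) (Fin 2) F) 0 0) h
    simp only [hpow, Matrix.SpecialLinearGroup.coe_one, Matrix.one_apply_eq] at e
    exact pow_ne_one_of_lt_orderOf (by norm_num) (ha ▸ hN3) (Units.val_eq_one.1 (by simpa using e))
  refine spectrum_relation ι ψ hodd hrank hgN ?_ (by rcases hlN with h | ⟨h, -⟩ <;> simp [h]) (by omega)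
    (μ := ι (a : F)) ((map_ne_zero ι).2 a.ne_zero) hζ 1 ?_ hxl
    (fun h => hg2 (center_sq ((hker g).1 h))) (conj_diag_26 ?_)
  · rw [Ne, CharP.cast_eq_zero_iff Kbar 3]
    exact hK
  · ext i j
    fin_cases i <;> fin_cases j <;> simp [g]
  · obtain ⟨d, hd⟩ := hl26
    rw [hd, pow_mul, hxl, one_pow]

theorem rel73 (hF : Fintype.card F = 729) : ∃ v : Fin 8 → ℤ, (∃ i, kap 73 v i ≠ 0) ∧
    ∀ W, wsum 73 W v = ∑ s, c s * packS 73 W (ofVec s) := by
  haveI : Fact (Nat.Prime 73) := ⟨by norm_num⟩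
  obtain ⟨g, hg⟩ := exists_prime_orderOf_dvd_card' (G := SL(2, F)) 73 (by
    rw [Cfsg.Agent.Linear.card_SL_two, hF]; norm_num)
  have hg73 : g ^ 73 = 1 := hg ▸ pow_orderOf_eq_one g
  set A := (g : Matrix (Fin 2) (Fin 2) F).map ι with hA
  have hAk : ∀ k, A ^ k = ((g ^ k : SL(2, F)) : Matrix (Fin 2) (Fin 2) F).map ι := fun k =>
    ((map_pow (ι.mapMatrix (m := Fin 2)) (g : Matrix (Fin 2) (Fin 2) F) k).symm.trans
      (by rw [Matrix.SpecialLinearGroup.coe_pow]; rfl))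
  have hinj : ∀ x : SL(2, F), (x : Matrix (Fin 2) (Fin 2) F).map ι = 1 → x = 1 := fun x hx =>
    Subtype.ext (Matrix.map_injective ι.injective (hx.trans (Matrix.map_one ι (map_zero ι) (map_one ι)).symm))
  have hne : ∀ k, 0 < k → k < 73 → g ^ k ≠ 1 := fun k h0 hk =>
    pow_ne_one_of_lt_orderOf (by omega) (hg.symm ▸ hk)
  obtain ⟨μ, hμ, hμ2, P, hP⟩ := exists_diag A (by
    rw [hA, show (g : Matrix (Fin 2) (Fin 2) F).map ι = ι.mapMatrix (g : Matrix (Fin 2) (Fin 2) F) from rfl,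
      ← RingHom.map_det, g.det_coe, map_one]) (fun h => hne 6 (by norm_num) (by norm_num) (hinj _ (by rw [← hAk, h])))
  have hμ73 : μ ^ 73 = 1 := by
    have h1 : A ^ 73 = 1 := by rw [hAk, hg73]; exact Matrix.map_one ι (map_zero ι) (map_one ι)
    have h2 := diag_pow_of_conj P (hP ▸ h1) (by rw [one_mul, mul_one])
    simpa using congrFun (congrFun h2 0) 0
  have hζ : IsPrimitiveRoot (μ ^ 2) 73 := by
    have h1 : (μ ^ 2) ^ 73 = 1 := by rw [← pow_mul, Nat.mul_comm, pow_mul, hμ73, one_pow]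
    have e : orderOf (μ ^ 2) = 73 := orderOf_eq_prime h1 hμ2
    exact e ▸ IsPrimitiveRoot.orderOf _
  refine spectrum_relation ι ψ hodd hrank hg73 ?_ dvd_rfl (by norm_num) hμ hζ P hP
    (by rw [← map_pow, hg73, map_one]) (fun h => hne 2 (by norm_num) (by norm_num)
      (center_sq ((hker g).1 h))) (conj_diag_73 (by rw [← map_pow, hg73, map_one]))
  rw [Ne, CharP.cast_eq_zero_iff Kbar 3]
  norm_num

end Cfsg.Agent.Chevalley.NoSub
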