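import Cfsg.Agent.Chevalley.NoSub.GFTables
import Mathlib.RingTheory.RootsOfUnity.PrimitiveRoots
import Mathlib.Algebra.CharP.Basic
import Mathlib.Tactic.LinearCombination
import Mathlib.Tactic.IntervalCases
import Mathlib.Tactic.NormNum
import Mathlib.Tactic.Ring

/-!
Values of the vectors over the sums of an eleventh root of unity and its inverse.
-/

set_option autoImplicit false
set_option linter.style.haveILetI false
set_option linter.unusedSectionVars false
set_option maxRecDepth 100000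
set_option maxHeartbeats 1000000

namespace Cfsg.Agent.Chevalley.NoSub.GF32

variable {K : Type*} [Field K] (ζ : K)

/-- The value of a vector. -/
def ev (v : Vec) : K :=
  ∑ k ∈ Finset.range 5, (v.getD k 0 : K) * (ζ ^ (k + 1) + ζ ^ (10 - k))

theorem vadd_length {n : ℕ} {a acc : Vec} (ha : a.length = 5) (hacc : acc.length = 5) :
    (vadd n a acc).length = 5 := by simp [vadd, ha, hacc]

variable [CharP K 3]

theorem cast_mod_three (x : ℕ) : ((x % 3 : ℕ) : K) = (x : K) := by
  rw [CharP.natCast_eq_natCast K 3, Nat.ModEq, Nat.mod_mod]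

theorem ev_vadd {n : ℕ} {a acc : Vec} (ha : a.length = 5) (hacc : acc.length = 5) :
    ev ζ (vadd n a acc) = n * ev ζ a + ev ζ acc := by
  match a, ha, acc, hacc with
  | [a0, a1, a2, a3, a4], _, [b0, b1, b2, b3, b4], _ =>
    simp [vadd, ev, Finset.sum_range_succ, cast_mod_three]
    ring

theorem ev_zero : ev ζ [0, 0, 0, 0, 0] = 0 := by simp [ev, Finset.sum_range_succ]

theorem ev_foldl {β : Type*} (L : List β) (n : β → ℕ) (f : β → Vec) (hf : ∀ x ∈ L, (f x).length = 5) :
    ∀ acc : Vec, acc.length = 5 → (L.foldl (fun acc x => vadd (n x) (f x) acc) acc).length = 5 ∧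
      ev ζ (L.foldl (fun acc x => vadd (n x) (f x) acc) acc) = (L.map fun x => (n x : K) * ev ζ (f x)).sum + ev ζ acc := by
  induction L with
  | nil => intro acc h; simp [h]
  | cons x L ih =>
    intro acc h
    obtain ⟨h1, h2⟩ := ih (fun y hy => hf y (by simp [hy])) (vadd (n x) (f x) acc) (vadd_length (hf x (by simp)) h)
    refine ⟨h1, ?_⟩
    rw [List.foldl_cons, h2, ev_vadd ζ (hf x (by simp)) h, List.map_cons, List.sum_cons]
    ring

theorem eta_length (k : ℕ) : (eta k).length = 5 := by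
  unfold eta; split <;> simp

theorem coef_length (j s : ℕ) : (coef j s).length = 5 := by
  unfold coef
  split
  · rfl
  · split
    · rfl
    · split
      · exact vadd_length (eta_length _) rfl
      · rfl

theorem prodCoef_length (i j a b : ℕ) : (prodCoef i j a b).length = 5 := by
  unfold prodCoef
  repeat' split
  all_goals first
    | exact coef_length _ _
    | exact vadd_length (coef_length _ _) rfl
    | exact vadd_length (eta_length _) (vadd_length (eta_length _) rfl)
    | rfl

variable {ζ} (hζ : IsPrimitiveRoot ζ 11)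
include hζ

theorem geom_eleven : 1 + ζ + ζ ^ 2 + ζ ^ 3 + ζ ^ 4 + ζ ^ 5 + ζ ^ 6 + ζ ^ 7 + ζ ^ 8 + ζ ^ 9 + ζ ^ 10 = 0 := by
  have h := hζ.geom_sum_eq_zero (by norm_num)
  simpa [Finset.sum_range_succ] using h

theorem ev_ones : ev ζ [1, 1, 1, 1, 1] = -1 := by
  have h := geom_eleven hζ
  simp [ev, Finset.sum_range_succ]
  linear_combination h

theorem ev_twos : ev ζ [2, 2, 2, 2, 2] = 1 := by
  have h := geom_eleven hζ
  have h3 : (3 : K) = 0 := by exact_mod_cast CharP.cast_eq_zero K 3
  simp [ev, Finset.sum_range_succ]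
  linear_combination 2 * h - h3

theorem ev_eta (k : ℕ) : ev ζ (eta k) = ζ ^ k + ζ ^ (10 * k) := by
  have h11 : ∀ m, ζ ^ m = ζ ^ (m % 11) := fun m => by
    conv_lhs => rw [← Nat.mod_add_div m 11, pow_add, pow_mul, hζ.pow_eq_one, one_pow, mul_one]
  rw [h11 k, h11 (10 * k), Nat.mul_mod]
  have hk := Nat.mod_lt k (show 11 > 0 by norm_num)
  have e : eta k = eta (k % 11) := by unfold eta; rw [Nat.mod_mod]
  rw [e]
  generalize k % 11 = r at hk ⊢
  have h := geom_eleven hζ
  have h3 : (3 : K) = 0 := by exact_mod_cast CharP.cast_eq_zero K 3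
  interval_cases r <;> norm_num [ev, eta, Finset.sum_range_succ, List.range_succ] <;>
    first
      | linear_combination h - h3
      | ring

theorem ev_prodCoef (i j : ℕ) {a b : ℕ} (ha : a ∈ supp) (hb : b ∈ supp) :
    ev ζ (prodCoef i j a b) = ev ζ (coef i a) * ev ζ (coef j b) := by
  have h2 : ((2 : ℕ) : K) = -1 := by
    have h3 : ((3 : ℕ) : K) = 0 := CharP.cast_eq_zero K 3
    push_cast at h3 ⊢
    linear_combination h3
  have hk : ∀ j s, s ∈ kof → ev ζ (coef j s) = -ev ζ (eta (j * (kof.idxOf s + 1))) := by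
    intro j s hs
    have h32 : s ≠ 32 ∧ s ≠ 0 := by constructor <;> (intro h; subst h; revert hs; decide)
    rw [coef, if_neg h32.1, if_neg h32.2, if_pos hs, ev_vadd ζ (eta_length _) rfl, ev_zero, h2]
    ring
  have h1 : ∀ j, ev ζ (coef j 32) = 1 := fun j => by rw [coef, if_pos rfl]; exact ev_twos hζ
  have h0 : ∀ j, ev ζ (coef j 0) = -1 := fun j => by
    rw [coef, if_neg (by norm_num), if_pos rfl]; exact ev_ones hζ
  unfold prodCoef
  by_cases a32 : a = 32
  · subst a32; rw [if_pos rfl, h1, one_mul]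
  rw [if_neg a32]
  by_cases b32 : b = 32
  · subst b32; rw [if_pos rfl, h1, mul_one]
  rw [if_neg b32]
  by_cases a0 : a = 0
  · subst a0; rw [if_pos rfl, ev_vadd ζ (coef_length _ _) rfl, ev_zero, h2, h0]; ring
  rw [if_neg a0]
  by_cases b0 : b = 0
  · subst b0; rw [if_pos rfl, ev_vadd ζ (coef_length _ _) rfl, ev_zero, h2, h0]; ring
  rw [if_neg b0]
  have hsa : a ∈ kof := by simp [supp, kof] at ha ⊢; omega
  have hsb : b ∈ kof := by simp [supp, kof] at hb ⊢; omega
  rw [if_pos hsa, if_pos hsb, ev_vadd ζ (eta_length _) (vadd_length (eta_length _) rfl),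
    ev_vadd ζ (eta_length _) rfl, ev_zero, hk i a hsa, hk j b hsb, ev_eta hζ, ev_eta hζ, ev_eta hζ, ev_eta hζ,
    Nat.cast_one]
  set A := i * (kof.idxOf a + 1)
  set B := j * (kof.idxOf b + 1)
  have h100 : ζ ^ (10 * (10 * B)) = ζ ^ B := by
    rw [show 10 * (10 * B) = B + 11 * (9 * B) by ring, pow_add, pow_mul ζ 11, hζ.pow_eq_one, one_pow, mul_one]
  simp only [Nat.mul_add, pow_add, h100]
  ring

theorem ev_convAt (i j : ℕ) (Hs : List ℕ) :
    ev ζ (convAt i j Hs) = ((supp.zip Hs).map fun p =>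
      (supp.map fun u => (histAt p.2 u : K) * (ev ζ (coef i p.1) * ev ζ (coef j u))).sum).sum := by
  have key : ∀ (L : List (ℕ × ℕ)), (∀ p ∈ L, p.1 ∈ supp) → ∀ acc : Vec, acc.length = 5 →
      ev ζ (L.foldl (fun acc p => supp.foldl (fun acc u => vadd (histAt p.2 u) (prodCoef i j p.1 u) acc) acc) acc) =
      (L.map fun p => (supp.map fun u => (histAt p.2 u : K) * (ev ζ (coef i p.1) * ev ζ (coef j u))).sum).sum + ev ζ acc := by
    intro L
    induction L with
    | nil => simp
    | cons p L ih =>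
      intro hL acc hacc
      obtain ⟨h1, h2⟩ := ev_foldl ζ supp (fun u => histAt p.2 u) (fun u => prodCoef i j p.1 u)
        (fun u _ => prodCoef_length _ _ _ _) acc hacc
      have e : (supp.map fun u => (histAt p.2 u : K) * ev ζ (prodCoef i j p.1 u)) =
          supp.map fun u => (histAt p.2 u : K) * (ev ζ (coef i p.1) * ev ζ (coef j u)) :=
        List.map_congr_left fun u hu => by rw [ev_prodCoef hζ i j (hL p (by simp)) hu]
      rw [List.foldl_cons, ih (fun q hq => hL q (by simp [hq])) _ h1, h2, List.map_cons, List.sum_cons, e]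
      ring
  rw [convAt, key _ (fun p hp => (List.of_mem_zip hp).1) _ rfl, ev_zero, add_zero]

theorem ev_totAt (j u : ℕ) (H0 H1 : List ℕ) :
    (totAt j u H0 H1).length = 5 ∧ ev ζ (totAt j u H0 H1) = ((supp.zip (H0.zip H1)).map fun p =>
      ((2 * histAt p.2.1 u + histAt p.2.2 u : ℕ) : K) * ev ζ (coef j p.1)).sum := by
  obtain ⟨h1, h2⟩ := ev_foldl ζ (supp.zip (H0.zip H1)) (fun p => 2 * histAt p.2.1 u + histAt p.2.2 u)
    (fun p => coef j p.1) (fun p _ => coef_length _ _) [0, 0, 0, 0, 0] rfl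
  exact ⟨h1, by rw [totAt, h2, ev_zero, add_zero]⟩

end Cfsg.Agent.Chevalley.NoSub.GF32
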