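import Mathlib.Tactic.Common
import Mathlib.Algebra.BigOperators.Group.List.Basic

/-!
Tables for the field with thirty-two elements and the counts of pairs of classes in SL(2, 32) used
against PSL(2, 32).
-/

set_option autoImplicit false
set_option maxRecDepth 100000
set_option maxHeartbeats 4000000

namespace Cfsg.Agent.Chevalley.NoSub.GF32

/-- Multiplication by the root of `x ^ 5 + x ^ 2 + 1`. -/
def shl1 (a : ℕ) : ℕ := if 16 ≤ a then Nat.xor (2 * a) 37 else 2 * a

/-- Multiplication of codes by double and add. -/
def gmulSlow : ℕ → ℕ → ℕ → ℕ
  | 0, _, _ => 0
  | k + 1, a, b => Nat.xor (if b % 2 = 1 then a else 0) (gmulSlow k (shl1 a) (b / 2))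

/-- All products in one number. -/
def mulTab : ℕ := 108047903208776182301821177221103242476143116593955060130293304589979379624792515153448842048557508062944046124406229695296066925914606762581689461002085778494869921253308993299871816092985491976045169017559410915641250367137487077474267762475165846192052592168025461595576071664656168551390812030282810547142273575707685992071951630439607196763160003983695986142552761857137002861441091538854289825063246106996111585522612270594387893792604677643806278420866095200429498834875164278453909318858873928361350451542075359389585350846896032637281038213167798410357414190746885591238672396555286314927225104490276004281802275612186310538897012821309466952071474062567291510724844240328231794507178969064997669581675260890171579661861804781287947179868346279216925369372792570769878690061895251633690187934766853249525474952930834331809573725942322942128859614576856896107208964457676110404290123549830361915177833475321143338419370844702955843687682335496728704246540419906221753620676385508341937256156840096544712112163214344887431563846620792143299057294129562689729500658535791013600437345014523103774325441249963724119162034606046898190840942821086017654297642452944418259132037807734164211605724739782819781353435761009390836216362900777584713462606884327330779408941635095127726452318274311602862610838031905185084111375203469849716078223880040803555184033898903431904408499901976387979014468435507345745772488651003084902781458751948967454175797339287002946443741078296424767125593778879332774650111994871979244289813779477452088152162304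

/-- Multiplication of codes. -/
noncomputable def gmul (a b : ℕ) : ℕ :=
  Nat.land (Nat.shiftRight mulTab (5 * (32 * a + b))) 31

/-- Inverses of codes. -/
def invTab : List ℕ := [0, 1, 18, 28, 9, 23, 14, 12, 22, 4, 25, 16, 7, 15, 6, 13, 11, 24, 2, 29, 30, 26, 8, 5, 17, 10, 21, 31, 3, 19, 20, 27]

/-- Matrices of codes. -/
abbrev Code : Type := ℕ × ℕ × ℕ × ℕ

/-- The identity matrix. -/
def cone : Code := (1, 0, 0, 1)

/-- Products of matrices of codes. -/
noncomputable def cmul (x y : Code) : Code :=
  (Nat.xor (gmul x.1 y.1) (gmul x.2.1 y.2.2.1), Nat.xor (gmul x.1 y.2.1) (gmul x.2.1 y.2.2.2),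
    Nat.xor (gmul x.2.2.1 y.1) (gmul x.2.2.2 y.2.2.1), Nat.xor (gmul x.2.2.1 y.2.1) (gmul x.2.2.2 y.2.2.2))

/-- Powers of matrices of codes. -/
noncomputable def cpow (x : Code) : ℕ → Code
  | 0 => cone
  | k + 1 => cmul (cpow x k) x

/-- Whether two matrices of codes are equal. -/
noncomputable def ceq (x y : Code) : Bool :=
  Nat.beq x.1 y.1 && Nat.beq x.2.1 y.2.1 && Nat.beq x.2.2.1 y.2.2.1 && Nat.beq x.2.2.2 y.2.2.2

/-- The class of a matrix: thirty-two for the identity, the trace otherwise. -/
noncomputable def ckey (x : Code) : ℕ := bif ceq x cone then 32 else Nat.xor x.1 x.2.2.2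

/-- The representative of a class. -/
def crep (t : ℕ) : Code := if t = 32 then cone else (t, 1, 1, 0)

/-- The traces of the elements of order eleven, ordered by powers of one of them. -/
def kof : List ℕ := [3, 5, 12, 17, 26]

/-- The classes of the support. -/
def supp : List ℕ := [32, 0, 3, 5, 12, 17, 26]

/-- The matrices of determinant one with a given trace. -/
noncomputable def withTrace (s : ℕ) : List Code :=
  (List.range 32).flatMap fun a => (List.range 32).flatMap fun b =>
    bif Nat.beq b 0 then
      bif Nat.beq (gmul a (Nat.xor s a)) 1 then (List.range 32).map fun c => (a, b, c, Nat.xor s a) else []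
    else [(a, b, gmul (invTab.getD b 0) (Nat.xor 1 (gmul a (Nat.xor s a))), Nat.xor s a)]

/-- The matrices in a class. -/
noncomputable def inClass (s : ℕ) : List Code :=
  bif Nat.beq s 32 then [cone] else bif Nat.beq s 0 then (withTrace 0).filter (fun x => ! ceq x cone) else withTrace s

/-- The class of the adjugate of the first matrix times the second. -/
noncomputable def adjKey (g x : Code) : ℕ :=
  bif ceq x g then 32 else
    Nat.xor (Nat.xor (gmul x.2.2.2 g.1) (gmul x.2.1 g.2.2.1)) (Nat.xor (gmul x.2.2.1 g.2.1) (gmul x.1 g.2.2.2))

/-- The counts of classes of products, sixteen bits per class. -/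
noncomputable def pairHist (g : Code) (s : ℕ) : ℕ :=
  List.rec 0 (fun x _ r => Nat.add r (2 ^ (16 * adjKey g x))) (inClass s)

/-- The count at a class. -/
noncomputable def histAt (H u : ℕ) : ℕ := Nat.land (Nat.shiftRight H (16 * u)) 65535

/-- Vectors over the sums of a root of unity and its inverse. -/
abbrev Vec : Type := List ℕ

/-- The vector of the sum of the power and its inverse. -/
def eta (k : ℕ) : Vec :=
  if k % 11 = 0 then [1, 1, 1, 1, 1] else (List.range 5).map fun i => if min (k % 11) (11 - k % 11) = i + 1 then 1 else 0

/-- Linear combinations modulo three. -/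
def vadd (n : ℕ) (a acc : Vec) : Vec := List.zipWith (fun x y => (n * x + y) % 3) a acc

/-- The coefficient of the `j`-th idempotent at a class. -/
def coef (j s : ℕ) : Vec :=
  if s = 32 then [2, 2, 2, 2, 2] else if s = 0 then [1, 1, 1, 1, 1] else
    if s ∈ kof then vadd 2 (eta (j * (kof.idxOf s + 1))) [0, 0, 0, 0, 0] else [0, 0, 0, 0, 0]

/-- The product of the coefficients at two classes. -/
def prodCoef (i j a b : ℕ) : Vec :=
  if a = 32 then coef j b else if b = 32 then coef i a else
    if a = 0 then vadd 2 (coef j b) [0, 0, 0, 0, 0] else if b = 0 then vadd 2 (coef i a) [0, 0, 0, 0, 0] else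
      if a ∈ kof then
        if b ∈ kof then vadd 1 (eta (i * (kof.idxOf a + 1) + j * (kof.idxOf b + 1)))
          (vadd 1 (eta (i * (kof.idxOf a + 1) + 10 * (j * (kof.idxOf b + 1)))) [0, 0, 0, 0, 0])
        else [0, 0, 0, 0, 0]
      else [0, 0, 0, 0, 0]

/-- The coefficient at a class of a product of two idempotents, from the counts. -/
noncomputable def convAt (i j : ℕ) (Hs : List ℕ) : Vec :=
  (supp.zip Hs).foldl (fun acc p => supp.foldl (fun acc u =>
    vadd (histAt p.2 u) (prodCoef i j p.1 u) acc) acc) [0, 0, 0, 0, 0]

/-- The test at one class for all products. -/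
noncomputable def convTest (g : ℕ) : Bool :=
  let Hs := supp.map (pairHist (crep g))
  [1, 2, 3, 4, 5].all fun i => [1, 2, 3, 4, 5].all fun j =>
    convAt i j Hs == if i = j then coef i g else [0, 0, 0, 0, 0]

/-- The coefficient of the trace at a class. -/
noncomputable def totAt (j u : ℕ) (H0 H1 : List ℕ) : Vec :=
  (supp.zip (H0.zip H1)).foldl (fun acc p =>
    vadd (2 * histAt p.2.1 u + histAt p.2.2 u) (coef j p.1) acc) [0, 0, 0, 0, 0]

/-- The classes of order eleven or thirty-three. -/
def alpha : List ℕ := [3, 5, 6, 7, 12, 17, 20, 21, 22, 23, 24, 25, 26, 28, 29]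

/-- The test for the traces. -/
noncomputable def totTest : Bool :=
  let H0 := supp.map (pairHist (crep 32))
  let H1 := supp.map (pairHist (crep 0))
  [1, 2, 3, 4, 5].all fun j =>
    (vadd 1 (totAt j 32 H0 H1) (totAt j 1 H0 H1) == [2, 2, 2, 2, 2]) &&
      (List.range 32).all fun u => alpha.contains u || u == 1 || totAt j u H0 H1 == [0, 0, 0, 0, 0]

/-- The orders of the representatives used. -/
noncomputable def orderTest : Bool :=
  alpha.all fun t => ceq (cpow (crep t) 33) cone && ! ceq (cpow (crep t) 3) cone

end Cfsg.Agent.Chevalley.NoSub.GF32
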