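import Cfsg.Agent.Chevalley.NoSub.BrauerMult
import Mathlib.RingTheory.RootsOfUnity.PrimitiveRoots

/-!
The eigenvalue idempotents of an element in a group algebra, and their ranks.
-/

set_option linter.style.haveILetI false
set_option linter.unusedSectionVars false
set_option autoImplicit false

namespace Cfsg.Agent.Chevalley.NoSub

open MonoidAlgebra
open scoped Matrix

variable {k : Type*} [Field k] {G : Type*} [Group G]

/-- The idempotent projecting onto the eigenspace of `g` with eigenvalue `a`. -/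
noncomputable def eig (g : G) (l : ℕ) (a : k) : MonoidAlgebra k G :=
  (l : k)⁻¹ • ∑ j ∈ Finset.range l, (a ^ j)⁻¹ • single (g ^ j) (1 : k)

theorem single_mul_eig {g : G} {l : ℕ} {a : k} (hg : g ^ l = 1) (ha : a ^ l = 1) (ha0 : a ≠ 0) :
    single g (1 : k) * eig g l a = a • eig g l a := by
  have hs : ∑ j ∈ Finset.range l, (a ^ (j + 1))⁻¹ • single (g ^ (j + 1)) (1 : k)
      = ∑ j ∈ Finset.range l, (a ^ j)⁻¹ • single (g ^ j) (1 : k) := by
    have h1 := Finset.sum_range_succ' (fun j => (a ^ j)⁻¹ • single (g ^ j) (1 : k)) l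
    have h2 := Finset.sum_range_succ (fun j => (a ^ j)⁻¹ • single (g ^ j) (1 : k)) l
    rw [h1, hg, ha, pow_zero, pow_zero] at h2
    exact add_right_cancel h2
  rw [eig, mul_smul_comm, smul_comm a, Finset.mul_sum]
  congr 1
  conv_rhs => rw [← hs, Finset.smul_sum]
  refine Finset.sum_congr rfl fun j _ => ?_
  rw [mul_smul_comm, single_mul_single, one_mul, pow_succ' g, smul_smul]
  congr 1
  rw [pow_succ' a, mul_inv, ← mul_assoc, mul_inv_cancel₀ ha0, one_mul]

theorem eig_idem {g : G} {l : ℕ} {a : k} (hg : g ^ l = 1) (ha : a ^ l = 1) (hl : (l : k) ≠ 0) :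
    eig g l a * eig g l a = eig g l a := by
  have ha0 : a ≠ 0 := by
    rintro rfl
    rcases l with - | l
    · simp at hl
    · simp at ha
  have hpow : ∀ j, single (g ^ j) (1 : k) * eig g l a = a ^ j • eig g l a := by
    intro j
    induction j with
    | zero => rw [pow_zero, pow_zero, one_smul, ← one_def, one_mul]
    | succ j ih =>
      rw [pow_succ' g, show single (g * g ^ j) (1 : k) = single g 1 * single (g ^ j) 1 by
        rw [single_mul_single, one_mul], mul_assoc, ih, mul_smul_comm, single_mul_eig hg ha ha0,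
        smul_smul, pow_succ]
  conv_lhs => arg 1; rw [eig]
  rw [smul_mul_assoc, Finset.sum_mul, Finset.sum_congr rfl (g := fun _ => eig g l a) fun j _ => by
    rw [smul_mul_assoc, hpow, smul_smul, inv_mul_cancel₀ (pow_ne_zero _ ha0), one_smul],
    Finset.sum_const, Finset.card_range, ← Nat.cast_smul_eq_nsmul k, smul_smul, inv_mul_cancel₀ hl,
    one_smul]

theorem eig_zero (g : G) : ∀ a : k, eig g 0 a = 0 := fun a => by simp [eig]

variable {N : Type*} [Fintype N] [DecidableEq N]

theorem rank_eig {g : G} {l : ℕ} (hg : g ^ l = 1) (hl : (l : k) ≠ 0)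
    (φ : MonoidAlgebra k G →ₐ[k] Matrix N N k) (P : (Matrix N N k)ˣ) (d : N → k)
    (hφ : φ (single g 1) = (P : Matrix N N k) * Matrix.diagonal d * (↑P⁻¹ : Matrix N N k))
    {a : k} (ha : a ^ l = 1) [DecidableEq k] :
    (φ (eig g l a)).rank = (Finset.univ.filter fun i => d i = a).card := by
  have hj : ∀ j, φ (single (g ^ j) 1)
      = (P : Matrix N N k) * Matrix.diagonal (fun i => d i ^ j) * (↑P⁻¹ : Matrix N N k) := by
    intro j
    induction j with
    | zero => simp [← one_def]
    | succ j ih =>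
      rw [pow_succ g, show single (g ^ j * g) (1 : k) = single (g ^ j) 1 * single g 1 by
        rw [single_mul_single, one_mul], map_mul, ih, hφ]
      simp only [pow_succ, Matrix.mul_assoc, ← Matrix.diagonal_mul_diagonal]
      simp [← Matrix.mul_assoc (↑P⁻¹ : Matrix N N k) (P : Matrix N N k)]
  have hd : ∀ i, d i ^ l = 1 := by
    intro i
    have h := hj l
    rw [hg, ← one_def, map_one] at h
    have h' : Matrix.diagonal (fun i => d i ^ l) = (1 : Matrix N N k) := by
      calc Matrix.diagonal (fun i => d i ^ l)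
          = (↑P⁻¹ : Matrix N N k) * ((P : Matrix N N k) * Matrix.diagonal (fun i => d i ^ l) *
              (↑P⁻¹ : Matrix N N k)) * P := by
            simp only [Matrix.mul_assoc]
            simp [← Matrix.mul_assoc (↑P⁻¹ : Matrix N N k) (P : Matrix N N k)]
        _ = 1 := by rw [← h]; simp
    simpa using congrFun (congrFun h' i) i
  have he : φ (eig g l a) = (P : Matrix N N k) *
      Matrix.diagonal (fun i => if d i = a then (1 : k) else 0) * (↑P⁻¹ : Matrix N N k) := by
    have hdiag : (fun i => if d i = a then (1 : k) else 0)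
        = (l : k)⁻¹ • ∑ j ∈ Finset.range l, (a ^ j)⁻¹ • fun i => d i ^ j := by
      funext i
      simp only [Pi.smul_apply, Finset.sum_apply, smul_eq_mul]
      rw [Finset.sum_congr rfl (g := fun j => (a⁻¹ * d i) ^ j) fun j _ => by
        rw [mul_pow, inv_pow]]
      by_cases h : d i = a
      · have ha0 : a ≠ 0 := by
          rintro rfl
          rcases l with - | l
          · simp at hl
          · simp at ha
        rw [if_pos h, h, inv_mul_cancel₀ ha0]
        simp [inv_mul_cancel₀ hl]
      · have hne : a⁻¹ * d i ≠ 1 := fun h1 => h (inv_mul_eq_one₀ (by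
          rintro rfl; simp at h1) |>.1 h1).symm
        rw [if_neg h, geom_sum_eq hne, mul_pow, hd, inv_pow, ha]
        simp
    rw [hdiag, Matrix.diagonal_smul, show Matrix.diagonal (∑ j ∈ Finset.range l,
      (a ^ j)⁻¹ • fun i => d i ^ j) = ∑ j ∈ Finset.range l,
        (a ^ j)⁻¹ • Matrix.diagonal (fun i => d i ^ j) by
      ext i j
      by_cases hij : i = j
      · subst hij; simp [Matrix.sum_apply, Finset.sum_apply]
      · simp [Matrix.sum_apply, Matrix.diagonal_apply_ne _ hij], eig, map_smul, map_sum, Matrix.mul_smul, Matrix.smul_mul, Matrix.mul_sum,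
      Matrix.sum_mul]
    congr 1
    exact Finset.sum_congr rfl fun j _ => by rw [map_smul, hj, Matrix.mul_smul, Matrix.smul_mul]
  rw [he, Matrix.rank_mul_eq_left_of_isUnit_det _ _
      ((Matrix.isUnit_iff_isUnit_det _).1 (Units.isUnit P⁻¹)),
    Matrix.rank_mul_eq_right_of_isUnit_det _ _
      ((Matrix.isUnit_iff_isUnit_det _).1 (Units.isUnit P)), Matrix.rank_diagonal,
    Fintype.card_subtype]
  congr 1
  ext i
  simp only [Finset.mem_filter, Finset.mem_univ, true_and, ne_eq, ite_eq_right_iff, one_ne_zero,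
    imp_false, not_not]

/-- The weighted sum of the ranks of all eigenvalue idempotents. -/
theorem weighted_rank {g : G} {m l : ℕ} (hg : g ^ m = 1) (hm : (m : k) ≠ 0) (hlm : l ∣ m) {ζ : k}
    (hζ : IsPrimitiveRoot ζ l) (φ : MonoidAlgebra k G →ₐ[k] Matrix N N k) (P : (Matrix N N k)ˣ)
    (κ : N → Fin l)
    (hφ : φ (single g 1) = (P : Matrix N N k) *
      Matrix.diagonal (fun i => ζ ^ (κ i).val) * (↑P⁻¹ : Matrix N N k))
    (W : Fin l → ℕ) :
    ∑ a : Fin l, W a * (φ (eig g m (ζ ^ a.val))).rank = ∑ i, W (κ i) := by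
  classical
  rw [← Finset.sum_fiberwise Finset.univ κ]
  refine Finset.sum_congr rfl fun a _ => ?_
  rw [rank_eig hg hm φ P _ hφ (by
      obtain ⟨c, rfl⟩ := hlm
      rw [← pow_mul, mul_comm, mul_assoc, pow_mul, hζ.pow_eq_one, one_pow]),
    Finset.sum_congr rfl (g := fun _ => W a) fun i hi => by rw [(Finset.mem_filter.1 hi).2],
    Finset.sum_const, smul_eq_mul, mul_comm]
  congr 2
  ext i
  simp only [Finset.mem_filter, Finset.mem_univ, true_and]
  exact ⟨fun h => Fin.ext (hζ.pow_inj (κ i).isLt a.isLt h), fun h => by rw [h]⟩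

end Cfsg.Agent.Chevalley.NoSub
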