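import Cfsg.Agent.Chevalley.NoSub.WeylNeg

/-!
In the Chevalley group of type E8 over an algebraically closed field of characteristic three, an
involution commuting with an element of odd order of the diagonal subgroup moves into the diagonal
subgroup by an element commuting with that element.
-/

set_option autoImplicit false
set_option linter.style.haveILetI false
set_option linter.unusedSectionVars false
set_option maxRecDepth 100000
set_option maxHeartbeats 1000000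

namespace Cfsg.Agent.Chevalley.NoSub

open Cfsg.Lie Cfsg.Agent.H37 Cfsg.Agent.H37.RootSys Cfsg.Agent.Chevalley.Weights

variable (K : Type) [Field K]

/-- The action on root indices. -/
noncomputable abbrev actK (w : (H37.Chev.dataE8 K).X.M.Group) (s : ℕ) : ℕ :=
  act (H37.Chev.dataE8 K).X.good w s

/-- The root elements inside the group. -/
noncomputable abbrev X (s : ℕ) (t : K) : ↥(chevE8.group K) := (H37.Chev.dataE8 K).sys.x s t

theorem coe_X (s : ℕ) (t : K) : (X K s t : GL chevE8.Idx K) = E8.cert.xU K s t := rfl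

theorem X_add (s : ℕ) (t u : K) : X K s t * X K s u = X K s (t + u) :=
  Subtype.ext (E8.cert.xU_add K s t u)

theorem X_inv (s : ℕ) (t : K) : (X K s t)⁻¹ = X K s (-t) :=
  Subtype.ext (E8.cert.xU_inv K s t)

theorem X_commute {r s : ℕ} (hr : r < 240) (hs : s < 240) (h : pairingSum chevE8 r s = 0)
    (h1 : s ≠ r) (h2 : s ≠ chevE8.neg r) (t u : K) : X K s u * X K r t = X K r t * X K s u := by
  refine Subtype.ext ?_
  have e := E8.cert.xU_comm K hr hs h1 h2 t u
  rw [ChevalleyDatum.commWord, commTerms_nil hr hs h, List.map_nil, E8.cert.wU_nil, mul_one] at e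
  exact e

theorem X_eq_X {r s : ℕ} (hr : r < 240) {t u : K} (ht : t ≠ 0) (e : X K r t = X K s u) : r = s := by
  by_contra hne
  refine ht (cor_zero E8.cert hr fun i hi => ?_)
  have hn : chevE8.neg r < 240 := E8.cert.neg_lt hr
  have e' := congrArg (fun g : ↥(chevE8.group K) =>
    ((g : GL chevE8.Idx K) : Matrix chevE8.Idx chevE8.Idx K) (.inl ⟨i, hi⟩) (.inr ⟨chevE8.neg r, hn⟩)) e
  simp only [coe_X, Chevalley.Cert.coe_xU] at e'
  rw [x_inl_inr E8.cert hr, if_pos rfl] at e'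
  rw [e']
  by_cases hs : s < 240
  · rw [x_inl_inr E8.cert hs, if_neg]
    intro h
    exact hne (by simpa [E8.cert.neg_neg hr, E8.cert.neg_neg hs] using congrArg chevE8.neg h)
  · simp [ChevalleyDatum.x, show ¬ s < chevE8.nroots from hs]

theorem scales_mul {χ ψ : chevE8.Idx → Kˣ} {r : ℕ} {a b : Kˣ} (h : Scales χ r a)
    (h' : Scales ψ r b) : Scales (χ * ψ) r (a * b) := fun k row col hne => by
  rw [Pi.mul_apply, Pi.mul_apply, h k row col hne, h' k row col hne, mul_pow, mul_mul_mul_comm]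

/-- The value at the root `r` of a tuple. -/
def rootVal (c : Fin 8 → Kˣ) (r : ℕ) : Kˣ :=
  ∏ m : Fin 8, c m ^ pairingSum chevE8 (chevE8.simple m.val) r

theorem torus_conj {z : ↥(chevE8.group K)} {c : Fin 8 → Kˣ} (hz : torus chevE8 K c = z)
    {r : ℕ} (hr : r < 240) (t : K) : z * X K r t * z⁻¹ = X K r ((rootVal K c r : K) * t) := by
  classical
  refine Subtype.ext ?_
  show (z : GL chevE8.Idx K) * E8.cert.xU K r t * (z : GL chevE8.Idx K)⁻¹ = _
  rw [← hz]
  refine E8.cert.dU_conj_xU K hr ?_ t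
  have : ∀ T : Finset (Fin 8), Scales (fun x : chevE8.Idx => ∏ m ∈ T, c m ^ pe (chevE8.simple m.val) x) r
      (∏ m ∈ T, c m ^ pairingSum chevE8 (chevE8.simple m.val) r) := by
    intro T
    induction T using Finset.induction with
    | empty => intro k row col _; simp
    | insert m T hm ih =>
      have := scales_mul K (E8.cert.scales_hDiag K (r := chevE8.simple m.val) hr (c m)) ih
      simp only [Finset.prod_insert hm]
      exact this
  exact this Finset.univ

theorem rootVal_neg (c : Fin 8 → Kˣ) {r : ℕ} (hr : r < 240) :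
    rootVal K c (chevE8.neg r) = (rootVal K c r)⁻¹ := by
  rw [rootVal, rootVal, ← Finset.prod_inv_distrib]
  refine Finset.prod_congr rfl fun m _ => ?_
  rw [E8.cert.pairing_simple m.isLt, E8.cert.pairing_simple m.isLt,
    E8.cert.cartan_neg_root m.isLt hr, zpow_neg]

theorem mem_H_iff {z : ↥(chevE8.group K)} :
    z ∈ (H37.Chev.dataE8 K).sys.H ↔ ∃ c : Fin 8 → Kˣ, torus chevE8 K c = z := by
  show (z : GL chevE8.Idx K) ∈ chevE8.diagonalSubgroup K ↔ _
  rw [E8.cert.diagonalSubgroup_eq K]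
  rfl

/-- Representatives act linearly on the root subgroups. -/
theorem lin_rep (w : (H37.Chev.dataE8 K).X.M.Group) : ∀ r, r < 240 → ∃ c : Kˣ, ∀ t : K,
    (H37.Chev.dataE8 K).sys.rep w * X K r t * ((H37.Chev.dataE8 K).sys.rep w)⁻¹
      = X K (actK K w r) ((c : K) * t) := by
  refine Sys.gen_induction (p := fun w => ∀ r, r < 240 → ∃ c : Kˣ, ∀ t : K,
    (H37.Chev.dataE8 K).sys.rep w * X K r t * ((H37.Chev.dataE8 K).sys.rep w)⁻¹
      = X K (actK K w r) ((c : K) * t)) ?_ ?_ w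
  · intro r hr
    refine ⟨1, fun t => ?_⟩
    rw [Sys.rep_one, one_mul, inv_one, mul_one, Units.val_one, one_mul, show actK K 1 r = r from act_one r]
  · intro i w ih r hr
    obtain ⟨c, hc⟩ := ih r hr
    obtain ⟨k, hk, e1⟩ := (H37.Chev.dataE8 K).sys.rep_mul ((H37.Chev.dataE8 K).X.M.simple i) w
    obtain ⟨h, hh, e2⟩ := (H37.Chev.dataE8 K).sys.rep_simple i
    obtain ⟨a, ha⟩ := (mem_H_iff K).1 (mul_mem (inv_mem hk) hh)
    have hlt : actK K w r < 240 := act_lt w hr
    have hi : i.val < chevE8.rank := i.isLt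
    have hlt' : E8.cert.w i (actK K w r) < 240 := (E8.cert.w_lt i hi _ hlt).1
    have hsg : ((E8.cert.sg i (actK K w r) : K)) ≠ 0 := by
      rcases E8.cert.sg_pm i (actK K w r) with h | h <;> rw [h] <;> simp
    refine ⟨rootVal K a (E8.cert.w i (actK K w r)) * Units.mk0 _ hsg * c, fun t => ?_⟩
    have e5 : (H37.Chev.dataE8 K).sys.rep ((H37.Chev.dataE8 K).X.M.simple i * w)
        = k⁻¹ * h * (H37.Chev.dataE8 K).sys.ns i * (H37.Chev.dataE8 K).sys.rep w := by
      rw [mul_assoc k⁻¹, ← e2, mul_assoc]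
      erw [e1]
      rw [inv_mul_cancel_left]
    have e3 : (H37.Chev.dataE8 K).sys.ns i * X K (actK K w r) ((c : K) * t)
        * ((H37.Chev.dataE8 K).sys.ns i)⁻¹
        = X K (E8.cert.w i (actK K w r)) ((E8.cert.sg i (actK K w r) : K) * ((c : K) * t)) :=
      Subtype.ext (E8.cert.nS_conj_xU K hi hlt _)
    have e6 : actK K ((H37.Chev.dataE8 K).X.M.simple i * w) r = E8.cert.w i (actK K w r) := by
      show act (H37.Chev.dataE8 K).X.good _ r = _
      rw [act_mul _ _ (show r < chevE8.nroots from hr), act_simple i hlt]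
      exact sigma_eq_w (H37.Chev.dataE8 K).X.good E8.cert i.isLt hlt
    rw [e6, e5]
    calc k⁻¹ * h * (H37.Chev.dataE8 K).sys.ns i * (H37.Chev.dataE8 K).sys.rep w * X K r t *
          (k⁻¹ * h * (H37.Chev.dataE8 K).sys.ns i * (H37.Chev.dataE8 K).sys.rep w)⁻¹
        = (k⁻¹ * h) * ((H37.Chev.dataE8 K).sys.ns i *
            ((H37.Chev.dataE8 K).sys.rep w * X K r t * ((H37.Chev.dataE8 K).sys.rep w)⁻¹) *
            ((H37.Chev.dataE8 K).sys.ns i)⁻¹) * (k⁻¹ * h)⁻¹ := by group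
      _ = _ := by
          rw [hc, e3, torus_conj K ha hlt']
          congr 1
          push_cast
          simp only [Units.val_mk0]
          ring

/-- The root permutation of an element of the monomial group. -/
theorem exists_act {m : ↥(chevE8.group K)} (hm : m ∈ (H37.Chev.dataE8 K).amb.N) :
    ∃ w : (H37.Chev.dataE8 K).X.M.Group, (∃ h ∈ (H37.Chev.dataE8 K).sys.H, m = h * (H37.Chev.dataE8 K).sys.rep w) ∧
      ∀ r, r < 240 → ∃ c : Kˣ, ∀ t : K, m * X K r t * m⁻¹ = X K (actK K w r) ((c : K) * t) := by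
  obtain ⟨h, hh, w, rfl⟩ := hm
  refine ⟨w, ⟨h, hh, rfl⟩, fun r hr => ?_⟩
  obtain ⟨c, hc⟩ := lin_rep K w r hr
  obtain ⟨a, ha⟩ := (mem_H_iff K).1 (show h ∈ (H37.Chev.dataE8 K).sys.H from hh)
  refine ⟨rootVal K a (actK K w r) * c, fun t => ?_⟩
  calc _ = h * ((H37.Chev.dataE8 K).sys.rep w * X K r t * ((H37.Chev.dataE8 K).sys.rep w)⁻¹) * h⁻¹ := by
        show h * _ * X K r t * (h * (H37.Chev.dataE8 K).sys.rep w)⁻¹ = _
        group
        rfl
    _ = _ := by rw [hc, torus_conj K ha (act_lt w hr)]; push_cast; rw [mul_assoc]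

/-- `n_r(t)` inside the group. -/
noncomputable def nEl (r : ℕ) (t : K) : ↥(chevE8.group K) :=
  X K r t * X K (chevE8.neg r) (-t⁻¹) * X K r t

theorem coe_nEl (r : ℕ) (t : K) : (nEl K r t : GL chevE8.Idx K) = E8.cert.nU K r t :=
  (E8.cert.nU_eq K r t).symm

theorem nEl_mem_N {r : ℕ} (hr : r < 240) {t : K} (ht : t ≠ 0) :
    nEl K r t ∈ (H37.Chev.dataE8 K).amb.N := by
  rw [H37.Chev.Data.amb_N, Subgroup.mem_subgroupOf, coe_nEl]
  have e : E8.cert.nU K r t = E8.cert.hU K r t * E8.cert.nU K r 1 := by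
    rw [E8.cert.hU_eq, mul_assoc, ← E8.cert.nU_inv K r 1, inv_mul_cancel, mul_one]
  rw [e]
  exact mul_mem (Subgroup.mem_sup_left (E8.cert.hU_mem K hr ht))
    (Subgroup.mem_sup_right (Subgroup.subset_closure ⟨r, hr, E8.cert.coe_nU K r 1⟩))

theorem nEl_inv (r : ℕ) (t : K) : (nEl K r t)⁻¹ = nEl K r (-t) :=
  Subtype.ext (by rw [Subgroup.coe_inv, coe_nEl, coe_nEl, E8.cert.nU_inv])

theorem nEl_conj_self {r : ℕ} (hr : r < 240) {t : K} (ht : t ≠ 0) (u : K) :
    nEl K r t * X K r u * (nEl K r t)⁻¹ = X K (chevE8.neg r) (-(t⁻¹ ^ 2 * u)) :=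
  Subtype.ext (by
    simp only [Subgroup.coe_mul, Subgroup.coe_inv, coe_nEl, coe_X]
    exact E8.cert.nU_conj_self K r hr (Units.mk0 t ht) u)

theorem nEl_conj_neg {r : ℕ} (hr : r < 240) {t : K} (ht : t ≠ 0) (u : K) :
    nEl K r t * X K (chevE8.neg r) u * (nEl K r t)⁻¹ = X K r (-(t ^ 2 * u)) := by
  have h := nEl_conj_self K hr (neg_ne_zero.2 ht) (-(t ^ 2 * u))
  rw [← nEl_inv K r t, inv_inv] at h
  have h' := congrArg (fun g => nEl K r t * g * (nEl K r t)⁻¹) h
  have : (-((-t)⁻¹ ^ 2 * -(t ^ 2 * u))) = u := by field_simp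
  rw [this] at h'
  rw [← h']
  group

open Classical in
/-- The root subgroups fixed by an element. -/
noncomputable def fixRoots (m : ↥(chevE8.group K)) : Finset ℕ :=
  (Finset.range 240).filter fun s => ∀ t : K, ∃ t', m * X K s t * m⁻¹ = X K s t'

variable [CharP K 3] [IsAlgClosed K]

theorem conj_step {m z : ↥(chevE8.group K)} (hm : m ∈ (H37.Chev.dataE8 K).amb.N) (hm2 : m * m = 1)
    (hz : z ∈ (H37.Chev.dataE8 K).sys.H) (hmz : m * z = z * m) {k : ℕ} (hk : z ^ (2 * k + 1) = 1)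
    (hmH : m ∉ (H37.Chev.dataE8 K).sys.H) :
    ∃ y, y * z = z * y ∧ y⁻¹ * m * y ∈ (H37.Chev.dataE8 K).amb.N ∧
      (fixRoots K m).card < (fixRoots K (y⁻¹ * m * y)).card := by
  classical
  obtain ⟨w, ⟨h, hh, hmw⟩, hlin⟩ := exists_act K hm
  have hw2 : w * w = 1 := by
    obtain ⟨h', hh', e⟩ := (H37.Chev.dataE8 K).sys.rep_mul w w
    refine (H37.Chev.dataE8 K).amb.eq_one_of_n_mem_B ?_
    have e2 : (H37.Chev.dataE8 K).sys.rep (w * w) = h'⁻¹ *
        ((H37.Chev.dataE8 K).sys.rep w * h * ((H37.Chev.dataE8 K).sys.rep w)⁻¹)⁻¹ * h⁻¹ := by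
      have e3 : (h * (H37.Chev.dataE8 K).sys.rep w) * (h * (H37.Chev.dataE8 K).sys.rep w) = 1 :=
        hmw ▸ hm2
      calc _ = h'⁻¹ * ((H37.Chev.dataE8 K).sys.rep w * (H37.Chev.dataE8 K).sys.rep w) := by
            rw [e, inv_mul_cancel_left]
        _ = h'⁻¹ * ((H37.Chev.dataE8 K).sys.rep w * h * ((H37.Chev.dataE8 K).sys.rep w)⁻¹)⁻¹ * h⁻¹ *
            ((h * (H37.Chev.dataE8 K).sys.rep w) * (h * (H37.Chev.dataE8 K).sys.rep w)) := by group
        _ = _ := by rw [e3, mul_one]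
    exact Tits.Ambient.H_le_B _ (show (H37.Chev.dataE8 K).sys.rep (w * w) ∈ (H37.Chev.dataE8 K).sys.H
      from e2 ▸ mul_mem (mul_mem (inv_mem hh') (inv_mem (Sys.rep_conj_H _ w hh))) (inv_mem hh))
  have hw1 : w ≠ 1 := by
    rintro rfl
    refine hmH ?_
    rw [hmw, Sys.rep_one, mul_one]
    exact hh
  obtain ⟨α, hα, hwα⟩ := exists_neg_root hw2 hw1
  replace hwα : actK K w α = chevE8.neg α := hwα
  have hnα : chevE8.neg α < 240 := E8.cert.neg_lt hα
  obtain ⟨c, hc⟩ := hlin α hα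
  rw [hwα] at hc
  have hminv : m⁻¹ = m := inv_eq_of_mul_eq_one_right hm2
  have hc' : ∀ t : K, m * X K (chevE8.neg α) t * m⁻¹ = X K α ((c : K)⁻¹ * t) := by
    intro t
    have e := hc ((c : K)⁻¹ * t)
    rw [mul_inv_cancel_left₀ c.ne_zero, hminv] at e
    rw [← e, hminv]
    simp only [← mul_assoc]
    rw [hm2, one_mul, mul_assoc _ m m, hm2, mul_one]
  obtain ⟨za, hza⟩ := (mem_H_iff K).1 hz
  have hζ : rootVal K za α = 1 := by
    set a := rootVal K za α
    have h1 := congrArg (fun g => m * g * m⁻¹) (torus_conj K hza hα 1)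
    rw [hc, show m * (z * X K α 1 * z⁻¹) * m⁻¹ = (m * z) * X K α 1 * (m * z)⁻¹ by group, hmz,
      show z * m * X K α 1 * (z * m)⁻¹ = z * (m * X K α 1 * m⁻¹) * z⁻¹ by group, hc,
      torus_conj K hza hnα, rootVal_neg K za hα] at h1
    have h2 : ((a⁻¹ : Kˣ) : K) * ((c : K) * 1) = (c : K) * ((a : K) * 1) := by
      by_contra hne
      have h3 : X K (chevE8.neg α) (((a⁻¹ : Kˣ) : K) * ((c : K) * 1) - (c : K) * ((a : K) * 1)) = 1 := by
        rw [sub_eq_add_neg, ← X_add, h1, X_add, add_neg_cancel]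
        exact Subtype.ext (E8.cert.xU_zero K _)
      exact sub_ne_zero.2 hne ((E8.cert.xU_eq_one_iff K hnα _).1 (congrArg Subtype.val h3))
    have h4 : a⁻¹ = a := Units.ext (mul_right_cancel₀ c.ne_zero (by linear_combination h2))
    have h5 : a ^ (2 * k + 1) = 1 := by
      have hp : ∀ j, z ^ j * X K α 1 * (z ^ j)⁻¹ = X K α ((a ^ j : Kˣ) : K) := by
        intro j
        induction j with
        | zero => simp
        | succ j ih =>
          rw [pow_succ' z, show z * z ^ j * X K α 1 * (z * z ^ j)⁻¹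
            = z * (z ^ j * X K α 1 * (z ^ j)⁻¹) * z⁻¹ by group, ih, torus_conj K hza hα]
          rw [pow_succ', Units.val_mul]
      have := hp (2 * k + 1)
      rw [hk, one_mul, inv_one, mul_one] at this
      by_contra hne
      have h3 : X K α (((a ^ (2 * k + 1) : Kˣ) : K) - 1) = 1 := by
        rw [sub_eq_add_neg, ← X_add, ← this, X_add, add_neg_cancel]
        exact Subtype.ext (E8.cert.xU_zero K _)
      have h6 := (E8.cert.xU_eq_one_iff K hα _).1 (congrArg Subtype.val h3)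
      exact hne (Units.ext (sub_eq_zero.1 h6))
    have h6 : a * a = 1 := by nth_rewrite 1 [← h4]; rw [inv_mul_cancel]
    rwa [pow_succ, pow_mul, pow_two, h6, one_pow, one_mul] at h5
  obtain ⟨a, ha⟩ := IsAlgClosed.exists_pow_nat_eq ((c : K)⁻¹) (n := 2) (by norm_num)
  have ha0 : a ≠ 0 := fun h => by
    rw [h, zero_pow two_ne_zero] at ha
    exact inv_ne_zero c.ne_zero ha.symm
  have hca : (c : K) * a = a⁻¹ := eq_inv_of_mul_eq_one_left (by
    rw [mul_assoc, ← pow_two, ha, mul_inv_cancel₀ c.ne_zero])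
  have hcinv : (c : K)⁻¹ = a ^ 2 := ha.symm
  have h2K : (2 : K) ≠ 0 := fun h => absurd ((CharP.cast_eq_zero_iff K 3 2).1 (by exact_mod_cast h))
    (by norm_num)
  set b : K := -(2 * a)⁻¹ with hb
  refine ⟨X K α a * X K (chevE8.neg α) b, ?_, ?_⟩
  · have hx : ∀ s, s < 240 → rootVal K za s = 1 → ∀ t, Commute (X K s t) z := by
      intro s hs h1 t
      have := torus_conj K hza hs t
      rw [h1, Units.val_one, one_mul, mul_inv_eq_iff_eq_mul] at this
      exact this.symm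
    exact ((hx α hα hζ a).mul_left (hx _ hnα (by rw [rootVal_neg K za hα, hζ, inv_one]) b)).eq
  have hmain : (X K α a * X K (chevE8.neg α) b)⁻¹ * m * (X K α a * X K (chevE8.neg α) b)
      = nEl K α (-a) * m := by
    calc _ = (X K (chevE8.neg α) b)⁻¹ * (X K α a)⁻¹ * (m * X K α a * m⁻¹) *
          (m * X K (chevE8.neg α) b * m⁻¹) * m := by group
      _ = X K (chevE8.neg α) (-b) * X K α (-a) * X K (chevE8.neg α) (-(-a)⁻¹) * X K α ((c : K)⁻¹ * b) * m := by
          rw [hc, hc', X_inv, X_inv, hca, show (-(-a)⁻¹ : K) = a⁻¹ by rw [inv_neg, _root_.neg_neg]]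
      _ = X K (chevE8.neg α) (-b) * nEl K α (-a) * (X K α a * X K α ((c : K)⁻¹ * b)) * m := by
          rw [nEl, show X K α a = (X K α (-a))⁻¹ by rw [X_inv, neg_neg]]
          group
      _ = nEl K α (-a) * ((nEl K α a * X K (chevE8.neg α) (-b) * (nEl K α a)⁻¹) *
          (X K α a * X K α ((c : K)⁻¹ * b))) * m := by
          rw [show nEl K α (-a) = (nEl K α a)⁻¹ from (nEl_inv K α a).symm]
          group
      _ = _ := by
          rw [nEl_conj_neg K hα ha0, X_add, X_add, hcinv]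
          have : -(a ^ 2 * -b) + (a + a ^ 2 * b) = 0 := by
            rw [hb]
            field_simp
            ring
          rw [this]
          have : X K α (0 : K) = 1 := Subtype.ext (E8.cert.xU_zero K _)
          rw [this, mul_one]
  rw [hmain]
  have hN : nEl K α (-a) * m ∈ (H37.Chev.dataE8 K).amb.N :=
    mul_mem (nEl_mem_N K hα (neg_ne_zero.2 ha0)) hm
  refine ⟨hN, Finset.card_lt_card (Finset.ssubset_iff_of_subset ?_ |>.2 ⟨α, ?_, ?_⟩)⟩
  · intro s hs
    obtain ⟨hs', hfs⟩ := Finset.mem_filter.1 hs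
    rw [Finset.mem_range] at hs'
    obtain ⟨d, hd⟩ := hlin s hs'
    obtain ⟨t', ht'⟩ := hfs 1
    rw [hd] at ht'
    have hws : actK K w s = s := X_eq_X K (act_lt w hs') (by simp) ht'
    have hsα : s ≠ α := by
      rintro rfl
      exact E8.cert.neg_ne hα (hwα.symm.trans hws)
    have hsn : s ≠ chevE8.neg α := by
      rintro rfl
      have e : actK K w (chevE8.neg α) = chevE8.neg (actK K w α) := by
        rw [E8.cert.neg_eq α hα, E8.cert.neg_eq _ (act_lt w hα)]
        exact act_neg w hα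
      rw [hws, hwα, E8.cert.neg_neg hα] at e
      exact E8.cert.neg_ne hα e
    have hp : pairingSum chevE8 α s = 0 := by
      have e := TwTorus.pairing_act (H37.Chev.dataE8 K) w α s hα hs'
      change pairingSum chevE8 (actK K w α) (actK K w s) = _ at e
      rw [hwα, hws] at e
      have e2 : pairingSum chevE8 (chevE8.neg α) s = - pairingSum chevE8 α s := by
        simp only [pairingSum, ← Finset.sum_neg_distrib]
        refine Finset.sum_congr rfl fun j hj => ?_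
        rw [pairing_neg_left ⟨α, hα⟩ ⟨j, Finset.mem_range.1 hj⟩, neg_mul]
      omega
    have hp' : pairingSum chevE8 (chevE8.neg α) s = 0 := by
      simp only [pairingSum] at hp ⊢
      rw [← neg_eq_zero, ← Finset.sum_neg_distrib, ← hp]
      refine Finset.sum_congr rfl fun j hj => ?_
      rw [pairing_neg_left ⟨α, hα⟩ ⟨j, Finset.mem_range.1 hj⟩, neg_mul, _root_.neg_neg]
    have hcomm : ∀ u, nEl K α (-a) * X K s u = X K s u * nEl K α (-a) := by
      intro u
      have c1 : ∀ t, Commute (X K α t) (X K s u) := fun t =>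
        (X_commute K hα hs' hp hsα hsn t u).symm
      have c2 : ∀ t, Commute (X K (chevE8.neg α) t) (X K s u) := fun t =>
        (X_commute K hnα hs' hp' hsn (by rw [E8.cert.neg_neg hα]; exact hsα) t u).symm
      exact (((c1 _).mul_left (c2 _)).mul_left (c1 _)).eq
    refine Finset.mem_filter.2 ⟨Finset.mem_range.2 hs', fun t => ⟨(d : K) * t, ?_⟩⟩
    rw [show nEl K α (-a) * m * X K s t * (nEl K α (-a) * m)⁻¹
      = nEl K α (-a) * (m * X K s t * m⁻¹) * (nEl K α (-a))⁻¹ by group, hd, hws, hcomm,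
      mul_inv_cancel_right]
  · refine Finset.mem_filter.2
      ⟨Finset.mem_range.2 hα, fun t => ⟨-((-a) ^ 2 * ((c : K) * t)), ?_⟩⟩
    rw [show nEl K α (-a) * m * X K α t * (nEl K α (-a) * m)⁻¹
      = nEl K α (-a) * (m * X K α t * m⁻¹) * (nEl K α (-a))⁻¹ by group, hc,
      nEl_conj_neg K hα (neg_ne_zero.2 ha0)]
  · intro hmem
    obtain ⟨t', ht'⟩ := (Finset.mem_filter.1 hmem).2 1
    rw [hc, mul_one] at ht'
    exact E8.cert.neg_ne hα (X_eq_X K hnα c.ne_zero ht')

theorem exists_conj_monomial {m z : ↥(chevE8.group K)} (hm : m ∈ (H37.Chev.dataE8 K).amb.N)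
    (hm2 : m * m = 1) (hz : z ∈ (H37.Chev.dataE8 K).sys.H) (hmz : m * z = z * m) {k : ℕ}
    (hk : z ^ (2 * k + 1) = 1) :
    ∃ g, g * z = z * g ∧ g * m * g⁻¹ ∈ (H37.Chev.dataE8 K).sys.H := by
  classical
  suffices ∀ j (m : ↥(chevE8.group K)), 240 - (fixRoots K m).card = j →
      m ∈ (H37.Chev.dataE8 K).amb.N → m * m = 1 → m * z = z * m →
      ∃ g, g * z = z * g ∧ g * m * g⁻¹ ∈ (H37.Chev.dataE8 K).sys.H from this _ m rfl hm hm2 hmz
  intro j
  induction j using Nat.strong_induction_on with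
  | _ j ih =>
    intro m hj hm hm2 hmz
    by_cases hmH : m ∈ (H37.Chev.dataE8 K).sys.H
    · exact ⟨1, by simp, by simpa using hmH⟩
    obtain ⟨y, hy, hN, hlt⟩ := conj_step K hm hm2 hz hmz hk hmH
    have hle : (fixRoots K (y⁻¹ * m * y)).card ≤ 240 :=
      (Finset.card_le_card (Finset.filter_subset _ _)).trans (Finset.card_range 240).le
    obtain ⟨g, hg, hgH⟩ := ih _ (by omega) (y⁻¹ * m * y) rfl hN
      (by rw [show y⁻¹ * m * y * (y⁻¹ * m * y) = y⁻¹ * (m * m) * y by group, hm2, mul_one,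
        inv_mul_cancel])
      ((Commute.mul_left (Commute.mul_left (Commute.inv_left hy) hmz) hy).eq)
    refine ⟨g * y⁻¹, ((show Commute g z from hg).mul_left (Commute.inv_left hy)).eq, ?_⟩
    rwa [show g * y⁻¹ * m * (g * y⁻¹)⁻¹ = g * (y⁻¹ * m * y) * g⁻¹ by group]

omit [IsAlgClosed K] in
/-- Unipotent elements have order a power of three. -/
theorem pow_eq_one_of_mem_U {u : ↥(chevE8.group K)} (hu : u ∈ (H37.Chev.dataE8 K).sys.U) :
    u ^ 3 ^ 6 = 1 := by
  haveI : Fact (Nat.Prime 3) := ⟨Nat.prime_three⟩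
  have hraise : Raises (rk chevE8) 1 (((u : GL chevE8.Idx K) : Matrix chevE8.Idx chevE8.Idx K) - 1) :=
    coe_mem_posUni E8.cert (H37.Chev.dataE8 K).ord hu
  have h0 := hraise.pow_eq_zero (N := chevE8.nroots + 1) rk_lt (k := 3 ^ 6)
    (show (240 : ℕ) + 1 ≤ 3 ^ 6 by norm_num)
  haveI : Nonempty chevE8.Idx := ⟨.inl ⟨0, show (0 : ℕ) < 8 by norm_num⟩⟩
  rw [sub_pow_char_pow_of_commute (p := 3) (h := Commute.one_right _), one_pow, sub_eq_zero] at h0
  refine Subtype.ext (Units.ext ?_)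
  rw [SubmonoidClass.coe_pow, Units.val_pow_eq_pow_val, OneMemClass.coe_one, Units.val_one]
  exact h0

/-- An involution commuting with an element of odd order of the diagonal subgroup. -/
theorem exists_conj_pair {t z : ↥(chevE8.group K)} (ht : t * t = 1)
    (hz : z ∈ (H37.Chev.dataE8 K).sys.H) (htz : t * z = z * t) {k : ℕ}
    (hk : z ^ (2 * k + 1) = 1) :
    ∃ g, g * z = z * g ∧ g * t * g⁻¹ ∈ (H37.Chev.dataE8 K).sys.H := by
  classical
  set Q := H37.Chev.dataE8 K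
  obtain ⟨u, hu, h, hh, w, v, hv, e⟩ := Q.amb.exists_eq t
  change u ∈ Q.sys.U at hu
  change h ∈ Q.sys.H at hh
  change v ∈ Q.sys.Uw w at hv
  change t = u * h * Q.sys.rep w * v at e
  have hconj : ∀ w, ∀ x ∈ Q.sys.Uw w, z * x * z⁻¹ ∈ Q.sys.Uw w := fun w x hx =>
    conj_mem_XS (fun r hr c => by
      obtain ⟨c', ec⟩ := Q.sys.h_conj _ hz r (Sys.mem_flip.1 hr).1 c
      rw [ec]; exact x_mem_XS (S := (↑(Sys.flip Q.X.good w) : Set ℕ)) hr c') hx
  have heq : (z * u * z⁻¹) * (z * h * (Q.sys.rep w * z * (Q.sys.rep w)⁻¹)⁻¹) * Q.sys.rep w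
      * (z * v * z⁻¹) = u * h * Q.sys.rep w * v := by
    rw [← e]
    calc _ = z * (u * h * Q.sys.rep w * v) * z⁻¹ := by group
      _ = _ := by rw [← e, ← htz, mul_inv_cancel_right]
  obtain ⟨-, e1, e2, e3⟩ := Q.amb.unique (w := w) (w' := w) (Q.sys.H_conj_U hz hu) hu
    (mul_mem (mul_mem hz hh) (inv_mem (Q.sys.rep_conj_H w hz))) hh (hconj w v hv) hv heq
  have hcu : Commute u z := (mul_inv_eq_iff_eq_mul.1 e1).symm
  have hcv : Commute v z := (mul_inv_eq_iff_eq_mul.1 e3).symm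
  set m := h * Q.sys.rep w with hm
  set u' := v * u with hu'
  have hcu' : Commute u' z := hcv.mul_left hcu
  have hu'U : u' ∈ Q.sys.U := mul_mem (Q.sys.Uw_le w hv) hu
  have ht' : v * t * v⁻¹ = u' * m := by rw [e, hm, hu']; group
  have hcm : Commute m z := by
    have : m = u'⁻¹ * (v * t * v⁻¹) := by rw [ht', inv_mul_cancel_left]
    rw [this]
    exact hcu'.inv_left.mul_left ((hcv.mul_left htz).mul_left hcv.inv_left)
  have hsq : u' * m * (u' * m) = 1 := by
    rw [← ht', show v * t * v⁻¹ * (v * t * v⁻¹) = v * (t * t) * v⁻¹ by group, ht, mul_one,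
      mul_inv_cancel]
  have hmu : u' * m * u' = m⁻¹ := eq_inv_of_mul_eq_one_left (by rw [← hsq]; group)
  obtain ⟨a, ha, b, hb, hab⟩ := Q.sys.U_split w hu'U
  have hkeep : m * a * m⁻¹ ∈ Q.sys.U := by
    rw [hm, show h * Q.sys.rep w * a * (h * Q.sys.rep w)⁻¹
      = h * (Q.sys.rep w * a * (Q.sys.rep w)⁻¹) * h⁻¹ by group]
    exact Q.sys.H_conj_U hh (Q.sys.keep_conj w ha)
  obtain ⟨k1, hk1, ek1⟩ : ∃ k1 ∈ Q.sys.H, (Q.sys.rep w)⁻¹ = k1 * Q.sys.rep w⁻¹ := Q.amb.n_inv w
  have hk2 : k1 * (Q.sys.rep w⁻¹ * h⁻¹ * (Q.sys.rep w⁻¹)⁻¹) ∈ Q.sys.H :=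
    mul_mem hk1 (Q.sys.rep_conj_H _ (inv_mem hh))
  have heq2 : (u' * (m * a * m⁻¹)) * h * Q.sys.rep w * b
      = 1 * (k1 * (Q.sys.rep w⁻¹ * h⁻¹ * (Q.sys.rep w⁻¹)⁻¹)) * Q.sys.rep w⁻¹ * 1 := by
    calc _ = u' * m * (a * b) := by rw [hm]; group
      _ = m⁻¹ := by rw [← hab, hmu]
      _ = (Q.sys.rep w)⁻¹ * h⁻¹ := by rw [hm, mul_inv_rev]
      _ = _ := by rw [ek1]; group
  obtain ⟨ew, eu, eh, eb⟩ := Q.amb.unique (w := w) (w' := w⁻¹) (mul_mem hu'U hkeep) (one_mem _) hh hk2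
    hb (one_mem _) heq2
  have hu'a : u' = a := by rw [hab, eb, mul_one]
  have hmm : m * m = 1 := by
    have : m⁻¹ = m := by
      calc m⁻¹ = (Q.sys.rep w)⁻¹ * h⁻¹ := by rw [hm, mul_inv_rev]
        _ = k1 * (Q.sys.rep w⁻¹ * h⁻¹ * (Q.sys.rep w⁻¹)⁻¹) * Q.sys.rep w⁻¹ := by rw [ek1]; group
        _ = m := by rw [← eh, ← ew, hm]
    nth_rewrite 1 [← this]
    rw [inv_mul_cancel]
  have hinvu : m * u' * m⁻¹ = u'⁻¹ := by
    rw [← hu'a] at eu
    exact eq_inv_of_mul_eq_one_right eu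
  set y := u' ^ ((3 ^ 6 + 1) / 2) with hy
  have hy2 : y * y = u' := by
    rw [hy, ← pow_add, show (3 ^ 6 + 1) / 2 + (3 ^ 6 + 1) / 2 = 3 ^ 6 + 1 by norm_num, pow_succ,
      pow_eq_one_of_mem_U K hu'U, one_mul]
  have hmy : m * y * m⁻¹ = y⁻¹ := by rw [hy, ← conj_pow, hinvu, inv_pow]
  have hmain : y⁻¹ * (v * t * v⁻¹) * y = m := by
    rw [ht']
    nth_rewrite 1 [← hy2]
    calc y⁻¹ * (y * y * m) * y = y * (m * y * m⁻¹) * m := by group
      _ = m := by rw [hmy, mul_inv_cancel, one_mul]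
  obtain ⟨g, hg, hgH⟩ := exists_conj_monomial K (show m ∈ Q.amb.N from ⟨h, hh, w, rfl⟩) hmm hz hcm.eq hk
  have hcy : Commute y z := hcu'.pow_left _
  refine ⟨g * y⁻¹ * v, (((show Commute g z from hg).mul_left hcy.inv_left).mul_left hcv).eq, ?_⟩
  rw [show g * y⁻¹ * v * t * (g * y⁻¹ * v)⁻¹ = g * (y⁻¹ * (v * t * v⁻¹) * y) * g⁻¹ by group, hmain]
  exact hgH

end Cfsg.Agent.Chevalley.NoSub
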