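import Mathlib.GroupTheory.SchurZassenhaus
import Mathlib.LinearAlgebra.Matrix.GeneralLinearGroup.Defs
import Mathlib.LinearAlgebra.Matrix.Rank
import Mathlib.LinearAlgebra.Projection
import Mathlib.LinearAlgebra.Trace
import Mathlib.Algebra.Field.ZMod
import Mathlib.Data.Int.ModEq
import Mathlib.GroupTheory.PGroup
import Mathlib.NumberTheory.Basic

/-!
Representations of groups of order prime to `p` over the field of `p` elements lift to the integers
modulo a power of `p`; the dimensions of fixed spaces therefore satisfy the identities of characters.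
-/

set_option autoImplicit false
set_option linter.style.haveILetI false
set_option linter.unusedSectionVars false

namespace Cfsg.Agent.Chevalley.NoSub

open Matrix

variable {n : Type*} [Fintype n] [DecidableEq n]

/-- The average of the first `l` powers. -/
noncomputable def avgPow {K : Type*} [Field K] (l : ℕ) (A : Matrix n n K) : Matrix n n K :=
  (l : K)⁻¹ • ∑ i ∈ Finset.range l, A ^ i

/-- A matrix conjugate to a diagonal one. -/
theorem idem_diag {K : Type*} [Field K] {E : Matrix n n K} (hE : E * E = E) :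
    ∃ (P : (Matrix n n K)ˣ) (s : Finset n),
      E = (P : Matrix n n K) * Matrix.diagonal (fun i => if i ∈ s then 1 else 0) * (↑P⁻¹ : Matrix n n K) := by
  classical
  set f : Module.End K (n → K) := Matrix.toLin' E with hf
  have hff : IsIdempotentElem f := by
    show f * f = f
    rw [hf, Module.End.mul_eq_comp, ← Matrix.toLin'_mul, hE]
  have hpr : LinearMap.IsProj (LinearMap.range f) f := LinearMap.IsIdempotentElem.isProj_range _ hff
  have hc := hpr.isCompl
  let bR := Module.finBasis K (LinearMap.range f)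
  let bK := Module.finBasis K (LinearMap.ker f)
  let b' := (bR.prod bK).map (Submodule.prodEquivOfIsCompl _ _ hc)
  let e := b'.indexEquiv (Pi.basisFun K n)
  let b : Module.Basis n K (n → K) := b'.reindex e
  let s : Finset n := Finset.univ.filter fun i => (e.symm i).isLeft
  have hb : ∀ j, f (b j) = if j ∈ s then b j else 0 := by
    intro j
    rcases hj : e.symm j with i | i <;>
      simp only [s, Finset.mem_filter, Finset.mem_univ, true_and, hj, Sum.isLeft_inl, Sum.isLeft_inr,
        Bool.false_eq_true, if_false, if_true, b, Module.Basis.reindex_apply, b', Module.Basis.map_apply,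
        Submodule.coe_prodEquivOfIsCompl']
    · rw [Module.Basis.prod_apply_inl_fst, Module.Basis.prod_apply_inl_snd, Submodule.coe_zero, add_zero]
      exact hpr.map_id _ (bR i).2
    · rw [Module.Basis.prod_apply_inr_fst, Module.Basis.prod_apply_inr_snd, Submodule.coe_zero, zero_add]
      exact (bK i).2
  have hD : LinearMap.toMatrix b b f = Matrix.diagonal (fun i => if i ∈ s then 1 else 0) := by
    ext i j
    rw [LinearMap.toMatrix_apply, hb]
    by_cases hij : i = j
    · subst hij
      by_cases his : i ∈ s <;> simp [his]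
    · by_cases hjs : j ∈ s <;> simp [hjs, hij, Finsupp.single_eq_of_ne]
  refine ⟨⟨(Pi.basisFun K n).toMatrix b, b.toMatrix (Pi.basisFun K n),
    Module.Basis.toMatrix_mul_toMatrix_flip _ _, Module.Basis.toMatrix_mul_toMatrix_flip _ _⟩, s, ?_⟩
  show E = (Pi.basisFun K n).toMatrix b * _ * b.toMatrix (Pi.basisFun K n)
  rw [← hD, basis_toMatrix_mul_linearMap_toMatrix_mul_basis_toMatrix]
  exact (LinearMap.toMatrix'_toLin' E).symm

/-- The trace of an idempotent is the rank of its reduction, after any extension of the field. -/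
theorem trace_idem {R K L : Type*} [CommRing R] [IsLocalRing R] [Field K] [Field L] (π : R →+* K)
    (hπ : Function.Surjective π) [IsLocalHom π] (f : K →+* L) {E : Matrix n n R} (hE : E * E = E) :
    E.trace = ((E.map π).map f).rank := by
  classical
  have hEπ : E.map π * E.map π = E.map π := by rw [← Matrix.map_mul, hE]
  obtain ⟨P, s, hP⟩ := idem_diag hEπ
  choose g hg using hπ
  let Q : Matrix n n R := (P : Matrix n n K).map g
  have hQ : Q.map π = P := by ext i j; exact hg _
  have hlift : ∀ M : Matrix n n R, IsUnit (M.map π) → IsUnit M := fun M hM => by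
    rw [Matrix.isUnit_iff_isUnit_det] at hM ⊢
    rw [← RingHom.mapMatrix_apply, ← RingHom.map_det] at hM
    exact isUnit_of_map_unit π _ hM
  have hQu : IsUnit Q := hlift Q (hQ ▸ P.isUnit)
  obtain ⟨Qu, hQu'⟩ := hQu
  have hQinv : (↑Qu⁻¹ : Matrix n n R).map π = (↑P⁻¹ : Matrix n n K) := by
    refine (Units.mul_right_inj P).1 ?_
    rw [Units.mul_inv, ← hQ, ← hQu', ← Matrix.map_mul, Units.mul_inv, Matrix.map_one π π.map_zero π.map_one]
  let D : Matrix n n R := Matrix.diagonal fun i => if i ∈ s then 1 else 0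
  have hDπ : D.map π = Matrix.diagonal fun i => if i ∈ s then (1 : K) else 0 := by
    rw [Matrix.diagonal_map π.map_zero]
    exact congrArg Matrix.diagonal (funext fun i => by by_cases h : i ∈ s <;> simp [h])
  have hDD : D * D = D := by
    rw [Matrix.diagonal_mul_diagonal]
    exact congrArg Matrix.diagonal (funext fun i => by by_cases h : i ∈ s <;> simp [h])
  obtain ⟨E', hE'⟩ : ∃ E' : Matrix n n R, E' = (Qu : Matrix n n R) * D * (↑Qu⁻¹ : Matrix n n R) := ⟨_, rfl⟩
  have hE'π : E'.map π = E.map π := by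
    rw [hE', Matrix.map_mul, Matrix.map_mul, hQinv, hQu', hQ, hDπ, ← hP]
  have hE'E' : E' * E' = E' := by
    rw [hE']
    simp only [mul_assoc]
    rw [← mul_assoc (↑Qu⁻¹ : Matrix n n R), Units.inv_mul, one_mul, ← mul_assoc D D, hDD]
  set U := E * E' + (1 - E) * (1 - E') with hU
  have hUπ : U.map π = 1 := by
    have e : π.mapMatrix U = 1 := by
      have h1 : π.mapMatrix E' = π.mapMatrix E := hE'π
      rw [hU, map_add, map_mul π.mapMatrix E, map_mul π.mapMatrix (1 - E), map_sub, map_sub, map_one, h1, ← map_mul, hE]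
      have h2 : π.mapMatrix E * π.mapMatrix E = π.mapMatrix E := hEπ
      rw [mul_sub, sub_mul, sub_mul, one_mul, one_mul, mul_one, h2]
      abel
    exact e
  obtain ⟨Uu, hUu⟩ := hlift U (hUπ ▸ isUnit_one)
  have h1 : E * U = E * E' := by
    rw [hU, mul_add, ← mul_assoc E E E', hE, ← mul_assoc E (1 - E), mul_sub E 1 E, mul_one, hE, sub_self,
      zero_mul, add_zero]
  have h2 : U * E' = E * E' := by
    rw [hU, add_mul, mul_assoc E E' E', hE'E', mul_assoc (1 - E) (1 - E') E', sub_mul 1 E' E', one_mul,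
      hE'E', sub_self, mul_zero, add_zero]
  have hconj : E = (Uu : Matrix n n R) * E' * (↑Uu⁻¹ : Matrix n n R) := by
    rw [hUu, h2, ← h1, ← hUu, mul_assoc, Units.mul_inv, mul_one]
  rw [hconj, Matrix.trace_units_conj, hE', Matrix.trace_units_conj, ← hE', ← hconj,
    show (E.map π).map f = ((P : Matrix n n K).map f) *
      (Matrix.diagonal fun i => if i ∈ s then (1 : L) else 0) * ((↑P⁻¹ : Matrix n n K).map f) by
      rw [hP, Matrix.map_mul, Matrix.map_mul, Matrix.diagonal_map f.map_zero]
      congr 2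
      exact congrArg Matrix.diagonal (funext fun i => by by_cases h : i ∈ s <;> simp [h])]
  have hu : IsUnit ((P : Matrix n n K).map f) := P.isUnit.map f.mapMatrix
  have hu' : IsUnit ((↑P⁻¹ : Matrix n n K).map f) := P⁻¹.isUnit.map f.mapMatrix
  rw [Matrix.rank_mul_eq_left_of_isUnit_det _ _ ((Matrix.isUnit_iff_isUnit_det _).1 hu'),
    Matrix.rank_mul_eq_right_of_isUnit_det _ _ ((Matrix.isUnit_iff_isUnit_det _).1 hu),
    Matrix.rank_diagonal, Matrix.trace_diagonal, Fintype.card_subtype]
  simp [Finset.sum_ite_mem]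

variable {p : ℕ} [hp : Fact p.Prime] {Γ : Type*} [Group Γ] [Finite Γ]

/-- Reduction modulo `p`. -/
noncomputable abbrev red (p m : ℕ) : ZMod (p ^ (m + 1)) →+* ZMod p :=
  ZMod.castHom (dvd_pow_self p (Nat.succ_ne_zero m)) (ZMod p)

theorem red_surjective (m : ℕ) : Function.Surjective (red p m) := ZMod.ringHom_surjective _

theorem red_isUnit {m : ℕ} {a : ZMod (p ^ (m + 1))} (h : red p m a ≠ 0) : IsUnit a := by
  haveI : NeZero (p ^ (m + 1)) := ⟨pow_ne_zero _ hp.out.ne_zero⟩
  rw [← ZMod.natCast_zmod_val a] at h ⊢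
  rw [map_natCast, Ne, ZMod.natCast_eq_zero_iff] at h
  exact (ZMod.isUnit_iff_coprime _ _).2 ((hp.out.coprime_iff_not_dvd.2 h).symm.pow_right _)

instance red_isLocalHom (m : ℕ) : IsLocalHom (red p m) :=
  ⟨fun _ h => red_isUnit h.ne_zero⟩

/-- A representation of a group of order prime to `p` lifts. -/
theorem exists_lift (m : ℕ) (hΓ : ¬ p ∣ Nat.card Γ) (ρ : Γ →* Matrix n n (ZMod p)) :
    ∃ σ : Γ →* Matrix n n (ZMod (p ^ (m + 1))), ∀ x, (σ x).map (red p m) = ρ x := by
  classical
  set q : GL n (ZMod (p ^ (m + 1))) →* GL n (ZMod p) := Matrix.GeneralLinearGroup.map (red p m) with hq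
  haveI : NeZero (p ^ (m + 1)) := ⟨pow_ne_zero _ hp.out.ne_zero⟩
  haveI : Fintype (ZMod (p ^ (m + 1))) := ZMod.fintype _
  haveI : Finite (GL n (ZMod (p ^ (m + 1)))) := inferInstance
  let P : Subgroup (GL n (ZMod (p ^ (m + 1))) × Γ) :=
    (q.comp (MonoidHom.fst _ _)).eqLocus (ρ.toHomUnits.comp (MonoidHom.snd _ _))
  let π : ↥P →* Γ := (MonoidHom.snd _ _).comp P.subtype
  have hπ : Function.Surjective π := by
    intro x
    have hu : ∃ g, q g = ρ.toHomUnits x := by
      choose s hs using red_surjective (p := p) m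
      let A : Matrix n n (ZMod (p ^ (m + 1))) := (ρ x).map s
      have hA : A.map (red p m) = ρ x := by ext i j; exact hs _
      have hAu : IsUnit A := by
        rw [Matrix.isUnit_iff_isUnit_det]
        refine red_isUnit ?_
        rw [RingHom.map_det, RingHom.mapMatrix_apply, hA]
        exact ((Matrix.isUnit_iff_isUnit_det _).1 ⟨ρ.toHomUnits x, rfl⟩).ne_zero
      exact ⟨hAu.unit, Units.ext hA⟩
    obtain ⟨g, hg⟩ := hu
    exact ⟨⟨(g, x), hg⟩, rfl⟩
  have hker : IsPGroup p π.ker := by
    rintro ⟨⟨⟨g, x⟩, hgx⟩, hx⟩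
    change x = 1 at hx
    subst hx
    change q g = ρ.toHomUnits 1 at hgx
    rw [map_one] at hgx
    have hg1 : (g : Matrix n n (ZMod (p ^ (m + 1)))).map (red p m) = 1 := congrArg Units.val hgx
    have hC : ∀ i j, ∃ c, ((g : Matrix n n (ZMod (p ^ (m + 1)))) - 1) i j = (p : ZMod (p ^ (m + 1))) * c := by
      intro i j
      have h0 : red p m (((g : Matrix n n (ZMod (p ^ (m + 1)))) - 1) i j) = 0 := by
        rw [Matrix.sub_apply, map_sub, sub_eq_zero]
        have h1 := congrFun (congrFun hg1 i) j
        rw [Matrix.map_apply] at h1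
        rw [h1]
        by_cases hij : i = j
        · subst hij; rw [Matrix.one_apply_eq, Matrix.one_apply_eq, map_one]
        · rw [Matrix.one_apply_ne hij, Matrix.one_apply_ne hij, map_zero]
      generalize ((g : Matrix n n (ZMod (p ^ (m + 1)))) - 1) i j = a at h0
      rw [← ZMod.natCast_zmod_val a, map_natCast, ZMod.natCast_eq_zero_iff] at h0
      obtain ⟨c, hc⟩ := h0
      exact ⟨c, by rw [← Nat.cast_mul, ← hc, ZMod.natCast_zmod_val]⟩
    choose c hc using hC
    have hA : (g : Matrix n n (ZMod (p ^ (m + 1)))) = 1 + (p : ZMod (p ^ (m + 1))) • Matrix.of c := by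
      ext i j
      rw [Matrix.add_apply, Matrix.smul_apply, Matrix.of_apply, smul_eq_mul, ← hc i j, Matrix.sub_apply,
        add_sub_cancel]
    have h0 : (1 + Polynomial.C (p : ZMod (p ^ (m + 1))) * Polynomial.X) ^ p ^ m = 1 := by
      have h2 := dvd_sub_pow_of_dvd_sub (R := Polynomial (ZMod (p ^ (m + 1))))
        (a := 1 + Polynomial.C (p : ZMod (p ^ (m + 1))) * Polynomial.X) (b := 1)
        (p := p) ⟨Polynomial.X, by rw [add_sub_cancel_left]; simp⟩ m
      rw [← Nat.cast_pow, CharP.cast_eq_zero (Polynomial (ZMod (p ^ (m + 1)))) (p ^ (m + 1)), zero_dvd_iff,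
        one_pow, sub_eq_zero] at h2
      exact h2
    refine ⟨m, Subtype.ext (Subtype.ext (Prod.ext (Units.ext ?_) ?_))⟩
    · have h3 := congrArg (Polynomial.aeval (Matrix.of c)) h0
      simp only [map_pow, map_add, map_one, map_mul, Polynomial.aeval_C, Polynomial.aeval_X,
        ← Algebra.smul_def, ← hA] at h3
      simpa using h3
    · simp
  haveI : π.ker.Normal := π.normal_ker
  obtain ⟨N, hN⟩ := IsPGroup.iff_card.1 hker
  have hidx : π.ker.index = Nat.card Γ := by
    rw [Subgroup.index_ker, MonoidHom.range_eq_top.2 hπ, Subgroup.card_top]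
  obtain ⟨C, hC⟩ := Subgroup.exists_left_complement'_of_coprime (N := π.ker) (by
    rw [hidx, hN]
    exact (hp.out.coprime_iff_not_dvd.2 hΓ).pow_left _)
  let τ : ↥C →* Γ := π.comp C.subtype
  have hτ : Function.Bijective τ := by
    refine (Nat.bijective_iff_injective_and_card τ).2 ⟨?_, ?_⟩
    · refine (injective_iff_map_eq_one _).2 fun a ha => Subtype.ext ?_
      exact (Subgroup.disjoint_def.1 hC.disjoint) a.2 (show (a : ↥P) ∈ π.ker from ha)
    · rw [← hC.index_eq_card, hidx]
  let τe := MulEquiv.ofBijective τ hτ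
  refine ⟨(Units.coeHom _).comp ((MonoidHom.fst _ _).comp (P.subtype.comp (C.subtype.comp τe.symm.toMonoidHom))),
    fun x => ?_⟩
  have hx : π (τe.symm x : ↥P) = x := τe.apply_symm_apply x
  have hmem := ((τe.symm x : ↥C) : ↥P).2
  change q _ = ρ.toHomUnits _ at hmem
  change (((((τe.symm x : ↥C) : ↥P) : GL n (ZMod (p ^ (m + 1))) × Γ).1 : Matrix n n (ZMod (p ^ (m + 1))))).map (red p m) = ρ x
  exact (congrArg Units.val hmem).trans (congrArg ρ hx)

end Cfsg.Agent.Chevalley.NoSub
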