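import Cfsg.Agent.Chevalley.NoSub.OrbitDefs

/-!
Kernel evaluation of the tables of orbits.
-/

set_option autoImplicit false
set_option maxRecDepth 100000
set_option maxHeartbeats 4000000

namespace Cfsg.Agent.Chevalley.NoSub

open Walk Tables Checks

theorem orbs5_perm : orbs5.flatten.isPerm ((allVecs 5).filter fun sl => sl.count 1 % 2 == 0) = true := by
  decide +kernel

theorem orbs6_perm : orbs6.flatten.isPerm ((allVecs 6).filter fun sl => sl.count 1 % 2 == 0) = true := by
  decide +kernel

theorem orbs5_chain : orbs5.all (chainOK 5) = true := by decide +kernel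

theorem orbs6_chain : orbs6.all (chainOK 6) = true := by decide +kernel

theorem orbs5_entries : (smallOrbs orbs5).map entry5 = orbits5 := by decide +kernel

theorem orbs6_entries : (smallOrbs orbs6).map entry = orbits := by decide +kernel

theorem orbs6_cube : ((smallOrbs orbs6).all fun o =>
    orbVal 13 (wfold 13 3) o == orbVal 13 (wfold 13 1) o) = true := by decide +kernel

theorem comb5_eq : comb leaf5 orbits5 248 0 0 = true := by decide +kernel

end Cfsg.Agent.Chevalley.NoSub
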