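import Cfsg.Agent.Chevalley.NoSub.Elements
import Cfsg.Agent.Chevalley.NoSub.OrbitCheck
import Cfsg.Agent.Chevalley.NoSub.Caps
import Mathlib.FieldTheory.Finite.Basic
import Mathlib.RingTheory.IntegralDomain

/-!
There is no faithful homomorphism of PSL(2, 243) or PSL(2, 729) into the group of type E8 over the
field with three elements.
-/

set_option autoImplicit false
set_option linter.style.haveILetI false
set_option linter.unusedSectionVars false
set_option maxRecDepth 100000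
set_option maxHeartbeats 1000000

namespace Cfsg.Agent.Chevalley.NoSub

open Cfsg.Lie Walk Tables Checks
open scoped MatrixGroups

theorem exists_embedding {F : Type*} [Field F] [Fintype F] {n : ℕ} (hn : n ≠ 0)
    (hF : Fintype.card F = 3 ^ n) : Nonempty (F →+* Kbar) := by
  haveI : Fact (Nat.Prime 3) := ⟨Nat.prime_three⟩
  haveI : CharP F 3 := charP_of_card_eq_prime_pow hF
  letI : Algebra (ZMod 3) F := ZMod.algebra F 3
  haveI : FiniteDimensional (ZMod 3) F := Module.Finite.of_finite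
  exact ⟨(IsAlgClosed.lift (R := ZMod 3) (S := F) (M := Kbar)).toRingHom⟩

theorem exists_mult_E8 {F : Type*} [Field F] [Fintype F] [DecidableEq F] {n : ℕ} (ι : F →+* Kbar)
    (hF : Fintype.card F = 3 ^ n) (ψ : SL(2, F) →* ↥(chevE8.group (ZMod 3)))
    (hker : ∀ g, ψ g = 1 ↔ g ∈ Subgroup.center SL(2, F)) :
    ∃ c : (Fin n → Fin 3) → ℕ, (∀ s, c (shift s) = c s) ∧ (∀ s, Odd (ones s) → c s = 0) ∧
      ∀ e, e * e = e → (extRep (algebraMap (ZMod 3) Kbar) (mrep ψ) e).rank =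
        ∑ s, c s * (lrep ι s e).rank :=
  exists_mult ι hF (algebraMap (ZMod 3) Kbar) (mrep ψ) fun z hz => by
    show ((ψ z : GL chevE8.Idx (ZMod 3)) : Matrix chevE8.Idx chevE8.Idx (ZMod 3)) = 1
    rw [(hker z).2 (neg_one_central hz), OneMemClass.coe_one, Units.val_one]

theorem length_eq_sum_one (l : ℕ) (sl : List ℕ) : packS l (fun _ => 1) sl = (valsJ sl).length := by
  simp [packS]

theorem wsum_one (l : ℕ) (v : Fin 8 → ℤ) : wsum l (fun _ => 1) v = 248 := by
  unfold wsum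
  rw [Finset.sum_const, smul_eq_mul, Nat.mul_one, Finset.card_univ]
  exact (Fintype.card_sum).trans (by rw [Fintype.card_fin, Fintype.card_fin]; rfl)

theorem orbVal_one (o : List (List ℕ)) (f : ℕ) : f * (o.map fun sl => (valsJ sl).length).sum = f * (orbDim o) :=
  rfl

theorem small_pos5 : ((smallOrbs orbs5).all fun o => Nat.blt 0 (orbDim o)) = true := by decide +kernel

theorem small_pos6 : ((smallOrbs orbs6).all fun o => Nat.blt 0 (orbDim o)) = true := by decide +kernel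

theorem orbs5_last : orbs5 = orbs5.dropLast ++ [[[0, 0, 0, 0, 0]]] := by decide +kernel

theorem orbs6_last : orbs6 = orbs6.dropLast ++ [[[0, 0, 0, 0, 0, 0]]] := by decide +kernel

theorem packS_zero5 (l : ℕ) (W : ℕ → ℕ) : packS l W [0, 0, 0, 0, 0] = W 0 := by
  simp [packS, valsJ, List.range_succ]

theorem packS_zero6 (l : ℕ) (W : ℕ → ℕ) : packS l W [0, 0, 0, 0, 0, 0] = W 0 := by
  simp [packS, valsJ, List.range_succ]

theorem no_hom5 {F : Type*} [Field F] [Fintype F] [DecidableEq F] (hF : Fintype.card F = 3 ^ 5)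
    (ψ : SL(2, F) →* ↥(chevE8.group (ZMod 3)))
    (hker : ∀ g, ψ g = 1 ↔ g ∈ Subgroup.center SL(2, F)) : False := by
  obtain ⟨ι⟩ := exists_embedding (by norm_num) hF
  obtain ⟨c, hc, hodd, hrank⟩ := exists_mult_E8 ι hF ψ hker
  obtain ⟨v, hne, hv⟩ := rel2 ι ψ hker hodd hrank
  have hdim : ∑ s, c s * (valsJ (ofVec s)).length = 248 := by
    rw [← wsum_one 2 v, hv]
    exact Finset.sum_congr rfl fun s _ => by rw [length_eq_sum_one]
  set t : List ℕ := [0, 0, 0, 0, 0]
  set f : List (List ℕ) → ℕ := fun o => c (toVec 5 o.headI) with hf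
  have hss := small_sum hc hodd orbs5_perm orbs5_chain orbs5_last hdim
  have hd : ((smallOrbs orbs5).map fun o => f o * (entry5 o).1).sum + c (toVec 5 t) = 248 := by
    have := hss fun sl => (valsJ sl).length
    rw [hdim, show (valsJ t).length = 1 from by decide, Nat.mul_one] at this
    exact this.symm
  have hx : ((smallOrbs orbs5).map fun o => f o * (entry5 o).2.1).sum = wsum 2 id v := by
    rw [hv id, hss (packS 2 id), packS_zero5, id, Nat.mul_zero, Nat.add_zero]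
    rfl
  have h0 := comb5_eq
  rw [← orbs5_entries] at h0
  have h := comb_sound entry5 f (smallOrbs orbs5) (fun o ho => by
    have := List.all_eq_true.1 small_pos5 o ho
    simpa [entry5] using this) 248 0 0 h0 (by omega)
  rw [Nat.zero_add, hx] at h
  simp only [leaf5, Bool.not_eq_true'] at h
  rw [← Bool.not_eq_true, List.any_eq_true] at h
  exact h ⟨_, sig2 v hne, Nat.beq_refl _⟩

theorem b26_cls : ∀ d, d < 27 → b26 (7 * d) = 7 * cls 26 d := by decide +kernel

theorem b73_cls : ∀ d, d < 74 → b73 (7 * d) = 7 * cls 73 d := by decide +kernel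

theorem refuted26 {S : ℕ} (hS : S ∈ caps26) (k : ℕ) (v : Fin 8 → ℤ) :
    wsum 26 (wfold 26 k) v ≠ 8 + 2 * S :=
  refuted (setup26 (le_refl 26)) (by norm_num) (g := b26) (fun d hd => b26_cls d (by omega))
    (n := 14) (by norm_num) (caps26_refuted S hS) k v

theorem refuted73 {S : ℕ} (hS : S ∈ caps73) (k : ℕ) (v : Fin 8 → ℤ) :
    wsum 73 (wfold 73 k) v ≠ 8 + 2 * S :=
  refuted setup73 (by norm_num) (g := b73) (fun d hd => b73_cls d (by omega))
    (n := 37) (by norm_num) (caps73_refuted S hS) k v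

theorem mod_div_split {a : ℕ} (k b : ℕ) (h : a < 2 ^ k) :
    (a + 2 ^ k * b) % 2 ^ k = a ∧ (a + 2 ^ k * b) / 2 ^ k = b := by
  rw [Nat.add_mul_mod_self_left, Nat.mod_eq_of_lt h, Nat.add_mul_div_left _ _ (Nat.two_pow_pos k),
    Nat.div_eq_of_lt h, Nat.zero_add]
  exact ⟨rfl, rfl⟩

theorem fields_aux {p q : ℕ} {a b c d e B : ℕ} (ha : a < 2 ^ p) (hb : b < 2 ^ p) (hc : c < 2 ^ q)
    (hd : d < 2 ^ q) (hB : B = a + 2 ^ p * b + 2 ^ (p + p) * c + 2 ^ (p + p + q) * d
      + 2 ^ (p + p + q + q) * e) :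
    B % 2 ^ p = a ∧ B / 2 ^ p % 2 ^ p = b ∧ B / 2 ^ (p + p) % 2 ^ q = c ∧
      B / 2 ^ (p + p + q) % 2 ^ q = d ∧ B / 2 ^ (p + p + q + q) = e := by
  have hB' : B = a + 2 ^ p * (b + 2 ^ p * (c + 2 ^ q * (d + 2 ^ q * e))) := by
    rw [hB]; simp only [pow_add]; ring
  obtain ⟨h1, h1'⟩ := mod_div_split p (b + 2 ^ p * (c + 2 ^ q * (d + 2 ^ q * e))) ha
  obtain ⟨h2, h2'⟩ := mod_div_split p (c + 2 ^ q * (d + 2 ^ q * e)) hb
  obtain ⟨h3, h3'⟩ := mod_div_split q (d + 2 ^ q * e) hc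
  obtain ⟨h4, h4'⟩ := mod_div_split q e hd
  simp only [pow_add, ← Nat.div_div_eq_div_mul, hB', h1, h1', h2, h2', h3, h3', h4, h4', and_self]

theorem fields_eq {a b c d e : ℕ} (ha : a < 2 ^ 120) (hb : b < 2 ^ 120) (hc : c < 2 ^ 280) (hd : d < 2 ^ 280) :
    fieldsB (a + 2 ^ 120 * b + 2 ^ 240 * c + 2 ^ 520 * d + 2 ^ 800 * e) = [a, b, c, d, e] := by
  obtain ⟨h1, h2, h3, h4, h5⟩ := fields_aux (p := 120) (q := 280) (e := e) ha hb hc hd rfl
  simp only [Nat.reduceAdd] at h1 h2 h3 h4 h5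
  simp only [fieldsB, h1, h2, h3, h4, h5]

theorem no_hom6 {F : Type*} [Field F] [Fintype F] [DecidableEq F] (hF : Fintype.card F = 3 ^ 6)
    (ψ : SL(2, F) →* ↥(chevE8.group (ZMod 3)))
    (hker : ∀ g, ψ g = 1 ↔ g ∈ Subgroup.center SL(2, F)) : False := by
  obtain ⟨ι⟩ := exists_embedding (by norm_num) hF
  obtain ⟨c, hc, hodd, hrank⟩ := exists_mult_E8 ι hF ψ hker
  obtain ⟨v2, hne2, hv2⟩ := rel2 ι ψ hker hodd hrank
  have hgen : ∀ N : ℕ, N ∣ 728 → ∃ a : Fˣ, orderOf a = N := by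
    intro N hN
    obtain ⟨a, ha⟩ := IsCyclic.exists_ofOrder_eq_natCard (α := Fˣ)
    have h728 : orderOf a = 728 := by
      rw [ha, Nat.card_units, Nat.card_eq_fintype_card, hF]; rfl
    obtain ⟨q, hq⟩ := hN
    refine ⟨a ^ q, ?_⟩
    have hq0 : q ≠ 0 := by rintro rfl; simp at hq
    rw [orderOf_pow' a hq0, h728, hq, Nat.gcd_eq_right (dvd_mul_left q N),
      Nat.mul_div_cancel _ (Nat.pos_of_ne_zero hq0)]
  obtain ⟨a13, ha13⟩ := hgen 13 (by norm_num)
  obtain ⟨a52, ha52⟩ := hgen 52 (by norm_num)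
  obtain ⟨v13, hne13, hv13⟩ := rel_unit ι ψ hker hodd hrank (l := 13) a13 ha13 (Or.inr ⟨rfl, by decide⟩)
    (by norm_num) (by norm_num) (by norm_num)
  obtain ⟨v26, -, hv26⟩ := rel_unit ι ψ hker hodd hrank (l := 26) a52 ha52 (Or.inl rfl)
    (by norm_num) (by norm_num) (by norm_num)
  obtain ⟨v73, -, hv73⟩ := rel73 ι ψ hker hodd hrank (hF.trans (by norm_num))
  have hdim : ∑ s, c s * (valsJ (ofVec s)).length = 248 := by
    rw [← wsum_one 2 v2, hv2]
    exact Finset.sum_congr rfl fun s _ => by rw [length_eq_sum_one]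
  set t : List ℕ := [0, 0, 0, 0, 0, 0]
  set f : List (List ℕ) → ℕ := fun o => c (toVec 6 o.headI) with hf
  set r := c (toVec 6 t) with hr
  set Sm : (List (List ℕ) → ℕ) → ℕ := fun g => ((smallOrbs orbs6).map fun o => f o * g o).sum with hSm
  have hss := small_sum hc hodd orbs6_perm orbs6_chain orbs6_last hdim
  have hd : Sm orbDim + r = 248 := by
    have := hss fun sl => (valsJ sl).length
    rw [hdim, show (valsJ t).length = 1 from by decide, Nat.mul_one] at this
    exact this.symm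
  have hX : ∀ (l : ℕ) (W : ℕ → ℕ) (v : Fin 8 → ℤ),
      (wsum l W v = ∑ s, c s * packS l W (ofVec s)) → wsum l W v = Sm (orbVal l W) + r * W 0 := by
    intro l W v hv
    rw [hv, hss (packS l W), packS_zero6]
    rfl
  have w0 : ∀ l k, wfold l k 0 = 1 := fun l k => by simp [wfold]
  have x2 : wsum 2 id v2 = Sm (orbVal 2 id) := by
    rw [hX 2 id v2 (hv2 id), id, Nat.mul_zero, Nat.add_zero]
  have x13 : ∀ k, wsum 13 (wfold 13 k) v13 = Sm (orbVal 13 (wfold 13 k)) + r := fun k => by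
    rw [hX 13 _ v13 (hv13 _), w0, Nat.mul_one]
  have x26 : ∀ k, wsum 26 (wfold 26 k) v26 = Sm (orbVal 26 (wfold 26 k)) + r := fun k => by
    rw [hX 26 _ v26 (hv26 _), w0, Nat.mul_one]
  have x73 : ∀ k, wsum 73 (wfold 73 k) v73 = Sm (orbVal 73 (wfold 73 k)) + r := fun k => by
    rw [hX 73 _ v73 (hv73 _), w0, Nat.mul_one]
  have hinv : wsum 13 (wfold 13 3) v13 = wsum 13 (wfold 13 1) v13 := by
    rw [x13, x13]
    refine congrArg (· + r) (congrArg List.sum (List.map_congr_left fun o ho => ?_))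
    rw [eq_of_beq (List.all_eq_true.1 orbs6_cube o ho)]
  obtain ⟨T, hT, hT13⟩ := sig13 v13 hne13 hinv
  have h2 := sig2 v2 hne2
  have h0 := combAll_eq
  rw [combAll, ← orbs6_entries] at h0
  have h := comb_sound entry f (smallOrbs orbs6) (fun o ho => by
    have := List.all_eq_true.1 small_pos6 o ho
    simpa [entry] using this) 248 0 0 h0 (by
      change Sm orbDim ≤ 248
      omega)
  change leafComb (248 - Sm orbDim) (0 + Sm (fun o => orbVal 2 id o + 512 * orbVal 13 (wfold 13 1) o))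
    (0 + Sm entryB) = true at h
  have hA : Sm (fun o => orbVal 2 id o + 512 * orbVal 13 (wfold 13 1) o)
      = Sm (orbVal 2 id) + 512 * Sm (orbVal 13 (wfold 13 1)) := sum_map_lin f _ _ 512 _
  have hlin : ∀ (a b : List (List ℕ) → ℕ) (K : ℕ), Sm (fun o => a o + K * b o) = Sm a + K * Sm b :=
    fun a b K => sum_map_lin f a b K _
  have hB : Sm entryB + r * (1 + 2 ^ 120 + 2 ^ 240 + 2 ^ 520 + 2 ^ 800) =
      wsum 26 (wfold 26 1) v26 + 2 ^ 120 * wsum 26 (wfold 26 5) v26 + 2 ^ 240 * wsum 73 (wfold 73 2) v73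
        + 2 ^ 520 * wsum 73 (wfold 73 5) v73 + 2 ^ 800 * wsum 73 (wfold 73 7) v73 := by
    rw [x26, x26, x73, x73, x73]
    unfold entryB
    generalize 2 ^ 120 = K1 at *
    generalize 2 ^ 240 = K2 at *
    generalize 2 ^ 520 = K3 at *
    generalize 2 ^ 800 = K4 at *
    rw [hlin, hlin, hlin, hlin]
    ring
  rw [Nat.zero_add, Nat.zero_add, hA, show 248 - Sm orbDim = r by omega, leafComb, force_eq] at h
  have hA' : Sm (orbVal 2 id) + 512 * Sm (orbVal 13 (wfold 13 1)) + r * 512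
      = wsum 2 id v2 + 512 * (8 + 2 * T) := by
    rw [x13] at hT13
    rw [x2]
    omega
  rw [hA'] at h
  have h2lt : wsum 2 id v2 < 512 := by
    rcases (by simpa [sigs2] using h2 : wsum 2 id v2 = 112 ∨ wsum 2 id v2 = 128) with e | e <;> omega
  rw [show (wsum 2 id v2 + 512 * (8 + 2 * T)) % 512 = wsum 2 id v2 by omega,
    show (wsum 2 id v2 + 512 * (8 + 2 * T)) / 512 = 8 + 2 * T by omega,
    show ((sigs2.any fun T => Nat.beq (wsum 2 id v2) T) = true) from
      List.any_eq_true.2 ⟨_, h2, Nat.beq_refl _⟩,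
    show ((sigs13.any fun T' => Nat.beq (8 + 2 * T) (8 + 2 * T')) = true) from
      List.any_eq_true.2 ⟨_, hT, Nat.beq_refl _⟩, Bool.and_self, cond_true, force_eq, hB] at h
  have hbig26 : ∀ k, wsum 26 (wfold 26 k) v26 < 2 ^ 120 := fun k =>
    lt_of_le_of_lt (wsum_fold_lt (setup26 (le_refl 26)) (by norm_num) k v26) (by norm_num)
  have hbig73 : ∀ k, wsum 73 (wfold 73 k) v73 < 2 ^ 280 := fun k =>
    lt_of_le_of_lt (wsum_fold_lt setup73 (by norm_num) k v73) (by decide +kernel)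
  rw [fields_eq (hbig26 1) (hbig26 5) (hbig73 2) (hbig73 5), List.any_eq_true] at h
  obtain ⟨⟨X, ks⟩, hmem, hany⟩ := h
  obtain ⟨S, hS, he⟩ := List.any_eq_true.1 hany
  have he' : X = 8 + 2 * S := Nat.eq_of_beq_eq_true he
  obtain ⟨i, hi, hget⟩ := List.mem_iff_getElem.1 hmem
  rw [List.getElem_zip, Prod.mk.injEq] at hget
  obtain ⟨hgX, hgk⟩ := hget
  have hk26 := kills26
  have hk73 := kills73
  simp only [List.all_eq_true, List.contains_iff_mem] at hk26 hk73
  have hi5 : i < 5 := by simp [List.length_zip] at hi; omega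
  subst hgX hgk
  interval_cases i
  · exact refuted26 (hk26 _ (List.mem_cons_self) S hS) 1 v26 he'
  · exact refuted26 (hk26 _ (List.mem_cons_of_mem _ List.mem_cons_self) S hS) 5 v26 he'
  · exact refuted73 (hk73 _ List.mem_cons_self S hS) 2 v73 he'
  · exact refuted73 (hk73 _ (List.mem_cons_of_mem _ List.mem_cons_self) S hS) 5 v73 he'
  · exact refuted73 (hk73 _ (List.mem_cons_of_mem _ (List.mem_cons_of_mem _ List.mem_cons_self)) S hS) 7 v73 he'

/-- The homomorphism from the special linear group given by an isomorphism. -/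
theorem exists_psi {F : Type*} [Field F] [Fintype F] [DecidableEq F]
    {H : Subgroup ↥(chevE8.group (ZMod 3))}
    (e : ↥H ≃* Matrix.ProjectiveSpecialLinearGroup (Fin 2) F) :
    ∃ ψ : SL(2, F) →* ↥(chevE8.group (ZMod 3)), ∀ g, ψ g = 1 ↔ g ∈ Subgroup.center SL(2, F) := by
  refine ⟨H.subtype.comp (e.symm.toMonoidHom.comp (QuotientGroup.mk' _)), fun g => ?_⟩
  show ((e.symm (QuotientGroup.mk' _ g) : ↥H) : ↥(chevE8.group (ZMod 3))) = 1 ↔ _
  rw [OneMemClass.coe_eq_one, EmbeddingLike.map_eq_one_iff]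
  exact QuotientGroup.eq_one_iff g

end Cfsg.Agent.Chevalley.NoSub
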