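import Cfsg.Agent.Chevalley.NoSub.WeylEigen
import Cfsg.Agent.Chevalley.NoSub.Refute

/-!
The group of type E8 over the field with three elements has no subgroup PSL(2, 41).
-/

set_option autoImplicit false
set_option linter.style.haveILetI false
set_option linter.unusedSectionVars false
set_option maxRecDepth 100000
set_option maxHeartbeats 1000000

namespace Cfsg.Agent.Chevalley.NoSub

open Cfsg.Lie
open scoped MatrixGroups

theorem frob_diag {z : ↥(chevE8.group Kbar)} (hz : z ∈ HK) :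
    mapG (frobenius Kbar 3) z = z ^ 3 := by
  obtain ⟨c, hc⟩ := (mem_H_iff Kbar).1 hz
  refine Subtype.ext (Units.ext ?_)
  rw [coe_mapG, SubmonoidClass.coe_pow, Units.val_pow_eq_pow_val, ← hc]
  show (Matrix.diagonal _).map _ = (Matrix.diagonal _) ^ 3
  rw [Matrix.diagonal_map (map_zero _), Matrix.diagonal_pow]
  exact congrArg Matrix.diagonal (funext fun i => frobenius_def _ _)

theorem frob_toK (x : ↥(chevE8.group (ZMod 3))) : mapG (frobenius Kbar 3) (toK x) = toK x := by
  refine Subtype.ext (Units.ext ?_)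
  rw [coe_mapG, coe_mapG, Matrix.map_map]
  exact congrArg _ (funext fun a => RingHom.congr_fun
    (Subsingleton.elim ((frobenius Kbar 3).comp (algebraMap (ZMod 3) Kbar)) (algebraMap (ZMod 3) Kbar)) a)

variable {F : Type*} [Field F] [Fintype F] [DecidableEq F]

theorem no_hom41 (hF : Fintype.card F = 41) (ψ : SL(2, F) →* ↥(chevE8.group (ZMod 3)))
    (hker : ∀ g, ψ g = 1 ↔ g ∈ Subgroup.center SL(2, F)) : False := by
  haveI : Fact (Nat.Prime 41) := ⟨by norm_num⟩
  haveI : CharP F 41 := charP_of_card_eq_prime_pow (f := 1) (by rw [hF, pow_one])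
  let u : SL(2, F) := ⟨!![1, 1; 0, 1], by simp [Matrix.det_fin_two]⟩
  have hupow : ∀ k : ℕ, ((u ^ k : SL(2, F)) : Matrix (Fin 2) (Fin 2) F) = !![1, (k : F); 0, 1] := by
    intro k
    induction k with
    | zero => ext i j; fin_cases i <;> fin_cases j <;> simp
    | succ k ih =>
      rw [pow_succ, Matrix.SpecialLinearGroup.coe_mul, ih]
      ext i j
      fin_cases i <;> fin_cases j <;> simp [u, Matrix.mul_apply, Fin.sum_univ_two]
      ring
  have hu41 : u ^ 41 = 1 := Subtype.ext (by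
    rw [hupow, CharP.cast_eq_zero F 41]
    ext i j; fin_cases i <;> fin_cases j <;> simp)
  have h6 : ((6 : ℕ) : F) ≠ 0 := by rw [Ne, CharP.cast_eq_zero_iff F 41]; norm_num
  let d : SL(2, F) := ⟨!![((6 : ℕ) : F), 0; 0, ((6 : ℕ) : F)⁻¹], by
    rw [Matrix.det_fin_two_of, mul_inv_cancel₀ h6, mul_zero, sub_zero]⟩
  have hd : d * u = u ^ 36 * d := Subtype.ext (by
    rw [Matrix.SpecialLinearGroup.coe_mul, Matrix.SpecialLinearGroup.coe_mul, hupow]
    ext i j
    fin_cases i <;> fin_cases j <;> simp [u, d, Matrix.mul_apply, Fin.sum_univ_two]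
    rw [show (36 : F) = 6 * 6 by norm_num, mul_assoc, mul_inv_cancel₀ (by simpa using h6), mul_one])
  have hψ41 : ψ u ^ 41 = 1 := by rw [← map_pow, hu41, map_one]
  have hψ1 : ψ u ≠ 1 := fun h => by
    have h2 := center_sq ((hker u).1 h)
    have e := congrArg (fun x : SL(2, F) => (x : Matrix (Fin 2) (Fin 2) F) 0 1) h2
    simp only [hupow, Matrix.SpecialLinearGroup.coe_one] at e
    have h20 : ((2 : ℕ) : F) = 0 := by simpa using e
    rw [CharP.cast_eq_zero_iff F 41] at h20
    norm_num at h20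
  obtain ⟨g, hg⟩ := conj_diag_prime (s := 41) (d := 8) (by norm_num) (by norm_num) (by norm_num)
    (by simp only [List.forall_mem_cons]; norm_num) hψ41
  set z := g * toK (ψ u) * g⁻¹ with hz
  have hz41 : z ^ 41 = 1 := by rw [hz, conj_pow, ← map_pow, hψ41, map_one, mul_one, mul_inv_cancel]
  have hz1 : z ≠ 1 := fun h => by
    refine hψ1 ?_
    have h1 : toK (ψ u) = 1 := by
      rw [hz, mul_inv_eq_one, mul_eq_left] at h
      exact h
    refine Subtype.ext (Units.ext (Matrix.map_injective (algebraMap (ZMod 3) Kbar).injective ?_))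
    show ((ψ u : GL chevE8.Idx (ZMod 3)) : Matrix chevE8.Idx chevE8.Idx (ZMod 3)).map (algebraMap (ZMod 3) Kbar) = (1 : Matrix chevE8.Idx chevE8.Idx (ZMod 3)).map (algebraMap (ZMod 3) Kbar)
    rw [← coe_mapG, show mapG (algebraMap (ZMod 3) Kbar) (ψ u) = toK (ψ u) from rfl, h1]
    simp
  set A := g * toK (ψ d) * g⁻¹ with hA
  have hAz : SemiconjBy A z (z ^ 36) := by
    show A * z = z ^ 36 * A
    rw [hA, hz, conj_pow, show g * toK (ψ d) * g⁻¹ * (g * toK (ψ u) * g⁻¹) = g * (toK (ψ d) * toK (ψ u)) * g⁻¹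
      by group, show g * toK (ψ u) ^ 36 * g⁻¹ * (g * toK (ψ d) * g⁻¹)
      = g * (toK (ψ u) ^ 36 * toK (ψ d)) * g⁻¹ by group, ← map_mul, ← map_pow, ← map_mul, ← map_mul,
      ← map_pow, ← map_mul, hd]
  set B := mapG (frobenius Kbar 3) g * g⁻¹ with hB
  have hBz : SemiconjBy B z (z ^ 3) := by
    show B * z = z ^ 3 * B
    rw [← frob_diag (z := z) hg, hB, hz, map_mul, map_mul, frob_toK, map_inv]
    group
  have hApow : ∀ k, SemiconjBy (A ^ k) z (z ^ 36 ^ k) := by
    intro k
    induction k with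
    | zero => simp [SemiconjBy]
    | succ k ih =>
      have h1 := (hAz.pow_right (36 ^ k)).mul_left ih
      rw [← pow_succ', ← pow_mul, ← pow_succ'] at h1
      exact h1
  have hfin := (hBz.pow_right (36 ^ 13)).mul_left (hApow 13)
  rw [← pow_mul, pow_eq_pow_mod (3 * 36 ^ 13) hz41, show 3 * 36 ^ 13 % 41 = 6 from by decide +kernel] at hfin
  exact no_conj_six hg hz41 hz1 hfin.eq

end Cfsg.Agent.Chevalley.NoSub
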