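import Cfsg.Agent.Chevalley.NoSub.ClassSums32
import Cfsg.Agent.Chevalley.NoSub.EtaVec
import Cfsg.Agent.Chevalley.NoSub.EigenCount
import Cfsg.Agent.Chevalley.NoSub.CheckUniform11
import Cfsg.Agent.Chevalley.NoSub.Refute

/-!
The group of type E8 over the field with three elements has no subgroup PSL(2, 32).
-/

set_option autoImplicit false
set_option linter.style.haveILetI false
set_option linter.unusedSectionVars false
set_option maxRecDepth 100000
set_option maxHeartbeats 1000000

namespace Cfsg.Agent.Chevalley.NoSub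

open Cfsg.Lie GF32
open scoped MatrixGroups

theorem b11_cls : ∀ d, d < 12 → Checks.b11 (7 * d) = 7 * cls 11 d := by decide +kernel

theorem uni11_refuted : ∀ a, 1 ≤ a → a < 25 → a ≠ 22 →
    Checks.dfs11 (Checks.cands 6 (Checks.unifS 5 a)) (Checks.unifS 5 a) = true := by
  intro a h1 h2 h3
  interval_cases a
  exacts [Checks.uni11_1, Checks.uni11_2, Checks.uni11_3, Checks.uni11_4, Checks.uni11_5, Checks.uni11_6,
    Checks.uni11_7, Checks.uni11_8, Checks.uni11_9, Checks.uni11_10, Checks.uni11_11, Checks.uni11_12,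
    Checks.uni11_13, Checks.uni11_14, Checks.uni11_15, Checks.uni11_16, Checks.uni11_17, Checks.uni11_18,
    Checks.uni11_19, Checks.uni11_20, Checks.uni11_21, absurd rfl h3, Checks.uni11_23, Checks.uni11_24]

/-- An element of order eleven conjugate to its inverse has trace zero. -/
theorem trace_eleven {x : ↥(chevE8.group (ZMod 3))} (hx : x ^ 11 = 1) (hx1 : x ≠ 1)
    {g : ↥(chevE8.group (ZMod 3))} (hg : g * x * g⁻¹ = x ^ 10) : (mat3 x).trace = 0 := by
  haveI : Fact (Nat.Prime 11) := ⟨by norm_num⟩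
  obtain ⟨ζ, hζ⟩ := exists_prim 11 (by norm_num)
  obtain ⟨v, hv, i, hi⟩ := exists_hasSpectrum hx hx1 (conj_diag_prime (s := 11) (d := 5) (by norm_num)
    (by norm_num) (by norm_num) (by simp only [List.forall_mem_cons]; norm_num) hx) hζ (by norm_num)
  have hk : ∀ k ∈ [3, 10], ∀ a, cnt 11 v (k * a % 11) = cnt 11 v (a % 11) := by
    intro k hk a
    rcases List.mem_cons.1 hk with rfl | hk
    · exact cnt_frob hζ (by norm_num) hv a
    · rw [List.mem_singleton.1 hk]
      exact cnt_conj hζ (by norm_num) hv (by norm_num) hg a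
  have hmem : ∀ a, a < 11 → 0 < a →
      a ∈ (Nat.iterate (fun L : List ℕ => L ++ L.flatMap fun b => [3, 10].map fun k => k * b % 11) 6 [1]) := by
    decide +kernel
  have hu : ∀ a, 0 < a → a < 11 → cnt 11 v a = cnt 11 v 1 := fun a h0 h1 =>
    (uniform_of_orbit hk (by norm_num) 6 a (hmem a h1 h0)).2
  obtain ⟨htot, hW⟩ := uniform_counts (by norm_num) hu
  have h0 := cnt_zero_ge (l := 11) v
  have hpos : 1 ≤ cnt 11 v 1 := by
    by_contra hc
    have hlt := kap_lt (show 0 < 11 by norm_num) v i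
    have h1 : 1 ≤ cnt 11 v (kap 11 v i) := by
      rw [cnt_eq_card]
      exact Finset.card_pos.2 ⟨i, Finset.mem_filter.2 ⟨Finset.mem_univ _, rfl⟩⟩
    rw [hu _ (Nat.pos_of_ne_zero hi) hlt] at h1
    omega
  have h22 : cnt 11 v 1 = 22 := by
    by_contra hne
    have hlt : cnt 11 v 1 < 25 := by omega
    refine refuted (setup26 (l := 11) (by norm_num)) (by norm_num) (g := Checks.b11)
      (fun d hd => b11_cls d (by omega)) (n := 6) (by norm_num) (uni11_refuted _ hpos hlt hne) 1 v ?_
    rw [hW, show cnt 11 v 0 = 248 - 10 * cnt 11 v 1 by omega]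
    generalize cnt 11 v 1 = a at hlt
    revert a
    decide +kernel
  refine (algebraMap (ZMod 3) Kbar).injective ?_
  rw [map_zero, show algebraMap (ZMod 3) Kbar = fK from rfl, trace_spectrum (by norm_num) hv]
  have hg0 := hζ.geom_sum_eq_zero (by norm_num)
  have h6 : (6 : Kbar) = 0 := by
    rw [show (6 : Kbar) = ((6 : ℕ) : Kbar) from (Nat.cast_ofNat).symm, CharP.cast_eq_zero_iff Kbar 3]
    norm_num
  simp only [Finset.sum_range_succ, Finset.sum_range_zero] at hg0 ⊢
  simp only [hu 2 (by norm_num) (by norm_num), hu 3 (by norm_num) (by norm_num), hu 4 (by norm_num) (by norm_num),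
    hu 5 (by norm_num) (by norm_num), hu 6 (by norm_num) (by norm_num), hu 7 (by norm_num) (by norm_num),
    hu 8 (by norm_num) (by norm_num), hu 9 (by norm_num) (by norm_num), hu 10 (by norm_num) (by norm_num), h22,
    show cnt 11 v 0 = 28 by omega]
  push_cast
  linear_combination 22 * hg0 + h6

variable {F : Type*} [Field F] [Fintype F] [DecidableEq F] [CharP F 2]

theorem center_trivial {g : SL(2, F)} (hg : g ∈ Subgroup.center SL(2, F)) : g = 1 := by
  obtain ⟨r, hr, hrg⟩ := Matrix.SpecialLinearGroup.mem_center_iff.1 hg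
  rw [Fintype.card_fin] at hr
  have hr1 : r = 1 := by
    rcases sq_eq_one_iff.1 hr with h | h
    · exact h
    · rw [h, CharTwo.neg_eq]
  refine Subtype.ext ?_
  rw [← hrg, hr1, map_one, Matrix.SpecialLinearGroup.coe_one]

variable (C : Coord F) (ψ : SL(2, F) →* ↥(chevE8.group (ZMod 3)))

/-- The matrices over the algebraic closure. -/
noncomputable def repK : SL(2, F) →* Matrix chevE8.Idx chevE8.Idx Kbar :=
  (fK.mapMatrix.toMonoidHom).comp (mat3.comp ψ)

/-- The trace at a class. -/
noncomputable def classTrace (u : ℕ) : Kbar := (repK ψ (C.rep u)).trace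

theorem trace_key (g : SL(2, F)) : (repK ψ g).trace = classTrace C ψ (C.key g) := by
  obtain ⟨h, hh⟩ := C.exists_conj_rep g
  nth_rewrite 1 [← hh]
  rw [map_mul, Matrix.trace_mul_comm, ← map_mul, inv_mul_cancel_left]
  rfl

theorem trace_repK (g : SL(2, F)) : (repK ψ g).trace = fK (mat3 (ψ g)).trace :=
  (AddMonoidHom.map_trace fK.toAddMonoidHom _).symm

theorem classTrace_one : classTrace C ψ 32 = 2 := by
  rw [classTrace, show C.rep 32 = 1 from rfl, map_one, Matrix.trace_one,
    show Fintype.card chevE8.Idx = 248 from (Fintype.card_sum).trans (by rw [Fintype.card_fin, Fintype.card_fin]; rfl)]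
  have : ((248 : ℕ) : Kbar) = ((2 : ℕ) : Kbar) := by rw [CharP.natCast_eq_natCast Kbar 3]; decide
  rw [this, Nat.cast_two]

theorem trace_cube {g : SL(2, F)} : fK (mat3 (ψ (g ^ 3))).trace = (fK (mat3 (ψ g)).trace) ^ 3 := by
  rw [map_pow, map_pow, ZMod.trace_pow_card, map_pow]

theorem fixed_cube (a : ZMod 3) : a ^ 3 = a := by revert a; decide +kernel

theorem classTrace_three : classTrace C ψ 1 = 2 := by
  have h3 : C.rep 1 ^ 3 = 1 := C.toCode_inj (by
    rw [C.toCode_pow, C.toCode_rep (by norm_num), C.toCode_one]; exact (GF32.Coord.ceq_iff _ _).1 (by decide +kernel))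
  have h := classTrace_one C ψ
  rw [classTrace, show C.rep 32 = C.rep 1 ^ 3 from h3.symm ▸ rfl, trace_repK, trace_cube, ← map_pow, fixed_cube] at h
  rw [classTrace, trace_repK]
  exact h

theorem alpha_lt : ∀ t ∈ alpha, t < 33 := by decide +kernel

theorem classTrace_alpha (hker : ∀ g, ψ g = 1 ↔ g ∈ Subgroup.center SL(2, F)) {t : ℕ} (ht : t ∈ alpha) :
    classTrace C ψ t = 0 := by
  have htest := List.all_eq_true.1 order_ok t ht
  simp only [Bool.and_eq_true, Bool.not_eq_true'] at htest
  have htlt : t < 33 := alpha_lt t ht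
  have h33 : C.rep t ^ 33 = 1 := C.toCode_inj (by
    rw [C.toCode_pow, C.toCode_rep htlt, C.toCode_one]; exact (GF32.Coord.ceq_iff _ _).1 htest.1)
  have hne : C.rep t ^ 3 ≠ 1 := fun h => by
    have e := congrArg C.toCode h
    rw [C.toCode_pow, C.toCode_rep htlt, C.toCode_one] at e
    rw [(GF32.Coord.ceq_iff _ _).2 e] at htest
    exact Bool.noConfusion htest.2
  obtain ⟨h, hh⟩ := C.exists_conj_rep (C.rep t ^ 3)
  obtain ⟨k, hk⟩ := C.exists_conj_rep (C.rep t ^ 3)⁻¹
  rw [C.key_inv] at hk
  have hconj : (k * h⁻¹) * (C.rep t ^ 3) * (k * h⁻¹)⁻¹ = (C.rep t ^ 3) ^ 10 := by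
    rw [show (C.rep t ^ 3) ^ 10 = (C.rep t ^ 3)⁻¹ from eq_inv_of_mul_eq_one_left (by
      rw [← pow_succ, ← pow_mul, h33]), ← hk]
    conv_lhs => arg 1; arg 2; rw [← hh]
    group
  have h0 := trace_eleven (x := ψ (C.rep t ^ 3)) (by rw [← map_pow, ← pow_mul, h33, map_one])
    (fun h => hne (center_trivial ((hker _).1 h)))
    (g := ψ (k * h⁻¹)) (by rw [← map_inv, ← map_mul, ← map_mul, hconj, map_pow])
  have h1 := trace_cube ψ (g := C.rep t)
  rw [h0, map_zero, eq_comm, pow_eq_zero_iff (by norm_num : 3 ≠ 0)] at h1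
  rwa [classTrace, trace_repK]

variable (ζ : Kbar)

/-- The coefficient of the class sum at an element. -/
noncomputable def cval (j : ℕ) (g : SL(2, F)) : Kbar := ev ζ (coef j (C.key g))

theorem cval_conj (j : ℕ) (g h : SL(2, F)) : cval C ζ j (h * g * h⁻¹) = cval C ζ j g := by
  rw [cval, cval, C.key_conj]

theorem coef_off (j : ℕ) {s : ℕ} (hs : s ∉ supp) : ev ζ (coef j s) = 0 := by
  simp [supp] at hs
  rw [coef, if_neg hs.1, if_neg hs.2.1, if_neg (by simp [kof]; omega), ev_zero]

theorem sum_classes (j : ℕ) (Φ : ℕ → Kbar) (g : SL(2, F)) :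
    ∑ x : SL(2, F), cval C ζ j x * Φ (C.key (x⁻¹ * g)) =
      ∑ s ∈ supp.toFinset, ev ζ (coef j s) * ∑ u ∈ Finset.range 33, (histAt (pairHist (C.toCode g) s) u : Kbar) * Φ u := by
  classical
  rw [← Finset.sum_fiberwise_of_maps_to (s := (Finset.univ : Finset SL(2, F))) (t := Finset.range 33)
    (g := C.key) (fun x _ => Finset.mem_range.2 (C.key_lt x))]
  have hsub : supp.toFinset ⊆ Finset.range 33 := by decide +kernel
  rw [← Finset.sum_subset hsub]
  · refine Finset.sum_congr rfl fun s hs => ?_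
    rw [Finset.sum_congr rfl (g := fun x => ev ζ (coef j s) * Φ (C.key (x⁻¹ * g))) (fun x hx => by
      rw [cval, (Finset.mem_filter.1 hx).2]), ← Finset.mul_sum, C.sum_counts (List.mem_toFinset.1 hs) g Φ]
    simp [nsmul_eq_mul]
  · intro s _ hs
    refine Finset.sum_eq_zero fun x hx => ?_
    rw [cval, (Finset.mem_filter.1 hx).2, coef_off ζ j (fun h => hs (List.mem_toFinset.2 h)), zero_mul]

theorem zip_map_self {α β : Type*} (f : α → β) : ∀ L : List α, L.zip (L.map f) = L.map fun s => (s, f s)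
  | [] => rfl
  | a :: L => by rw [List.map_cons, List.zip_cons_cons, zip_map_self f L, List.map_cons]

theorem conv (hζ : IsPrimitiveRoot ζ 11) {i j : ℕ} (hi : i ∈ [1, 2, 3, 4, 5]) (hj : j ∈ [1, 2, 3, 4, 5])
    (g : SL(2, F)) :
    ∑ x, cval C ζ i x * cval C ζ j (x⁻¹ * g) = if i = j then cval C ζ i g else 0 := by
  classical
  obtain ⟨h, hh⟩ := C.exists_conj_rep g
  have hrep : ∑ x, cval C ζ i x * cval C ζ j (x⁻¹ * g) =
      ∑ x, cval C ζ i x * cval C ζ j (x⁻¹ * C.rep (C.key g)) := by
    refine Fintype.sum_equiv (MulAut.conj h⁻¹).toEquiv _ _ fun x => ?_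
    show _ = cval C ζ i (h⁻¹ * x * h⁻¹⁻¹) * cval C ζ j ((h⁻¹ * x * h⁻¹⁻¹)⁻¹ * C.rep (C.key g))
    rw [cval_conj]
    refine congrArg (cval C ζ i x * ·) ?_
    nth_rewrite 1 [← hh]
    rw [← cval_conj C ζ j (x⁻¹ * (h * C.rep (C.key g) * h⁻¹)) h⁻¹]
    refine congrArg (cval C ζ j) ?_
    group
  have hkey : C.key g < 33 := C.key_lt g
  rw [hrep]
  show ∑ x, cval C ζ i x * (fun u => ev ζ (coef j u)) (C.key (x⁻¹ * C.rep (C.key g))) = _
  rw [sum_classes C ζ i (fun u => ev ζ (coef j u)), C.toCode_rep hkey]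
  have hconv := conv_ok _ hkey
  simp only [convTest, List.all_eq_true, beq_iff_eq] at hconv
  have e := congrArg (ev ζ) (hconv i hi j hj)
  rw [ev_convAt hζ, zip_map_self, List.map_map] at e
  have hnd : supp.Nodup := by decide +kernel
  have hsub : supp.toFinset ⊆ Finset.range 33 := by decide +kernel
  rw [List.sum_toFinset _ hnd, List.map_congr_left (g := fun s => ev ζ (coef i s) *
    ((supp.map fun u => (histAt (pairHist (crep (C.key g)) s) u : Kbar) * ev ζ (coef j u)).sum)) fun s _ => by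
      rw [← Finset.sum_subset hsub (fun u _ hu => by
        rw [coef_off ζ j (fun h => hu (List.mem_toFinset.2 h)), mul_zero]), List.sum_toFinset _ hnd]]
  have hfin : (supp.map fun s => ev ζ (coef i s) *
      ((supp.map fun u => (histAt (pairHist (crep (C.key g)) s) u : Kbar) * ev ζ (coef j u)).sum)).sum =
      if i = j then cval C ζ i g else 0 := by
    rw [show (if i = j then cval C ζ i g else 0) = ev ζ (if i = j then coef i (C.key g) else [0, 0, 0, 0, 0]) by
      by_cases hij : i = j <;> simp [hij, cval, ev_zero], ← e]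
    refine congrArg List.sum (List.map_congr_left fun s _ => ?_)
    simp only [Function.comp_apply]
    rw [← List.sum_map_mul_left]
    exact congrArg List.sum (List.map_congr_left fun u _ => by ring)
  exact hfin

/-- The class sums. -/
noncomputable def fmat (j : ℕ) : Matrix chevE8.Idx chevE8.Idx Kbar := ∑ x, cval C ζ j x • repK ψ x

theorem fmat_mul (hζ : IsPrimitiveRoot ζ 11) {i j : ℕ} (hi : i ∈ [1, 2, 3, 4, 5]) (hj : j ∈ [1, 2, 3, 4, 5]) :
    fmat C ψ ζ i * fmat C ψ ζ j = if i = j then fmat C ψ ζ i else 0 := by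
  have e : fmat C ψ ζ i * fmat C ψ ζ j =
      ∑ g, (∑ x, cval C ζ i x * cval C ζ j (x⁻¹ * g)) • repK ψ g := by
    simp only [fmat, Finset.sum_smul]
    rw [Finset.sum_mul]
    simp only [Finset.mul_sum, smul_mul_smul_comm, ← map_mul]
    conv_rhs => rw [Finset.sum_comm]
    exact Finset.sum_congr rfl fun x _ => Fintype.sum_equiv (Equiv.mulLeft x) _ _ fun y => by
      simp [Equiv.coe_mulLeft]
  rw [e, Finset.sum_congr rfl fun g _ => by rw [conv C ζ hζ hi hj g]]
  by_cases hij : i = j
  · simp only [if_pos hij]; rfl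
  · simp [if_neg hij]

theorem fmat_comm (j : ℕ) (h : SL(2, F)) : repK ψ h * fmat C ψ ζ j = fmat C ψ ζ j * repK ψ h := by
  simp only [fmat, Finset.sum_mul, Finset.mul_sum, smul_mul_assoc, mul_smul_comm, ← map_mul]
  refine Fintype.sum_equiv (MulAut.conj h).toEquiv _ _ fun x => ?_
  show _ = cval C ζ j (h * x * h⁻¹) • repK ψ (h * x * h⁻¹ * h)
  rw [cval_conj, inv_mul_cancel_right]

/-- An upper unitriangular element. -/
def upper (y : F) : SL(2, F) := ⟨!![1, y; 0, 1], by simp [Matrix.det_fin_two]⟩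

theorem upper_mul (x y : F) : upper x * upper y = upper (x + y) := by
  refine Subtype.ext ?_
  rw [Matrix.SpecialLinearGroup.coe_mul]
  ext a b
  fin_cases a <;> fin_cases b <;> simp [upper, Matrix.mul_apply, Fin.sum_univ_two, add_comm]

theorem upper_zero : upper (0 : F) = 1 := by
  refine Subtype.ext (Matrix.ext fun a b => ?_)
  fin_cases a <;> fin_cases b <;> simp [upper]

/-- A character of the additive group. -/
noncomputable def chr (y : F) : Kbar := if C.code y % 2 = 0 then 1 else -1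

theorem chr_add (x y : F) : chr C (x + y) = chr C x * chr C y := by
  have e : (Nat.xor (C.code x) (C.code y)) % 2 = (C.code x + C.code y) % 2 := by
    rw [show Nat.xor (C.code x) (C.code y) = C.code x ^^^ C.code y from rfl]
    have := @Nat.xor_mod_two_eq (C.code x) (C.code y)
    omega
  simp only [chr, C.code_add, e]
  rcases Nat.mod_two_eq_zero_or_one (C.code x) with hx | hx <;>
    rcases Nat.mod_two_eq_zero_or_one (C.code y) with hy | hy <;>
      simp [hx, hy, Nat.add_mod]

theorem chr_zero : chr C (0 : F) = 1 := by simp [chr, C.code_zero]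

theorem chr_sum {a : F} (ha : a ≠ 0) : ∑ y : F, chr C (a * y) = 0 := by
  have h := Fintype.sum_equiv (Equiv.addLeft a⁻¹) (fun y => chr C (a * (a⁻¹ + y))) (fun y => chr C (a * y))
    fun y => rfl
  simp only [mul_add, mul_inv_cancel₀ ha, chr_add, ← Finset.mul_sum] at h
  have h1 : chr C (1 : F) = -1 := by simp [chr, C.code_one]
  rw [h1, neg_one_mul] at h
  have h2 : (2 : Kbar) ≠ 0 := by
    rw [show (2 : Kbar) = ((2 : ℕ) : Kbar) from (Nat.cast_ofNat).symm, Ne, CharP.cast_eq_zero_iff Kbar 3]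
    norm_num
  exact mul_left_cancel₀ h2 (by linear_combination -h)

/-- The idempotent of a character of the unitriangular subgroup. -/
noncomputable def emat (a : F) : Matrix chevE8.Idx chevE8.Idx Kbar :=
  (2 : Kbar) • ∑ y : F, chr C (a * y) • repK ψ (upper y)

theorem emat_mul (hF : Fintype.card F = 32) (a b : F) :
    emat C ψ a * emat C ψ b = if a = b then emat C ψ a else 0 := by
  have e : emat C ψ a * emat C ψ b =
      (4 * ∑ x : F, chr C ((a + b) * x)) • ∑ z : F, chr C (b * z) • repK ψ (upper z) := by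
    rw [emat, emat, smul_mul_smul_comm, show (2 : Kbar) * 2 = 4 by norm_num, mul_smul (4 : Kbar),
      Finset.sum_smul, Finset.sum_mul]
    refine congrArg _ (Finset.sum_congr rfl fun x _ => ?_)
    rw [Finset.mul_sum, Finset.smul_sum]
    refine (Fintype.sum_equiv (Equiv.addLeft x) _ _ fun y => ?_)
    show _ = chr C ((a + b) * x) • chr C (b * (x + y)) • repK ψ (upper (x + y))
    rw [smul_mul_smul_comm, ← map_mul, upper_mul, smul_smul]
    congr 1
    rw [add_mul, chr_add, mul_add, chr_add]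
    have hsq : chr C (b * x) * chr C (b * x) = 1 := by
      rw [← chr_add, CharTwo.add_self_eq_zero, chr_zero]
    linear_combination (-(chr C (a * x) * chr C (b * y))) * hsq
  rw [e]
  by_cases hab : a = b
  · subst hab
    rw [if_pos rfl, CharTwo.add_self_eq_zero]
    simp only [zero_mul, chr_zero, Finset.sum_const, Finset.card_univ, hF, nsmul_eq_mul, mul_one]
    rw [emat]
    congr 1
    have : ((128 : ℕ) : Kbar) = ((2 : ℕ) : Kbar) := by rw [CharP.natCast_eq_natCast Kbar 3]; decide
    push_cast at this ⊢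
    linear_combination this
  · rw [if_neg hab, chr_sum C (fun h => hab (CharTwo.add_eq_zero.1 h)), mul_zero, zero_smul]

theorem rank_emat_eq {a : F} (ha : a ≠ 0) : (emat C ψ a).rank = (emat C ψ 1).rank := by
  obtain ⟨r, hr⟩ : ∃ r : F, r ^ 2 = a :=
    ((Fintype.bijective_iff_injective_and_card (frobenius F 2)).2 ⟨frobenius_inj F 2, rfl⟩).2 a
  have hr0 : r ≠ 0 := fun h => ha (by rw [← hr, h]; simp)
  let d : SL(2, F) := ⟨!![r, 0; 0, r⁻¹], by rw [Matrix.det_fin_two_of, mul_inv_cancel₀ hr0]; simp⟩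
  have hd : ∀ y, upper (a * y) * d = d * upper y := fun y => by
    refine Subtype.ext ?_
    rw [Matrix.SpecialLinearGroup.coe_mul, Matrix.SpecialLinearGroup.coe_mul]
    refine Matrix.ext fun i j => ?_
    fin_cases i <;> fin_cases j <;> simp [d, upper, Matrix.mul_apply, Fin.sum_univ_two]
    rw [← hr]
    field_simp
  have e : emat C ψ 1 = repK ψ d * emat C ψ a * repK ψ d⁻¹ := by
    rw [emat, emat, Matrix.mul_smul, Matrix.smul_mul, Finset.mul_sum, Finset.sum_mul]
    congr 1
    refine (Fintype.sum_equiv (Equiv.mulLeft₀ a ha) _ _ fun y => ?_).symm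
    show repK ψ d * (chr C (a * y) • repK ψ (upper y)) * repK ψ d⁻¹ = chr C (1 * (a * y)) • repK ψ (upper (a * y))
    rw [Matrix.mul_smul, Matrix.smul_mul, ← map_mul, ← map_mul, ← hd, mul_inv_cancel_right, one_mul]
  have hu : IsUnit (repK ψ d) := (Group.isUnit d).map (repK ψ)
  have hu' : IsUnit (repK ψ d⁻¹) := (Group.isUnit d⁻¹).map (repK ψ)
  rw [e, Matrix.rank_mul_eq_left_of_isUnit_det _ _ ((Matrix.isUnit_iff_isUnit_det _).1 hu'),
    Matrix.rank_mul_eq_right_of_isUnit_det _ _ ((Matrix.isUnit_iff_isUnit_det _).1 hu)]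

theorem rank_sum_orth {α : Type*} [DecidableEq α] (S : Finset α) (E : α → Matrix chevE8.Idx chevE8.Idx Kbar)
    (h : ∀ a ∈ S, ∀ b ∈ S, E a * E b = if a = b then E a else 0) :
    (∑ a ∈ S, E a).rank = ∑ a ∈ S, (E a).rank := by
  induction S using Finset.induction with
  | empty => simp
  | insert x S hx ih =>
    have hS : ∀ a ∈ S, ∀ b ∈ S, E a * E b = if a = b then E a else 0 :=
      fun a ha b hb => h a (Finset.mem_insert_of_mem ha) b (Finset.mem_insert_of_mem hb)
    have hxx := h x (Finset.mem_insert_self _ _) x (Finset.mem_insert_self _ _)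
    rw [if_pos rfl] at hxx
    rw [Finset.sum_insert hx, Finset.sum_insert hx, rank_add_of_orthogonal hxx ?_ ?_ ?_, ih hS]
    · rw [Finset.sum_mul]
      refine Finset.sum_congr rfl fun a ha => ?_
      rw [Finset.mul_sum, Finset.sum_congr rfl (fun b hb => hS a ha b hb), Finset.sum_ite_eq, if_pos ha]
    · rw [Finset.mul_sum]
      exact Finset.sum_eq_zero fun b hb => by
        rw [h x (Finset.mem_insert_self _ _) b (Finset.mem_insert_of_mem hb), if_neg (ne_of_mem_of_not_mem hb hx).symm]
    · rw [Finset.sum_mul]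
      exact Finset.sum_eq_zero fun b hb => by
        rw [h b (Finset.mem_insert_of_mem hb) x (Finset.mem_insert_self _ _), if_neg (ne_of_mem_of_not_mem hb hx)]

theorem rank_emat_le (hF : Fintype.card F = 32) : (emat C ψ 1).rank ≤ 8 := by
  have h := rank_sum_orth (Finset.univ.erase (0 : F)) (emat C ψ) (fun a _ b _ => emat_mul C ψ hF a b)
  rw [Finset.sum_congr rfl (fun a ha => rank_emat_eq C ψ (Finset.mem_erase.1 ha).1), Finset.sum_const,
    Finset.card_erase_of_mem (Finset.mem_univ _), Finset.card_univ, hF, smul_eq_mul] at h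
  have h2 := Matrix.rank_le_card_width (∑ a ∈ Finset.univ.erase (0 : F), emat C ψ a)
  have h3 : Fintype.card chevE8.Idx = 248 :=
    (Fintype.card_sum).trans (by rw [Fintype.card_fin, Fintype.card_fin]; rfl)
  omega

theorem key_upper {y : F} (hy : y ≠ 0) : C.key (upper y) = 0 := by
  rw [C.key_eq, if_neg (fun h => hy (by simpa [upper] using congrArg (fun g : SL(2, F) => (g : Matrix (Fin 2) (Fin 2) F) 0 1) h))]
  simp [upper, CharTwo.add_self_eq_zero, C.code_zero]

theorem trace_fmat_mul (j : ℕ) (g : SL(2, F)) :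
    (fmat C ψ ζ j * repK ψ g).trace = ∑ s ∈ supp.toFinset, ev ζ (coef j s) *
      ∑ u ∈ Finset.range 33, (histAt (pairHist (crep (C.key g)) s) u : Kbar) * classTrace C ψ u := by
  obtain ⟨h, hh⟩ := C.exists_conj_rep g
  have e : (fmat C ψ ζ j * repK ψ g).trace = (fmat C ψ ζ j * repK ψ (C.rep (C.key g))).trace := by
    nth_rewrite 1 [← hh]
    rw [map_mul, map_mul, ← mul_assoc, ← mul_assoc, ← fmat_comm, mul_assoc, mul_assoc, Matrix.trace_mul_comm,
      mul_assoc, mul_assoc, ← map_mul, inv_mul_cancel, map_one, mul_one]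
  rw [e, ← C.toCode_rep (C.key_lt g), ← sum_classes C ζ j (classTrace C ψ)]
  simp only [fmat, Finset.sum_mul, Matrix.trace_sum, smul_mul_assoc, Matrix.trace_smul, smul_eq_mul, ← map_mul]
  refine Fintype.sum_equiv (Equiv.inv _) _ _ fun x => ?_
  show _ = cval C ζ j x⁻¹ * _
  simp only [Equiv.inv_apply, inv_inv]
  rw [← trace_key, cval, cval, C.key_inv]

theorem trace_piece (hker : ∀ g, ψ g = 1 ↔ g ∈ Subgroup.center SL(2, F)) (hζ : IsPrimitiveRoot ζ 11)
    {j : ℕ} (hj : j ∈ [1, 2, 3, 4, 5]) :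
    (fmat C ψ ζ j * emat C ψ 1).trace = 2 := by
  classical
  set H0 := supp.map (pairHist (crep 32)) with hH0
  set H1 := supp.map (pairHist (crep 0)) with hH1
  set S : ℕ → Kbar := fun k => ∑ s ∈ supp.toFinset, ev ζ (coef j s) *
      ∑ u ∈ Finset.range 33, (histAt (pairHist (crep k) s) u : Kbar) * classTrace C ψ u with hS
  have hy : ∑ y ∈ Finset.univ.erase (0 : F), chr C y = -1 := by
    have h := chr_sum C (a := (1 : F)) one_ne_zero
    rw [← Finset.add_sum_erase _ _ (Finset.mem_univ (0 : F))] at h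
    simp only [one_mul, chr_zero] at h
    linear_combination h
  have h1 : (fmat C ψ ζ j * emat C ψ 1).trace = 2 * (S 32 - S 0) := by
    rw [emat, Matrix.mul_smul, Matrix.trace_smul, smul_eq_mul, Finset.mul_sum, Matrix.trace_sum,
      ← Finset.add_sum_erase _ _ (Finset.mem_univ (0 : F))]
    congr 1
    simp only [Matrix.mul_smul, Matrix.trace_smul, smul_eq_mul, one_mul, trace_fmat_mul]
    rw [chr_zero, upper_zero, show C.key (1 : SL(2, F)) = 32 by rw [C.key_eq, if_pos rfl], one_mul,
      Finset.sum_congr rfl (g := fun y => chr C y * S 0) (fun y hy => by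
        rw [key_upper C (Finset.mem_erase.1 hy).1]), ← Finset.sum_mul, hy]
    ring
  have hnd : supp.Nodup := by decide +kernel
  have h2 : 2 * (S 32 - S 0) = 2 * (S 32 + 2 * S 0) := by
    have h3 : ((3 : ℕ) : Kbar) = 0 := CharP.cast_eq_zero Kbar 3
    push_cast at h3
    linear_combination (-2 * S 0) * h3
  have hz : ∀ L : List ℕ, L.zip ((L.map (pairHist (crep 32))).zip (L.map (pairHist (crep 0)))) =
      L.map fun s => (s, pairHist (crep 32) s, pairHist (crep 0) s) := by
    intro L; induction L with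
    | nil => rfl
    | cons a L ih => simp [ih]
  have htot : 2 * (S 32 + 2 * S 0) = ∑ u ∈ Finset.range 33, ev ζ (totAt j u H0 H1) * classTrace C ψ u := by
    have e : ∀ u, ev ζ (totAt j u H0 H1) = ∑ s ∈ supp.toFinset, ev ζ (coef j s) *
        (2 * (histAt (pairHist (crep 32) s) u : Kbar) + (histAt (pairHist (crep 0) s) u : Kbar)) := by
      intro u
      rw [(ev_totAt hζ j u H0 H1).2, hH0, hH1, hz, List.map_map, List.sum_toFinset _ hnd]
      refine congrArg List.sum (List.map_congr_left fun s _ => ?_)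
      simp only [Function.comp_apply]
      push_cast
      ring
    simp only [e, Finset.sum_mul]
    rw [Finset.sum_comm, hS]
    simp only [Finset.mul_sum, ← Finset.sum_add_distrib]
    refine Finset.sum_congr rfl fun s _ => Finset.sum_congr rfl fun u _ => ?_
    have h3 : ((3 : ℕ) : Kbar) = 0 := CharP.cast_eq_zero Kbar 3
    push_cast at h3
    linear_combination (ev ζ (coef j s) * (histAt (pairHist (crep 0) s) u : Kbar) * classTrace C ψ u) * h3
  rw [h1, h2, htot]
  have ht := tot_ok
  simp only [totTest, List.all_eq_true, Bool.and_eq_true, Bool.or_eq_true, beq_iff_eq, List.mem_range,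
    List.contains_iff_mem] at ht
  obtain ⟨hone, hrest⟩ := ht j hj
  have hsub : ({1, 32} : Finset ℕ) ⊆ Finset.range 33 := by decide +kernel
  rw [← Finset.sum_subset hsub, Finset.sum_pair (by norm_num), classTrace_one, classTrace_three, ← add_mul]
  · have e := congrArg (ev ζ) hone
    rw [ev_vadd ζ (ev_totAt hζ j 32 H0 H1).1 (ev_totAt hζ j 1 H0 H1).1, ev_twos hζ, Nat.cast_one, one_mul] at e
    rw [show ev ζ (totAt j 1 H0 H1) + ev ζ (totAt j 32 H0 H1) = 1 by linear_combination e, one_mul]
  · intro u hu hu'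
    simp only [Finset.mem_insert, Finset.mem_singleton, not_or] at hu'
    rw [Finset.mem_range] at hu
    rcases hrest u (by omega) with (ha | h1) | h0
    · rw [classTrace_alpha C ψ hker ha, mul_zero]
    · exact absurd h1 hu'.1
    · rw [show totAt j u H0 H1 = [0, 0, 0, 0, 0] from h0, ev_zero, zero_mul]

theorem no_hom32 (hF : Fintype.card F = 32) (C : Coord F) (ψ : SL(2, F) →* ↥(chevE8.group (ZMod 3)))
    (hker : ∀ g, ψ g = 1 ↔ g ∈ Subgroup.center SL(2, F)) : False := by
  classical
  obtain ⟨ζ, hζ⟩ := exists_prim 11 (by norm_num)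
  set E := emat C ψ 1 with hE
  have hEE : E * E = E := by rw [hE, emat_mul C ψ hF, if_pos rfl]
  have hcomm : ∀ j, E * fmat C ψ ζ j = fmat C ψ ζ j * E := by
    intro j
    simp only [hE, emat, smul_mul_assoc, mul_smul_comm, Finset.sum_mul, Finset.mul_sum, fmat_comm]
  set J : Finset ℕ := [1, 2, 3, 4, 5].toFinset with hJ
  set P : ℕ → Matrix chevE8.Idx chevE8.Idx Kbar := fun j => fmat C ψ ζ j * E with hP
  have horth : ∀ i ∈ J, ∀ j ∈ J, P i * P j = if i = j then P i else 0 := by
    intro i hi j hj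
    calc P i * P j = fmat C ψ ζ i * (E * fmat C ψ ζ j) * E := by simp only [hP, mul_assoc]
      _ = fmat C ψ ζ i * fmat C ψ ζ j * (E * E) := by rw [hcomm]; simp only [mul_assoc]
      _ = _ := by
        rw [fmat_mul C ψ ζ hζ (List.mem_toFinset.1 hi) (List.mem_toFinset.1 hj), hEE]
        split <;> simp [hP]
  have h2 : ∀ j ∈ J, 2 ≤ (P j).rank := by
    intro j hj
    have hid : P j * P j = P j := by rw [horth j hj j hj, if_pos rfl]
    have e := trace_idem_field hid
    rw [show (P j).trace = ((2 : ℕ) : Kbar) by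
      rw [Nat.cast_two]; exact trace_piece C ψ ζ hker hζ (List.mem_toFinset.1 hj), CharP.natCast_eq_natCast Kbar 3,
      Nat.ModEq] at e
    omega
  have hle : (∑ j ∈ J, P j).rank ≤ E.rank := by
    rw [hP, ← Finset.sum_mul]
    exact Matrix.rank_mul_le_right _ _
  rw [rank_sum_orth J P horth] at hle
  have h10 : 10 ≤ ∑ j ∈ J, (P j).rank :=
    calc (10 : ℕ) = J.card • 2 := by rw [hJ]; rfl
      _ ≤ _ := Finset.card_nsmul_le_sum J _ 2 h2
  have h8 : E.rank ≤ 8 := rank_emat_le C ψ hF
  omega

end Cfsg.Agent.Chevalley.NoSub
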