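import Mathlib.Init
import Mathlib.Data.Nat.Notation

/-!
The orbits of digit vectors with an even number of ones under rotation.
-/

set_option autoImplicit false
set_option maxRecDepth 100000

namespace Cfsg.Agent.Chevalley.NoSub.Tables

/-- Orbits of vectors of length five; the trivial one is the last. -/
def orbs5 : List (List (List ℕ)) := [[[1, 1, 2, 2, 2], [2, 1, 1, 2, 2], [2, 2, 1, 1, 2], [2, 2, 2, 1, 1], [1, 2, 2, 2, 1]],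
  [[1, 2, 1, 2, 2], [2, 1, 2, 1, 2], [2, 2, 1, 2, 1], [1, 2, 2, 1, 2], [2, 1, 2, 2, 1]],
  [[0, 2, 2, 2, 2], [2, 0, 2, 2, 2], [2, 2, 0, 2, 2], [2, 2, 2, 0, 2], [2, 2, 2, 2, 0]],
  [[2, 2, 2, 2, 2]],
  [[1, 1, 1, 1, 2], [2, 1, 1, 1, 1], [1, 2, 1, 1, 1], [1, 1, 2, 1, 1], [1, 1, 1, 2, 1]],
  [[0, 1, 1, 2, 2], [2, 0, 1, 1, 2], [2, 2, 0, 1, 1], [1, 2, 2, 0, 1], [1, 1, 2, 2, 0]],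
  [[0, 1, 2, 1, 2], [2, 0, 1, 2, 1], [1, 2, 0, 1, 2], [2, 1, 2, 0, 1], [1, 2, 1, 2, 0]],
  [[0, 1, 2, 2, 1], [1, 0, 1, 2, 2], [2, 1, 0, 1, 2], [2, 2, 1, 0, 1], [1, 2, 2, 1, 0]],
  [[0, 2, 1, 1, 2], [2, 0, 2, 1, 1], [1, 2, 0, 2, 1], [1, 1, 2, 0, 2], [2, 1, 1, 2, 0]],
  [[0, 2, 1, 2, 1], [1, 0, 2, 1, 2], [2, 1, 0, 2, 1], [1, 2, 1, 0, 2], [2, 1, 2, 1, 0]],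
  [[0, 2, 2, 1, 1], [1, 0, 2, 2, 1], [1, 1, 0, 2, 2], [2, 1, 1, 0, 2], [2, 2, 1, 1, 0]],
  [[0, 0, 2, 2, 2], [2, 0, 0, 2, 2], [2, 2, 0, 0, 2], [2, 2, 2, 0, 0], [0, 2, 2, 2, 0]],
  [[0, 2, 0, 2, 2], [2, 0, 2, 0, 2], [2, 2, 0, 2, 0], [0, 2, 2, 0, 2], [2, 0, 2, 2, 0]],
  [[0, 1, 1, 1, 1], [1, 0, 1, 1, 1], [1, 1, 0, 1, 1], [1, 1, 1, 0, 1], [1, 1, 1, 1, 0]],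
  [[0, 0, 1, 1, 2], [2, 0, 0, 1, 1], [1, 2, 0, 0, 1], [1, 1, 2, 0, 0], [0, 1, 1, 2, 0]],
  [[0, 0, 1, 2, 1], [1, 0, 0, 1, 2], [2, 1, 0, 0, 1], [1, 2, 1, 0, 0], [0, 1, 2, 1, 0]],
  [[0, 0, 2, 1, 1], [1, 0, 0, 2, 1], [1, 1, 0, 0, 2], [2, 1, 1, 0, 0], [0, 2, 1, 1, 0]],
  [[0, 1, 0, 1, 2], [2, 0, 1, 0, 1], [1, 2, 0, 1, 0], [0, 1, 2, 0, 1], [1, 0, 1, 2, 0]],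
  [[0, 1, 0, 2, 1], [1, 0, 1, 0, 2], [2, 1, 0, 1, 0], [0, 2, 1, 0, 1], [1, 0, 2, 1, 0]],
  [[0, 1, 1, 0, 2], [2, 0, 1, 1, 0], [0, 2, 0, 1, 1], [1, 0, 2, 0, 1], [1, 1, 0, 2, 0]],
  [[0, 0, 0, 2, 2], [2, 0, 0, 0, 2], [2, 2, 0, 0, 0], [0, 2, 2, 0, 0], [0, 0, 2, 2, 0]],
  [[0, 0, 2, 0, 2], [2, 0, 0, 2, 0], [0, 2, 0, 0, 2], [2, 0, 2, 0, 0], [0, 2, 0, 2, 0]],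
  [[0, 0, 0, 1, 1], [1, 0, 0, 0, 1], [1, 1, 0, 0, 0], [0, 1, 1, 0, 0], [0, 0, 1, 1, 0]],
  [[0, 0, 1, 0, 1], [1, 0, 0, 1, 0], [0, 1, 0, 0, 1], [1, 0, 1, 0, 0], [0, 1, 0, 1, 0]],
  [[0, 0, 0, 0, 2], [2, 0, 0, 0, 0], [0, 2, 0, 0, 0], [0, 0, 2, 0, 0], [0, 0, 0, 2, 0]],
  [[0, 0, 0, 0, 0]]]

/-- Orbits of vectors of length six; the trivial one is the last. -/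
def orbs6 : List (List (List ℕ)) := [[[1, 1, 2, 2, 2, 2], [2, 1, 1, 2, 2, 2], [2, 2, 1, 1, 2, 2], [2, 2, 2, 1, 1, 2], [2, 2, 2, 2, 1, 1], [1, 2, 2, 2, 2, 1]],
  [[1, 2, 1, 2, 2, 2], [2, 1, 2, 1, 2, 2], [2, 2, 1, 2, 1, 2], [2, 2, 2, 1, 2, 1], [1, 2, 2, 2, 1, 2], [2, 1, 2, 2, 2, 1]],
  [[0, 2, 2, 2, 2, 2], [2, 0, 2, 2, 2, 2], [2, 2, 0, 2, 2, 2], [2, 2, 2, 0, 2, 2], [2, 2, 2, 2, 0, 2], [2, 2, 2, 2, 2, 0]],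
  [[1, 2, 2, 1, 2, 2], [2, 1, 2, 2, 1, 2], [2, 2, 1, 2, 2, 1]],
  [[1, 1, 1, 1, 2, 2], [2, 1, 1, 1, 1, 2], [2, 2, 1, 1, 1, 1], [1, 2, 2, 1, 1, 1], [1, 1, 2, 2, 1, 1], [1, 1, 1, 2, 2, 1]],
  [[1, 1, 1, 2, 1, 2], [2, 1, 1, 1, 2, 1], [1, 2, 1, 1, 1, 2], [2, 1, 2, 1, 1, 1], [1, 2, 1, 2, 1, 1], [1, 1, 2, 1, 2, 1]],
  [[2, 2, 2, 2, 2, 2]],
  [[0, 1, 1, 2, 2, 2], [2, 0, 1, 1, 2, 2], [2, 2, 0, 1, 1, 2], [2, 2, 2, 0, 1, 1], [1, 2, 2, 2, 0, 1], [1, 1, 2, 2, 2, 0]],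
  [[0, 1, 2, 1, 2, 2], [2, 0, 1, 2, 1, 2], [2, 2, 0, 1, 2, 1], [1, 2, 2, 0, 1, 2], [2, 1, 2, 2, 0, 1], [1, 2, 1, 2, 2, 0]],
  [[0, 1, 2, 2, 1, 2], [2, 0, 1, 2, 2, 1], [1, 2, 0, 1, 2, 2], [2, 1, 2, 0, 1, 2], [2, 2, 1, 2, 0, 1], [1, 2, 2, 1, 2, 0]],
  [[0, 1, 2, 2, 2, 1], [1, 0, 1, 2, 2, 2], [2, 1, 0, 1, 2, 2], [2, 2, 1, 0, 1, 2], [2, 2, 2, 1, 0, 1], [1, 2, 2, 2, 1, 0]],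
  [[0, 2, 1, 1, 2, 2], [2, 0, 2, 1, 1, 2], [2, 2, 0, 2, 1, 1], [1, 2, 2, 0, 2, 1], [1, 1, 2, 2, 0, 2], [2, 1, 1, 2, 2, 0]],
  [[0, 2, 1, 2, 1, 2], [2, 0, 2, 1, 2, 1], [1, 2, 0, 2, 1, 2], [2, 1, 2, 0, 2, 1], [1, 2, 1, 2, 0, 2], [2, 1, 2, 1, 2, 0]],
  [[0, 2, 1, 2, 2, 1], [1, 0, 2, 1, 2, 2], [2, 1, 0, 2, 1, 2], [2, 2, 1, 0, 2, 1], [1, 2, 2, 1, 0, 2], [2, 1, 2, 2, 1, 0]],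
  [[0, 2, 2, 1, 1, 2], [2, 0, 2, 2, 1, 1], [1, 2, 0, 2, 2, 1], [1, 1, 2, 0, 2, 2], [2, 1, 1, 2, 0, 2], [2, 2, 1, 1, 2, 0]],
  [[0, 2, 2, 1, 2, 1], [1, 0, 2, 2, 1, 2], [2, 1, 0, 2, 2, 1], [1, 2, 1, 0, 2, 2], [2, 1, 2, 1, 0, 2], [2, 2, 1, 2, 1, 0]],
  [[0, 2, 2, 2, 1, 1], [1, 0, 2, 2, 2, 1], [1, 1, 0, 2, 2, 2], [2, 1, 1, 0, 2, 2], [2, 2, 1, 1, 0, 2], [2, 2, 2, 1, 1, 0]],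
  [[0, 0, 2, 2, 2, 2], [2, 0, 0, 2, 2, 2], [2, 2, 0, 0, 2, 2], [2, 2, 2, 0, 0, 2], [2, 2, 2, 2, 0, 0], [0, 2, 2, 2, 2, 0]],
  [[0, 2, 0, 2, 2, 2], [2, 0, 2, 0, 2, 2], [2, 2, 0, 2, 0, 2], [2, 2, 2, 0, 2, 0], [0, 2, 2, 2, 0, 2], [2, 0, 2, 2, 2, 0]],
  [[1, 1, 2, 1, 1, 2], [2, 1, 1, 2, 1, 1], [1, 2, 1, 1, 2, 1]],
  [[0, 1, 1, 1, 1, 2], [2, 0, 1, 1, 1, 1], [1, 2, 0, 1, 1, 1], [1, 1, 2, 0, 1, 1], [1, 1, 1, 2, 0, 1], [1, 1, 1, 1, 2, 0]],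
  [[0, 1, 1, 1, 2, 1], [1, 0, 1, 1, 1, 2], [2, 1, 0, 1, 1, 1], [1, 2, 1, 0, 1, 1], [1, 1, 2, 1, 0, 1], [1, 1, 1, 2, 1, 0]],
  [[0, 1, 1, 2, 1, 1], [1, 0, 1, 1, 2, 1], [1, 1, 0, 1, 1, 2], [2, 1, 1, 0, 1, 1], [1, 2, 1, 1, 0, 1], [1, 1, 2, 1, 1, 0]],
  [[0, 1, 2, 1, 1, 1], [1, 0, 1, 2, 1, 1], [1, 1, 0, 1, 2, 1], [1, 1, 1, 0, 1, 2], [2, 1, 1, 1, 0, 1], [1, 2, 1, 1, 1, 0]],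
  [[0, 2, 1, 1, 1, 1], [1, 0, 2, 1, 1, 1], [1, 1, 0, 2, 1, 1], [1, 1, 1, 0, 2, 1], [1, 1, 1, 1, 0, 2], [2, 1, 1, 1, 1, 0]],
  [[0, 2, 2, 0, 2, 2], [2, 0, 2, 2, 0, 2], [2, 2, 0, 2, 2, 0]],
  [[0, 0, 1, 1, 2, 2], [2, 0, 0, 1, 1, 2], [2, 2, 0, 0, 1, 1], [1, 2, 2, 0, 0, 1], [1, 1, 2, 2, 0, 0], [0, 1, 1, 2, 2, 0]],
  [[0, 0, 1, 2, 1, 2], [2, 0, 0, 1, 2, 1], [1, 2, 0, 0, 1, 2], [2, 1, 2, 0, 0, 1], [1, 2, 1, 2, 0, 0], [0, 1, 2, 1, 2, 0]],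
  [[0, 0, 1, 2, 2, 1], [1, 0, 0, 1, 2, 2], [2, 1, 0, 0, 1, 2], [2, 2, 1, 0, 0, 1], [1, 2, 2, 1, 0, 0], [0, 1, 2, 2, 1, 0]],
  [[0, 0, 2, 1, 1, 2], [2, 0, 0, 2, 1, 1], [1, 2, 0, 0, 2, 1], [1, 1, 2, 0, 0, 2], [2, 1, 1, 2, 0, 0], [0, 2, 1, 1, 2, 0]],
  [[0, 0, 2, 1, 2, 1], [1, 0, 0, 2, 1, 2], [2, 1, 0, 0, 2, 1], [1, 2, 1, 0, 0, 2], [2, 1, 2, 1, 0, 0], [0, 2, 1, 2, 1, 0]],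
  [[0, 0, 2, 2, 1, 1], [1, 0, 0, 2, 2, 1], [1, 1, 0, 0, 2, 2], [2, 1, 1, 0, 0, 2], [2, 2, 1, 1, 0, 0], [0, 2, 2, 1, 1, 0]],
  [[0, 1, 0, 1, 2, 2], [2, 0, 1, 0, 1, 2], [2, 2, 0, 1, 0, 1], [1, 2, 2, 0, 1, 0], [0, 1, 2, 2, 0, 1], [1, 0, 1, 2, 2, 0]],
  [[0, 1, 0, 2, 1, 2], [2, 0, 1, 0, 2, 1], [1, 2, 0, 1, 0, 2], [2, 1, 2, 0, 1, 0], [0, 2, 1, 2, 0, 1], [1, 0, 2, 1, 2, 0]],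
  [[0, 1, 0, 2, 2, 1], [1, 0, 1, 0, 2, 2], [2, 1, 0, 1, 0, 2], [2, 2, 1, 0, 1, 0], [0, 2, 2, 1, 0, 1], [1, 0, 2, 2, 1, 0]],
  [[0, 1, 1, 0, 2, 2], [2, 0, 1, 1, 0, 2], [2, 2, 0, 1, 1, 0], [0, 2, 2, 0, 1, 1], [1, 0, 2, 2, 0, 1], [1, 1, 0, 2, 2, 0]],
  [[0, 1, 1, 2, 0, 2], [2, 0, 1, 1, 2, 0], [0, 2, 0, 1, 1, 2], [2, 0, 2, 0, 1, 1], [1, 2, 0, 2, 0, 1], [1, 1, 2, 0, 2, 0]],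
  [[0, 1, 2, 0, 2, 1], [1, 0, 1, 2, 0, 2], [2, 1, 0, 1, 2, 0], [0, 2, 1, 0, 1, 2], [2, 0, 2, 1, 0, 1], [1, 2, 0, 2, 1, 0]],
  [[0, 1, 2, 1, 0, 2], [2, 0, 1, 2, 1, 0], [0, 2, 0, 1, 2, 1], [1, 0, 2, 0, 1, 2], [2, 1, 0, 2, 0, 1], [1, 2, 1, 0, 2, 0]],
  [[0, 2, 0, 2, 1, 1], [1, 0, 2, 0, 2, 1], [1, 1, 0, 2, 0, 2], [2, 1, 1, 0, 2, 0], [0, 2, 1, 1, 0, 2], [2, 0, 2, 1, 1, 0]],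
  [[0, 0, 0, 2, 2, 2], [2, 0, 0, 0, 2, 2], [2, 2, 0, 0, 0, 2], [2, 2, 2, 0, 0, 0], [0, 2, 2, 2, 0, 0], [0, 0, 2, 2, 2, 0]],
  [[0, 0, 2, 0, 2, 2], [2, 0, 0, 2, 0, 2], [2, 2, 0, 0, 2, 0], [0, 2, 2, 0, 0, 2], [2, 0, 2, 2, 0, 0], [0, 2, 0, 2, 2, 0]],
  [[0, 0, 2, 2, 0, 2], [2, 0, 0, 2, 2, 0], [0, 2, 0, 0, 2, 2], [2, 0, 2, 0, 0, 2], [2, 2, 0, 2, 0, 0], [0, 2, 2, 0, 2, 0]],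
  [[0, 1, 2, 0, 1, 2], [2, 0, 1, 2, 0, 1], [1, 2, 0, 1, 2, 0]],
  [[0, 2, 1, 0, 2, 1], [1, 0, 2, 1, 0, 2], [2, 1, 0, 2, 1, 0]],
  [[0, 0, 1, 1, 1, 1], [1, 0, 0, 1, 1, 1], [1, 1, 0, 0, 1, 1], [1, 1, 1, 0, 0, 1], [1, 1, 1, 1, 0, 0], [0, 1, 1, 1, 1, 0]],
  [[0, 1, 0, 1, 1, 1], [1, 0, 1, 0, 1, 1], [1, 1, 0, 1, 0, 1], [1, 1, 1, 0, 1, 0], [0, 1, 1, 1, 0, 1], [1, 0, 1, 1, 1, 0]],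
  [[0, 0, 0, 1, 1, 2], [2, 0, 0, 0, 1, 1], [1, 2, 0, 0, 0, 1], [1, 1, 2, 0, 0, 0], [0, 1, 1, 2, 0, 0], [0, 0, 1, 1, 2, 0]],
  [[0, 0, 0, 1, 2, 1], [1, 0, 0, 0, 1, 2], [2, 1, 0, 0, 0, 1], [1, 2, 1, 0, 0, 0], [0, 1, 2, 1, 0, 0], [0, 0, 1, 2, 1, 0]],
  [[0, 0, 0, 2, 1, 1], [1, 0, 0, 0, 2, 1], [1, 1, 0, 0, 0, 2], [2, 1, 1, 0, 0, 0], [0, 2, 1, 1, 0, 0], [0, 0, 2, 1, 1, 0]],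
  [[0, 0, 1, 0, 1, 2], [2, 0, 0, 1, 0, 1], [1, 2, 0, 0, 1, 0], [0, 1, 2, 0, 0, 1], [1, 0, 1, 2, 0, 0], [0, 1, 0, 1, 2, 0]],
  [[0, 0, 1, 0, 2, 1], [1, 0, 0, 1, 0, 2], [2, 1, 0, 0, 1, 0], [0, 2, 1, 0, 0, 1], [1, 0, 2, 1, 0, 0], [0, 1, 0, 2, 1, 0]],
  [[0, 0, 1, 1, 0, 2], [2, 0, 0, 1, 1, 0], [0, 2, 0, 0, 1, 1], [1, 0, 2, 0, 0, 1], [1, 1, 0, 2, 0, 0], [0, 1, 1, 0, 2, 0]],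
  [[0, 0, 1, 2, 0, 1], [1, 0, 0, 1, 2, 0], [0, 1, 0, 0, 1, 2], [2, 0, 1, 0, 0, 1], [1, 2, 0, 1, 0, 0], [0, 1, 2, 0, 1, 0]],
  [[0, 0, 2, 0, 1, 1], [1, 0, 0, 2, 0, 1], [1, 1, 0, 0, 2, 0], [0, 1, 1, 0, 0, 2], [2, 0, 1, 1, 0, 0], [0, 2, 0, 1, 1, 0]],
  [[0, 0, 2, 1, 0, 1], [1, 0, 0, 2, 1, 0], [0, 1, 0, 0, 2, 1], [1, 0, 1, 0, 0, 2], [2, 1, 0, 1, 0, 0], [0, 2, 1, 0, 1, 0]],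
  [[0, 1, 0, 1, 0, 2], [2, 0, 1, 0, 1, 0], [0, 2, 0, 1, 0, 1], [1, 0, 2, 0, 1, 0], [0, 1, 0, 2, 0, 1], [1, 0, 1, 0, 2, 0]],
  [[1, 1, 1, 1, 1, 1]],
  [[0, 0, 0, 0, 2, 2], [2, 0, 0, 0, 0, 2], [2, 2, 0, 0, 0, 0], [0, 2, 2, 0, 0, 0], [0, 0, 2, 2, 0, 0], [0, 0, 0, 2, 2, 0]],
  [[0, 0, 0, 2, 0, 2], [2, 0, 0, 0, 2, 0], [0, 2, 0, 0, 0, 2], [2, 0, 2, 0, 0, 0], [0, 2, 0, 2, 0, 0], [0, 0, 2, 0, 2, 0]],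
  [[0, 2, 0, 2, 0, 2], [2, 0, 2, 0, 2, 0]],
  [[0, 1, 1, 0, 1, 1], [1, 0, 1, 1, 0, 1], [1, 1, 0, 1, 1, 0]],
  [[0, 0, 2, 0, 0, 2], [2, 0, 0, 2, 0, 0], [0, 2, 0, 0, 2, 0]],
  [[0, 0, 0, 0, 1, 1], [1, 0, 0, 0, 0, 1], [1, 1, 0, 0, 0, 0], [0, 1, 1, 0, 0, 0], [0, 0, 1, 1, 0, 0], [0, 0, 0, 1, 1, 0]],
  [[0, 0, 0, 1, 0, 1], [1, 0, 0, 0, 1, 0], [0, 1, 0, 0, 0, 1], [1, 0, 1, 0, 0, 0], [0, 1, 0, 1, 0, 0], [0, 0, 1, 0, 1, 0]],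
  [[0, 0, 0, 0, 0, 2], [2, 0, 0, 0, 0, 0], [0, 2, 0, 0, 0, 0], [0, 0, 2, 0, 0, 0], [0, 0, 0, 2, 0, 0], [0, 0, 0, 0, 2, 0]],
  [[0, 0, 1, 0, 0, 1], [1, 0, 0, 1, 0, 0], [0, 1, 0, 0, 1, 0]],
  [[0, 0, 0, 0, 0, 0]]]

/-- For length five: dimension and number of odd classes of the involution. -/
def orbits5 : List (ℕ × ℕ × ℕ) := [(243, 122, 0),
  (240, 120, 0),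
  (180, 90, 0),
  (180, 90, 0),
  (180, 90, 0),
  (180, 90, 0),
  (180, 90, 0),
  (180, 90, 0),
  (135, 70, 0),
  (135, 70, 0),
  (80, 40, 0),
  (60, 30, 0),
  (60, 30, 0),
  (60, 30, 0),
  (60, 30, 0),
  (60, 30, 0),
  (60, 30, 0),
  (45, 20, 0),
  (45, 20, 0),
  (20, 10, 0),
  (20, 10, 0),
  (15, 10, 0)]

end Cfsg.Agent.Chevalley.NoSub.Tables
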