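import Cfsg.Agent.Chevalley.NoSub.Alcove
import Cfsg.Agent.Chevalley.NoSub.CheckDefs

/-!
Spectra of alcove points in terms of the tabulated lists of positive roots, and the soundness of
the searches.
-/

set_option autoImplicit false
set_option linter.style.haveILetI false
set_option linter.unusedSectionVars false
set_option maxRecDepth 100000
set_option maxHeartbeats 1000000

namespace Cfsg.Agent.Chevalley.NoSub

open Cfsg.Lie Walk Tables Checks

/-- Integral dot product. -/
def dotZ : List ℤ → List ℤ → ℤ
  | a :: as, b :: bs => a * b + dotZ as bs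
  | _, _ => 0

theorem dotZ_cast : ∀ r vl : List ℕ,
    dotZ (r.map ((↑) : ℕ → ℤ)) (vl.map (↑)) = ((dot r vl : ℕ) : ℤ)
  | [], _ => by simp [dotZ, dot]
  | _ :: _, [] => by simp [dotZ, dot]
  | a :: r, b :: vl => by simp [dotZ, dot, dotZ_cast r vl]

theorem dotZ_neg : ∀ r vl : List ℤ, dotZ (r.map Neg.neg) vl = - dotZ r vl
  | [], _ => by simp [dotZ]
  | _ :: _, [] => by simp [dotZ]
  | a :: r, b :: vl => by simp [dotZ, dotZ_neg r vl]; ring

/-- The coordinates of the roots in an order. -/
noncomputable def rowsZ (ord : List ℕ) : List (List ℤ) :=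
  (List.range 240).map fun s => ord.map fun j => E8.cert.cf s j

/-- The positive and negative roots from a list of positive ones. -/
def signed (R : List (List ℕ)) : List (List ℤ) :=
  R.map (fun r => r.map ((↑) : ℕ → ℤ)) ++ R.map fun r => (r.map ((↑) : ℕ → ℤ)).map Neg.neg

theorem rows26 : (rowsZ ord26).isPerm (signed roots26) = true := by decide +kernel

theorem rows73 : (rowsZ ord73).isPerm (signed roots73) = true := by decide +kernel

theorem lval_ord (ord : List ℕ) (hord : ord.Perm (List.range 8)) (u : Fin 8 → ℕ) (s : Fin chevE8.nroots) :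
    lval (fun j => (u j : ℤ)) (.inr s) =
      dotZ (ord.map fun j => E8.cert.cf s j)
        ((ord.map fun j => if h : j < 8 then u ⟨j, h⟩ else 0).map (↑)) := by
  have key : ∀ L : List ℕ, dotZ (L.map fun j => E8.cert.cf s j)
      ((L.map fun j => if h : j < 8 then u ⟨j, h⟩ else 0).map (↑)) =
        (L.map fun j => E8.cert.cf s j * ((if h : j < 8 then u ⟨j, h⟩ else 0 : ℕ) : ℤ)).sum := by
    intro L
    induction L with
    | nil => rfl
    | cons a L ih => simp only [List.map_cons, dotZ, List.sum_cons, ih]
  rw [key, (hord.map _).sum_eq, Cfsg.Agent.Chevalley.list_sum_range_map, Finset.sum_range]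
  simp only [lval, Chevalley.Cert.cfI_inr]
  exact Finset.sum_congr rfl fun j _ => by rw [dif_pos j.isLt]

theorem emod_toNat (l d : ℕ) : ((d : ℤ) % (l : ℤ)).toNat = d % l := by
  rw [← Int.natCast_emod, Int.toNat_natCast]

theorem neg_emod_toNat {l : ℕ} (hl : 0 < l) (d : ℕ) :
    ((-(d : ℤ)) % (l : ℤ)).toNat = (l - d % l) % l := by
  have hlt := Nat.mod_lt d hl
  have e : (-(d : ℤ)) % (l : ℤ) = ((l - d % l : ℕ) : ℤ) % (l : ℤ) := by
    refine Int.emod_eq_emod_iff_emod_sub_eq_zero.2 (Int.emod_eq_zero_of_dvd ⟨-((d / l : ℕ) : ℤ) - 1, ?_⟩)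
    have h := Nat.mod_add_div d l
    have h' : ((d % l : ℕ) : ℤ) + (l : ℤ) * ((d / l : ℕ) : ℤ) = d := by exact_mod_cast h
    rw [Nat.cast_sub hlt.le]
    linarith
  rw [e, emod_toNat]

/-- The spectrum of an alcove point through the list of positive roots. -/
theorem wsum_eq_list {l : ℕ} (hl : 0 < l) (W : ℕ → ℕ) (u : Fin 8 → ℕ) {ord : List ℕ}
    {R : List (List ℕ)} (hord : ord.Perm (List.range 8)) (hR : (rowsZ ord).Perm (signed R)) :
    wsum l W (fun j => (u j : ℤ)) = 8 * W 0 + ((R.map fun r =>
      W (dot r (ord.map fun j => if h : j < 8 then u ⟨j, h⟩ else 0) % l) +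
        W ((l - dot r (ord.map fun j => if h : j < 8 then u ⟨j, h⟩ else 0) % l) % l))).sum := by
  set vl := ord.map fun j => if h : j < 8 then u ⟨j, h⟩ else 0 with hvl
  unfold wsum
  rw [Fintype.sum_sum_type]
  refine congrArg₂ (· + ·) ?_ ?_
  · simp [kap, Chevalley.Cert.cfI]; exact Or.inl rfl
  · have h1 : ∀ s : Fin chevE8.nroots, W (kap l (fun j => (u j : ℤ)) (.inr s))
        = (fun row : List ℤ => W ((dotZ row (vl.map (↑)) % (l : ℤ)).toNat))
            (ord.map fun j => E8.cert.cf s j) := by
      intro s
      show W ((lval (fun j => (u j : ℤ)) (.inr s) % (l : ℤ)).toNat) = _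
      rw [lval_ord ord hord u s]
    set G : List ℤ → ℕ := fun row => W ((dotZ row (vl.map (↑)) % (l : ℤ)).toNat) with hG
    have h3 : ∀ f : ℕ → List ℤ, (∑ s : Fin chevE8.nroots, G (f s))
        = (((List.range chevE8.nroots).map f).map G).sum := by
      intro f
      rw [List.map_map, Cfsg.Agent.Chevalley.list_sum_range_map, Finset.sum_range]
      exact Finset.sum_congr rfl fun s _ => rfl
    rw [Finset.sum_congr rfl (fun s _ => h1 s), h3 (fun s => ord.map fun j => E8.cert.cf s j)]
    have e : ((List.range chevE8.nroots).map fun s => ord.map fun j => E8.cert.cf s j) = rowsZ ord := by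
      rw [show chevE8.nroots = 240 from rfl]
      rfl
    rw [e, (hR.map G).sum_eq]
    simp only [hG, signed, List.map_append, List.sum_append, List.map_map]
    rw [← List.sum_map_add]
    refine congrArg List.sum (List.map_congr_left fun r _ => ?_)
    simp only [Function.comp_apply]
    rw [← List.map_map, dotZ_neg, dotZ_cast, emod_toNat, neg_emod_toNat hl]

/-- Weighting by the folded classes. -/
def wfold (l k a : ℕ) : ℕ := 2 ^ (7 * min (a * k % l) (l - a * k % l))

theorem fold_neg {l : ℕ} (hl : 0 < l) (d : ℕ) :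
    wfold l 1 ((l - d % l) % l) = wfold l 1 (d % l) := by
  unfold wfold
  congr 2
  rw [Nat.mul_one, Nat.mul_one, Nat.mod_mod, Nat.mod_mod]
  rcases Nat.eq_zero_or_pos (d % l) with h | h
  · rw [h, Nat.sub_zero, Nat.mod_self, Nat.sub_zero]
  · rw [Nat.mod_eq_of_lt (show l - d % l < l by omega)]
    have := Nat.mod_lt d hl
    omega

/-- The class of a value. -/
def cls (l d : ℕ) : ℕ := min (d % l) (l - d % l)

theorem wsum_fold {l : ℕ} (hl : 0 < l) (u : Fin 8 → ℕ) {ord : List ℕ}
    {R : List (List ℕ)} (hord : ord.Perm (List.range 8)) (hR : (rowsZ ord).Perm (signed R)) :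
    wsum l (wfold l 1) (fun j => (u j : ℤ)) = 8 + 2 * hist ((R.map fun r =>
      dot r (ord.map fun j => if h : j < 8 then u ⟨j, h⟩ else 0)).map (cls l)) := by
  rw [wsum_eq_list hl _ u hord hR]
  have h0 : wfold l 1 0 = 1 := by simp [wfold]
  simp only [fold_neg hl, h0, mul_one, hist, List.map_map]
  congr 1
  rw [List.sum_map_add, ← two_mul]
  congr 1
  refine congrArg List.sum (List.map_congr_left fun r _ => ?_)
  simp [wfold, cls, Function.comp_apply, Nat.mod_mod]

theorem dot_le : ∀ r t vl : List ℕ, List.Forall₂ (· ≤ ·) r t → dot r vl ≤ dot t vl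
  | [], _, _, _ => by simp [dot]
  | a :: r, t, vl, h => by
    cases h with
    | @cons _ b _ t' hab hr =>
      cases vl with
      | nil => simp [dot]
      | cons c vl =>
        simp only [dot]
        exact Nat.add_le_add (Nat.mul_le_mul_right c hab) (dot_le r t' vl hr)

/-- Both tabulated searches are of this shape. -/
structure Setup (l w : ℕ) (ord : List ℕ) (R : List (List ℕ)) (L : List Level) : Prop where
  ord_perm : ord.Perm (List.range 8)
  rows : (rowsZ ord).Perm (signed R)
  ok : okLevels w 7 R L 0 0 = true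
  below : ∀ r ∈ R, List.Forall₂ (· ≤ ·) r (L.map Prod.fst)
  width : 7 * l < 2 ^ w
  len : L.length = 8
  card : R.length = 120
  top : L.map Prod.fst = ord.map fun j => [2, 3, 4, 6, 5, 4, 3, 2].getD j 0
  units : ∀ i < 8, ((List.range 8).map fun j => if j = i then 1 else 0) ∈ R

theorem below_of_check {R : List (List ℕ)} {t : List ℕ}
    (h : (R.all fun r => r.length == t.length && (r.zip t).all fun p => Nat.ble p.1 p.2) = true) :
    ∀ r ∈ R, List.Forall₂ (· ≤ ·) r t := by
  intro r hr
  simp only [List.all_eq_true, Bool.and_eq_true, beq_iff_eq, Nat.ble_eq] at h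
  obtain ⟨h1, h2⟩ := h r hr
  exact List.forall₂_iff_zip.2 ⟨h1, fun {a b} hab => h2 (a, b) hab⟩

theorem setup26 {l : ℕ} (hl : l ≤ 26) : Setup l 8 ord26 roots26 lev26 where
  ord_perm := List.isPerm_iff.1 (by decide +kernel)
  rows := List.isPerm_iff.1 rows26
  ok := by decide +kernel
  below := below_of_check (by decide +kernel)
  width := by omega
  len := rfl
  card := rfl
  top := by decide +kernel
  units := by decide +kernel

theorem setup73 : Setup 73 9 ord73 roots73 lev73 where
  ord_perm := List.isPerm_iff.1 (by decide +kernel)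
  rows := List.isPerm_iff.1 rows73
  ok := by decide +kernel
  below := below_of_check (by decide +kernel)
  width := by norm_num
  len := rfl
  card := rfl
  top := by decide +kernel
  units := by decide +kernel

theorem pk_zero (w : ℕ) : ∀ R : List (List ℕ), pk w (R.map fun _ => 0) = 0
  | [] => rfl
  | _ :: R => by rw [List.map_cons, pk, pk_zero w R, Nat.mul_zero]

variable {l w : ℕ} {ord : List ℕ} {R : List (List ℕ)} {L : List Level}

theorem Setup.budget (h : Setup l w ord R L) (u : Fin 8 → ℕ)
    (hu : ∑ m, topRoot m * (u m : ℤ) ≤ l) :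
    dot (L.map Prod.fst) (ord.map fun j => if hj : j < 8 then u ⟨j, hj⟩ else 0) ≤ l := by
  have key : ∀ O : List ℕ, dot (O.map fun j => [2, 3, 4, 6, 5, 4, 3, 2].getD j 0)
      (O.map fun j => if hj : j < 8 then u ⟨j, hj⟩ else 0) =
        (O.map fun j => [2, 3, 4, 6, 5, 4, 3, 2].getD j 0 * if hj : j < 8 then u ⟨j, hj⟩ else 0).sum := by
    intro O
    induction O with
    | nil => rfl
    | cons a O ih => simp only [List.map_cons, dot, List.sum_cons, ih]
  rw [h.top, key, (h.ord_perm.map _).sum_eq, Cfsg.Agent.Chevalley.list_sum_range_map,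
    Finset.sum_range]
  have e : ((∑ x : Fin 8, [2, 3, 4, 6, 5, 4, 3, 2].getD x.val 0 *
      if hj : x.val < 8 then u ⟨x.val, hj⟩ else 0 : ℕ) : ℤ) = ∑ m, topRoot m * (u m : ℤ) := by
    simp [Fin.sum_univ_eight, topRoot]
  exact_mod_cast e.trans_le hu

theorem Setup.value_le (h : Setup l w ord R L) {vl : List ℕ} (hvl : dot (L.map Prod.fst) vl ≤ l)
    {r : List ℕ} (hr : r ∈ R) : dot r vl ≤ l :=
  (dot_le r _ vl (h.below r hr)).trans hvl

theorem dot_unit : ∀ (n i : ℕ) (vl : List ℕ), vl.length = n → i < n →
    dot ((List.range n).map fun j => if j = i then 1 else 0) vl = vl.getD i 0 := by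
  intro n
  induction n with
  | zero => intro i vl _ hi; omega
  | succ n ih =>
    intro i vl hlen hi
    cases vl with
    | nil => simp at hlen
    | cons a vl =>
      rw [List.range_succ_eq_map, List.map_cons, List.map_map]
      cases i with
      | zero =>
        simp only [dot, if_true, one_mul, List.getD_cons_zero]
        rw [dot_of_zero _ _ (fun x hx => by
          simp only [List.mem_map, Function.comp_apply] at hx
          obtain ⟨j, -, rfl⟩ := hx
          simp)]
        simp
      | succ i =>
        simp only [dot, if_neg (Nat.succ_ne_zero i).symm, zero_mul, zero_add, List.getD_cons_succ]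
        rw [show ((List.range n).map ((fun j => if j = i + 1 then 1 else 0) ∘ Nat.succ))
          = (List.range n).map fun j => if j = i then 1 else 0 from
          List.map_congr_left fun j _ => by simp]
        exact ih i vl (by simpa using hlen) (by omega)

theorem mem_cands {n S a : ℕ} (ha : a < n) (h : a = 0 ∨ fld 127 S (7 * a) ≠ 0) : a ∈ Checks.cands n S := by
  refine List.mem_filter.2 ⟨List.mem_range.2 ha, ?_⟩
  rcases h with rfl | h
  · simp
  · have e : fld 127 S (7 * a) = S / 2 ^ (7 * a) % 128 := by
      show (S >>> (7 * a)) &&& (2 ^ 7 - 1) = _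
      rw [Nat.and_two_pow_sub_one_eq_mod, Nat.shiftRight_eq_div_pow]
    rw [e] at h
    simp [h]

theorem getD_mul_le_dot : ∀ (t vl : List ℕ) (i : ℕ), t.getD i 0 * vl.getD i 0 ≤ dot t vl
  | [], vl, i => by simp
  | _ :: _, [], i => by simp
  | a :: t, b :: vl, 0 => by simp [dot]
  | a :: t, b :: vl, i + 1 => by
    simp only [List.getD_cons_succ, dot]
    exact le_trans (getD_mul_le_dot t vl i) (Nat.le_add_left _ _)

/-- A refuted capacity is the spectrum of no alcove point. -/
theorem Setup.no_point (h : Setup l w ord R L) {g : ℕ → ℕ} (hg : ∀ d, d ≤ l → g (7 * d) = 7 * cls l d)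
    {n S : ℕ} (hn : l / 2 < n)
    (hS : search (fun V shs S k => eat g (2 ^ w - 1) V shs S k) (fun _ => false) (Checks.cands n S) L 0 l S = true)
    (u : Fin 8 → ℕ) (hu : ∑ m, topRoot m * (u m : ℤ) ≤ l)
    (hh : hist ((R.map fun r => dot r (ord.map fun j => if hj : j < 8 then u ⟨j, hj⟩ else 0)).map (cls l)) = S) :
    False := by
  set vl := ord.map fun j => if hj : j < 8 then u ⟨j, hj⟩ else 0 with hvl
  have hb := h.budget u hu
  rw [← hvl] at hb
  have hlen : vl.length = 8 := by rw [hvl, List.length_map, h.ord_perm.length_eq, List.length_range]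
  let state : ℕ → ℕ := fun st => hist (((R.drop st).map fun r => dot r vl).map (cls l))
  have hcand : ∀ a ∈ vl, a ∈ Checks.cands n S := by
    intro a ha
    obtain ⟨i, hi, rfl⟩ := List.mem_iff_getElem.1 ha
    have hmem := h.units i (hlen ▸ hi)
    have hval : dot ((List.range 8).map fun j => if j = i then 1 else 0) vl = vl[i] := by
      rw [dot_unit 8 i vl hlen (hlen ▸ hi), List.getD_eq_getElem?_getD, List.getElem?_eq_getElem hi,
        Option.getD_some]
    have h2 : 2 * vl[i] ≤ l := by
      have ht : ∀ t, (L.map Prod.fst).getD i 0 = t → 2 ≤ t := by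
        rintro t rfl
        rw [h.top, List.getD_eq_getElem?_getD, List.getElem?_map, List.getElem?_eq_getElem
          (show i < ord.length by rw [h.ord_perm.length_eq, List.length_range]; omega)]
        have hj : ord[i]'(by rw [h.ord_perm.length_eq, List.length_range]; omega) < 8 :=
          List.mem_range.1 (h.ord_perm.mem_iff.1 (List.getElem_mem _))
        simp only [Option.map_some, Option.getD_some]
        generalize ord[i]'_ = j at hj ⊢
        interval_cases j <;> simp
      have h3 : (L.map Prod.fst).getD i 0 * vl[i] ≤ l := by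
        refine le_trans ?_ hb
        have h4 := getD_mul_le_dot (L.map Prod.fst) vl i
        rwa [List.getD_eq_getElem _ _ hi] at h4
      exact le_trans (Nat.mul_le_mul_right _ (ht _ rfl)) h3
    refine mem_cands (by omega) (Or.inr ?_)
    rw [← hh]
    have hc : cls l vl[i] = vl[i] := by
      rcases Nat.eq_zero_or_pos l with rfl | hl
      · simp at h2; simp [cls, h2]
      · have : vl[i] % l = vl[i] := Nat.mod_eq_of_lt (by omega)
        simp only [cls, this]; omega
    rw [fld_hist (by simp [h.card])]
    refine List.count_pos_iff.2 ?_ |>.ne'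
    exact List.mem_map.2 ⟨vl[i], List.mem_map.2 ⟨_, hmem, hval⟩, hc⟩
  have hstate : state 0 = S := by simp only [state, List.drop_zero]; exact hh
  have hp : (Checks.cands n S).Pairwise (· < ·) := List.pairwise_lt_range.filter _
  have := search_sound (op := fun V shs S k => eat g (2 ^ w - 1) V shs S k) (leaf := fun _ => false)
    hp vl (fun r hr => lt_of_le_of_lt (Nat.mul_le_mul_left 7 (h.value_le hb hr)) h.width) hcand state
    ?_ L [] vl 0 l (by simp) (by rw [hlen, h.len]) h.ok hb
    (by
      rw [show pk w (R.map fun r => 7 * dot r []) = 0 from ?_, hstate]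
      · exact hS
      · simp only [dot_nil, Nat.mul_zero, pk_zero])
  · exact Bool.false_ne_true this
  intro V S' shs st k hst hvals hS' hop
  subst hS'
  have hxs : shs.map (fun sh => g (fld (2 ^ w - 1) V sh))
      = (((R.drop st).take shs.length).map fun r => dot r vl).map (fun d => 7 * cls l d) := by
    rw [show (fun sh => g (fld (2 ^ w - 1) V sh)) = g ∘ (fun sh => fld (2 ^ w - 1) V sh) from rfl,
      ← List.map_map, hvals, List.map_map, List.map_map]
    refine List.map_congr_left fun r hr => ?_
    exact hg _ (h.value_le hb (List.mem_of_mem_drop (List.mem_of_mem_take hr)))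
  have hsplit : (R.drop st).map (fun r => dot r vl)
      = (((R.drop st).take shs.length).map fun r => dot r vl) ++ ((R.drop (st + shs.length)).map fun r => dot r vl) := by
    rw [← List.map_append, ← List.drop_drop, List.take_append_drop]
  refine eat_sound g _ V (cls := cls l) shs _ _ k hxs ?_ ?_
  · rw [← hsplit]; simp [h.card]; omega
  · rw [← hsplit]; exact hop

/-- The walk through the alcove of order thirteen. -/
theorem walk13_sound (hw : walk13 (List.range 14) = true) (u : Fin 8 → ℕ)
    (hu : ∑ m, topRoot m * (u m : ℤ) ≤ (13 : ℕ)) :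
    leaf13 (hist (roots26.map fun r => dot r (ord26.map fun j => if hj : j < 8 then u ⟨j, hj⟩ else 0))) = true := by
  have h := setup26 (l := 13) (by norm_num)
  set vl := ord26.map fun j => if hj : j < 8 then u ⟨j, hj⟩ else 0 with hvl
  have hb := h.budget u hu
  rw [← hvl] at hb
  have hlen : vl.length = 8 := by rw [hvl, List.length_map, h.ord_perm.length_eq, List.length_range]
  have hcand : ∀ a ∈ vl, a ∈ List.range 14 := by
    intro a ha
    obtain ⟨i, hi, rfl⟩ := List.mem_iff_getElem.1 ha
    have h2 := h.value_le hb (h.units i (hlen ▸ hi))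
    rw [dot_unit 8 i vl hlen (hlen ▸ hi), List.getD_eq_getElem?_getD, List.getElem?_eq_getElem hi,
      Option.getD_some] at h2
    exact List.mem_range.2 (by omega)
  let state : ℕ → ℕ := fun st => hist ((roots26.take st).map fun r => dot r vl)
  have h0 : pk 8 (roots26.map fun r => 7 * dot r []) = 0 := by
    simp only [dot_nil, Nat.mul_zero]
    decide +kernel
  have := search_sound (op := fun V shs S k => add 255 V shs S k) (leaf := leaf13) (w := 8) (mult := 7)
    (R := roots26) List.pairwise_lt_range vl
    (fun r hr => lt_of_le_of_lt (Nat.mul_le_mul_left 7 (h.value_le hb hr)) h.width) hcand state ?_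
    lev26 [] vl 0 13 (by simp) (by rw [hlen, h.len]) h.ok hb
    (by rw [h0, show state 0 = 0 from by simp [state, hist]]; exact hw)
  · simpa only [state, List.take_of_length_le (le_refl _)] using this
  intro V S' shs st k hst hvals hS' hop
  subst hS'
  show k (hist ((roots26.take (st + shs.length)).map fun r => dot r vl)) = true
  rw [List.take_add, List.map_append]
  exact add_sound _ V shs _ _ k (by rw [List.map_map]; exact hvals) hop

end Cfsg.Agent.Chevalley.NoSub
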