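import Cfsg.Agent.Chevalley.NoSub.SL2Eigen
import Cfsg.Agent.Chevalley.NoSub.Points
import Cfsg.Agent.Chevalley.NoSub.OrbitData

/-!
The contributions of the orbits of simple modules, and the soundness of the search over
multiplicities.
-/

set_option autoImplicit false

namespace Cfsg.Agent.Chevalley.NoSub

open Walk Tables Checks

/-- All vectors of digits of a given length, as lists. -/
def allVecs : ℕ → List (List ℕ)
  | 0 => [[]]
  | n + 1 => (List.range 3).flatMap fun a => (allVecs n).map fun r => a :: r

/-- The vector given by a list. -/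
def toVec (n : ℕ) (sl : List ℕ) : Fin n → Fin 3 :=
  fun i => ⟨sl.getD i.val 0 % 3, Nat.mod_lt _ (by norm_num)⟩

/-- A vector as a list. -/
def ofVec {n : ℕ} (s : Fin n → Fin 3) : List ℕ := List.ofFn fun i => (s i).val

/-- Each member of the list is the rotation of the one before it. -/
def chainOK (n : ℕ) : List (List ℕ) → Bool
  | a :: b :: r => (ofVec (shift (toVec n a)) == b) && chainOK n (b :: r)
  | _ => true

/-- The contribution of an orbit to a weighting. -/
def orbVal (l : ℕ) (W : ℕ → ℕ) (o : List (List ℕ)) : ℕ := (o.map (packS l W)).sum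

/-- The dimension of an orbit. -/
def orbDim (o : List (List ℕ)) : ℕ := (o.map fun sl => (valsJ sl).length).sum

/-- The five packed weightings of an orbit. -/
def entryB (o : List (List ℕ)) : ℕ :=
  orbVal 26 (wfold 26 1) o + 2 ^ 120 * orbVal 26 (wfold 26 5) o + 2 ^ 240 * orbVal 73 (wfold 73 2) o
    + 2 ^ 520 * orbVal 73 (wfold 73 5) o + 2 ^ 800 * orbVal 73 (wfold 73 7) o

/-- The line of the table of an orbit. -/
def entry (o : List (List ℕ)) : ℕ × ℕ × ℕ :=
  (orbDim o, orbVal 2 id o + 512 * orbVal 13 (wfold 13 1) o, entryB o)

/-- The line of the table of an orbit for vectors of length five. -/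
def entry5 (o : List (List ℕ)) : ℕ × ℕ × ℕ := (orbDim o, orbVal 2 id o, 0)

/-- The nontrivial orbits of dimension at most 248. -/
def smallOrbs (Z : List (List (List ℕ))) : List (List (List ℕ)) :=
  Z.dropLast.filter fun o => Nat.ble (orbDim o) 248

/-- The test at the end of the search for length five. -/
noncomputable def leaf5 (_ A _ : ℕ) : Bool := !(sigs2.any fun T => Nat.beq A T)

end Cfsg.Agent.Chevalley.NoSub
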