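import Cfsg.Agent.Chevalley.NoSub.OrbitDefs

/-!
Sums over orbits, and soundness of the search over multiplicities.
-/

set_option autoImplicit false
set_option linter.unusedSectionVars false

namespace Cfsg.Agent.Chevalley.NoSub

open Walk Tables Checks

theorem sweep_sound {d p q : ℕ} {next : ℕ → ℕ → ℕ → Bool} : ∀ (fuel r A B : ℕ),
    sweep d p q next fuel r A B = true → ∀ j ≤ fuel, j * d ≤ r →
      next (r - j * d) (A + j * p) (B + j * q) = true := by
  intro fuel
  induction fuel with
  | zero =>
    intro r A B h j hj _
    obtain rfl : j = 0 := Nat.le_zero.1 hj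
    have h' : next r A B = true := h
    simpa using h'
  | succ fuel ih =>
    intro r A B h j hj hd
    change (next r A B && (bif Nat.ble d r then force (r - d) fun r' => force (A + p) fun A' =>
      sweep d p q next fuel r' A' (B + q) else true)) = true at h
    rw [Bool.and_eq_true] at h
    cases j with
    | zero => simpa using h.1
    | succ j =>
      rw [Nat.succ_mul] at hd
      have h2 := h.2
      rw [Nat.ble_eq_true_of_le (show d ≤ r by omega)] at h2
      simp only [cond_true, force_eq] at h2
      have := ih _ _ _ h2 j (by omega) (by omega)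
      rw [show r - (j + 1) * d = r - d - j * d by rw [Nat.succ_mul]; omega,
        show A + (j + 1) * p = A + p + j * p by ring, show B + (j + 1) * q = B + q + j * q by ring]
      exact this

theorem comb_sound {α : Type*} {leaf : ℕ → ℕ → ℕ → Bool} (e : α → ℕ × ℕ × ℕ) (f : α → ℕ) :
    ∀ (Z : List α), (∀ z ∈ Z, 0 < (e z).1) → ∀ r A B : ℕ, comb leaf (Z.map e) r A B = true →
      (Z.map fun z => f z * (e z).1).sum ≤ r →
      leaf (r - (Z.map fun z => f z * (e z).1).sum) (A + (Z.map fun z => f z * (e z).2.1).sum)
        (B + (Z.map fun z => f z * (e z).2.2).sum) = true := by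
  intro Z
  induction Z with
  | nil =>
    intro _ r A B h _
    have h' : leaf r A B = true := h
    simpa using h'
  | cons z Z ih =>
    intro hpos r A B h hle
    change (force (r / (e z).1) fun F => sweep (e z).1 (e z).2.1 (e z).2.2 (comb leaf (Z.map e)) F r A B)
      = true at h
    rw [force_eq] at h
    simp only [List.map_cons, List.sum_cons] at hle ⊢
    have hz : f z * (e z).1 ≤ r := by omega
    have h2 := sweep_sound _ r A B h (f z) ((Nat.le_div_iff_mul_le (hpos z (by simp))).2 hz) hz
    have := ih (fun y hy => hpos y (by simp [hy])) _ _ _ h2 (by omega)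
    rw [Nat.sub_add_eq, ← Nat.add_assoc, ← Nat.add_assoc]
    exact this

theorem sum_map_lin {α : Type*} (f a b : α → ℕ) (K : ℕ) : ∀ Z : List α,
    (Z.map fun z => f z * (a z + K * b z)).sum =
      (Z.map fun z => f z * a z).sum + K * (Z.map fun z => f z * b z).sum
  | [] => by simp
  | z :: Z => by simp [sum_map_lin f a b K Z]; ring

theorem toVec_ofVec {n : ℕ} (s : Fin n → Fin 3) : toVec n (ofVec s) = s := by
  funext i
  apply Fin.ext
  simp [toVec, ofVec, List.getD_eq_getElem?_getD, Nat.mod_eq_of_lt (s i).isLt]

theorem sum_allVecs : ∀ {n : ℕ} (g : List ℕ → ℕ),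
    ∑ s : Fin n → Fin 3, g (ofVec s) = ((allVecs n).map g).sum := by
  intro n
  induction n with
  | zero => intro g; simp [allVecs, ofVec]
  | succ n ih =>
    intro g
    rw [← (Fin.consEquiv fun _ : Fin (n + 1) => Fin 3).sum_comp, Fintype.sum_prod_type, allVecs,
      List.map_flatMap, List.flatMap_def, List.sum_flatten, List.map_map, sum_range_list,
      Finset.sum_range]
    refine Finset.sum_congr rfl fun a _ => ?_
    simp only [Function.comp_apply, List.map_map]
    rw [← ih]
    refine Finset.sum_congr rfl fun s _ => ?_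
    simp [ofVec, List.ofFn_succ]

theorem count_ofVec : ∀ {n : ℕ} (s : Fin n → Fin 3), (ofVec s).count 1 = ones s := by
  intro n
  induction n with
  | zero => intro s; simp [ofVec, ones]
  | succ n ih =>
    intro s
    have e : ofVec s = (s 0).val :: ofVec (fun i => s i.succ) := by simp [ofVec, List.ofFn_succ]
    rw [e, List.count_cons, ih]
    simp only [ones, Fin.card_filter_univ_succ]
    by_cases h : (s 0).val = 1 <;> simp [h, Nat.add_comm]

theorem chain_const {n : ℕ} {c : (Fin n → Fin 3) → ℕ} (hc : ∀ s, c (shift s) = c s) :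
    ∀ o : List (List ℕ), chainOK n o = true → ∀ sl ∈ o, c (toVec n sl) = c (toVec n o.headI) := by
  intro o
  induction o with
  | nil => intro _ sl h; simp at h
  | cons a r ih =>
    intro h sl hsl
    cases r with
    | nil => simp only [List.mem_singleton] at hsl; subst hsl; rfl
    | cons b r =>
      simp only [chainOK, Bool.and_eq_true, beq_iff_eq] at h
      rcases List.mem_cons.1 hsl with rfl | hsl
      · rfl
      · rw [ih h.2 sl hsl]
        show c (toVec n b) = c (toVec n a)
        rw [← h.1, toVec_ofVec, hc]

variable {n : ℕ} {c : (Fin n → Fin 3) → ℕ}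

theorem orbit_sum (hc : ∀ s, c (shift s) = c s) (hodd : ∀ s, Odd (ones s) → c s = 0)
    {Z : List (List (List ℕ))}
    (hperm : Z.flatten.isPerm ((allVecs n).filter fun sl => sl.count 1 % 2 == 0) = true)
    (hchain : Z.all (chainOK n) = true) (F : List ℕ → ℕ) :
    ∑ s, c s * F (ofVec s) = (Z.map fun o => c (toVec n o.headI) * (o.map F).sum).sum := by
  have h1 : ∀ s, c s * F (ofVec s) = (fun sl : List ℕ =>
      if sl.count 1 % 2 == 0 then c (toVec n sl) * F sl else 0) (ofVec s) := fun s => by
    simp only [toVec_ofVec, count_ofVec, beq_iff_eq]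
    split
    · rfl
    · next h => rw [hodd s (Nat.odd_iff.2 (by omega)), Nat.zero_mul]
  rw [Finset.sum_congr rfl fun s _ => h1 s, sum_allVecs (fun sl : List ℕ =>
      if sl.count 1 % 2 == 0 then c (toVec n sl) * F sl else 0), List.sum_map_ite]
  simp only [List.map_const', List.sum_replicate, smul_zero, Nat.add_zero, Bool.decide_eq_true]
  rw [← (((List.isPerm_iff.1 hperm)).map fun sl => c (toVec n sl) * F sl).sum_eq, List.map_flatten,
    List.sum_flatten, List.map_map]
  refine congrArg List.sum (List.map_congr_left fun o ho => ?_)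
  simp only [List.all_eq_true] at hchain
  simp only [Function.comp_apply]
  rw [List.map_congr_left fun sl hsl => by rw [chain_const hc o (hchain o ho) sl hsl],
    List.sum_map_mul_left]

theorem sum_map_filter_zero {α : Type*} (p : α → Bool) (g : α → ℕ) : ∀ Z : List α,
    (∀ z ∈ Z, p z = false → g z = 0) → (Z.map g).sum = ((Z.filter p).map g).sum
  | [], _ => rfl
  | z :: Z, h => by
    have ih := sum_map_filter_zero p g Z fun y hy => h y (by simp [hy])
    cases hz : p z
    · simp [hz, h z (by simp) hz, ih]
    · simp [hz, ih]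

/-- The sums over all vectors through the small orbits and the trivial vector. -/
theorem small_sum (hc : ∀ s, c (shift s) = c s) (hodd : ∀ s, Odd (ones s) → c s = 0)
    {Z : List (List (List ℕ))} {t : List ℕ}
    (hperm : Z.flatten.isPerm ((allVecs n).filter fun sl => sl.count 1 % 2 == 0) = true)
    (hchain : Z.all (chainOK n) = true) (hlast : Z = Z.dropLast ++ [[t]])
    (hdim : ∑ s, c s * (valsJ (ofVec s)).length = 248) (F : List ℕ → ℕ) :
    ∑ s, c s * F (ofVec s) = ((smallOrbs Z).map fun o => c (toVec n o.headI) * (o.map F).sum).sum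
      + c (toVec n t) * F t := by
  have key : ∀ o ∈ Z.dropLast, Nat.ble (orbDim o) 248 = false → c (toVec n o.headI) = 0 := by
    intro o ho hbig
    by_contra hne
    have hle : c (toVec n o.headI) * orbDim o ≤ 248 := by
      rw [← hdim, orbit_sum hc hodd hperm hchain fun sl => (valsJ sl).length]
      exact List.le_sum_of_mem (List.mem_map.2 ⟨o, List.dropLast_subset _ ho, rfl⟩)
    have : orbDim o ≤ 248 := le_trans (Nat.le_mul_of_pos_left _ (Nat.pos_of_ne_zero hne)) hle
    rw [Nat.ble_eq_true_of_le this] at hbig
    exact Bool.noConfusion hbig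
  rw [orbit_sum hc hodd hperm hchain F]
  conv_lhs => rw [hlast]
  rw [List.map_append, List.sum_append, sum_map_filter_zero (fun o => Nat.ble (orbDim o) 248) _
    Z.dropLast fun o ho hbig => by simp [key o ho hbig]]
  simp [smallOrbs]

end Cfsg.Agent.Chevalley.NoSub
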