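import Cfsg.Agent.Chevalley.NoSub.SL2Mult
import Cfsg.Agent.Chevalley.NoSub.Idem

/-!
The eigenvalue multiplicities of semisimple elements in the twisted tensor products.
-/

set_option linter.style.haveILetI false
set_option linter.unusedSectionVars false
set_option autoImplicit false

namespace Cfsg.Agent.Chevalley.NoSub

open MonoidAlgebra
open scoped Matrix

/-- The values `∑ 3^i J_i` over the index set, as a list. -/
def valsJ : List ℕ → List ℕ
  | [] => [0]
  | s :: r => (List.range (s + 1)).flatMap fun a => (valsJ r).map fun x => a + 3 * x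

/-- The packed spectrum of the element in one tensor product. -/
def packS (l : ℕ) (W : ℕ → ℕ) (sl : List ℕ) : ℕ :=
  ((valsJ sl).map fun x => W ((sl.foldr (fun a t => a + 3 * t) 0 / 2 + (l - 1) * x) % l)).sum

theorem sum_range_list {M : Type*} [AddCommMonoid M] (m : ℕ) (f : ℕ → M) :
    ((List.range m).map f).sum = ∑ i ∈ Finset.range m, f i := rfl

theorem sum_valsJ : ∀ {n : ℕ} (s : Fin n → Fin 3) (f : ℕ → ℕ),
    ((valsJ (List.ofFn fun i => (s i).val)).map f).sum =
      ∑ J : Idx s, f (∑ i, (J i).val * 3 ^ i.val) := by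
  intro n
  induction n with
  | zero => intro s f; simp [valsJ]
  | succ n ih =>
    intro s f
    rw [List.ofFn_succ, valsJ, ← (Fin.consEquiv fun i => Fin ((s i).val + 1)).sum_comp,
      Fintype.sum_prod_type]
    simp only [List.map_flatMap, List.map_map]
    rw [List.flatMap_def, List.sum_flatten, List.map_map, sum_range_list, Finset.sum_range]
    refine Finset.sum_congr rfl fun a _ => ?_
    simp only [Function.comp_apply]
    rw [ih]
    refine Finset.sum_congr rfl fun J _ => ?_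
    simp only [Function.comp_apply, Fin.sum_univ_succ, Fin.consEquiv_apply, Fin.cons_zero, Fin.cons_succ,
      Fin.val_zero, pow_zero, mul_one, Fin.val_succ, pow_succ, Finset.mul_sum]
    congr 2
    exact Finset.sum_congr rfl fun i _ => by ring

theorem digits_cons : ∀ {n : ℕ} (s : Fin n → Fin 3),
    (List.ofFn fun i => (s i).val).foldr (fun a t => a + 3 * t) 0 = digits s := by
  intro n
  induction n with
  | zero => intro s; simp [digits]
  | succ n ih =>
    intro s
    rw [List.ofFn_succ, List.foldr_cons, ih]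
    simp only [digits, Fin.sum_univ_succ, Fin.val_zero, pow_zero, mul_one, Fin.val_succ, pow_succ,
      Finset.mul_sum]
    exact congrArg _ (Finset.sum_congr rfl fun i _ => by ring)

variable {k : Type*} [Field k] [CharP k 3]

theorem exists_diag (A : Matrix (Fin 2) (Fin 2) k) [IsAlgClosed k] (hd : A.det = 1) (h6 : A ^ 6 ≠ 1) :
    ∃ μ : k, μ ≠ 0 ∧ μ ^ 2 ≠ 1 ∧ ∃ P : (Matrix (Fin 2) (Fin 2) k)ˣ,
      A = (P : Matrix (Fin 2) (Fin 2) k) * !![μ, 0; 0, μ⁻¹] * (↑P⁻¹ : Matrix (Fin 2) (Fin 2) k) := by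
  haveI : Fact (Nat.Prime 3) := ⟨Nat.prime_three⟩
  rw [Matrix.det_fin_two] at hd
  have key : ∀ μ : k, μ ^ 2 = 1 → A 0 0 + A 1 1 = 2 * μ → False := by
    intro μ hμ ht
    refine h6 ?_
    set N := A - μ • (1 : Matrix (Fin 2) (Fin 2) k) with hN
    have hN2 : N * N = 0 := by
      ext i j
      fin_cases i <;> fin_cases j <;> simp [hN, Matrix.mul_apply, Fin.sum_univ_two]
      · linear_combination (A 0 0) * ht - hd + hμ
      · linear_combination (A 0 1) * ht
      · linear_combination (A 1 0) * ht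
      · linear_combination (A 1 1) * ht - hd + hμ
    have hA : A = μ • (1 : Matrix (Fin 2) (Fin 2) k) + N := by rw [hN]; abel
    have h3 : A ^ 3 = μ ^ 3 • (1 : Matrix (Fin 2) (Fin 2) k) := by
      rw [hA, add_pow_char_of_commute (p := 3) (h := (Commute.one_left N).smul_left μ), pow_succ N,
        pow_two N, hN2, zero_mul, add_zero, smul_pow, one_pow]
    rw [show 6 = 3 * 2 from rfl, pow_mul, h3, smul_pow, one_pow, ← pow_mul, mul_comm 3 2, pow_mul, hμ,
      one_pow, one_smul]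
  suffices ∃ μ : k, μ ≠ 0 ∧ μ ^ 2 ≠ 1 ∧ ∃ Q : Matrix (Fin 2) (Fin 2) k,
      IsUnit Q.det ∧ A * Q = Q * !![μ, 0; 0, μ⁻¹] by
    obtain ⟨μ, h1, h2, Q, hQ, e⟩ := this
    obtain ⟨P, rfl⟩ := (Matrix.isUnit_iff_isUnit_det Q).2 hQ
    exact ⟨μ, h1, h2, P, by rw [← e, mul_assoc, Units.mul_inv, mul_one]⟩
  by_cases hb : A 0 1 = 0
  · rw [hb, zero_mul, sub_zero] at hd
    have ha : A 0 0 ≠ 0 := fun h => by rw [h, zero_mul] at hd; exact zero_ne_one hd
    have hdd : A 1 1 = (A 0 0)⁻¹ := eq_inv_of_mul_eq_one_right hd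
    have hne : A 0 0 ^ 2 ≠ 1 := fun h => key (A 0 0) h (by
      rw [hdd, inv_eq_of_mul_eq_one_right (show A 0 0 * A 0 0 = 1 by rw [← pow_two, h])]; ring)
    refine ⟨A 0 0, ha, hne, !![A 0 0 - A 1 1, 0; A 1 0, 1], ?_, ?_⟩
    · rw [Matrix.det_fin_two]
      simp [sub_eq_zero]
      intro h
      exact hne (by rw [pow_two]; nth_rewrite 2 [h]; exact hd)
    · ext i j
      fin_cases i <;> fin_cases j <;> simp [Matrix.mul_apply, Fin.sum_univ_two, hb, ← hdd] <;> ring
  · obtain ⟨μ, hμ⟩ := IsAlgClosed.exists_root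
      (Polynomial.X ^ 2 - Polynomial.C (A 0 0 + A 1 1) * Polynomial.X + 1 : Polynomial k)
      (by
        have h2 : (Polynomial.X ^ 2 - Polynomial.C (A 0 0 + A 1 1) * Polynomial.X + 1 :
            Polynomial k).degree = 2 := by compute_degree!
        rw [h2]; decide)
    simp only [Polynomial.IsRoot.def, Polynomial.eval_add, Polynomial.eval_sub, Polynomial.eval_pow,
      Polynomial.eval_X, Polynomial.eval_mul, Polynomial.eval_C, Polynomial.eval_one] at hμ
    have hμ0 : μ ≠ 0 := fun h => by rw [h] at hμ; norm_num at hμ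
    have hμ1 : μ ^ 2 ≠ 1 := fun h => key μ h (mul_left_cancel₀ hμ0 (by linear_combination -hμ - h))
    have hinv : μ⁻¹ = A 0 0 + A 1 1 - μ := by
      refine inv_eq_of_mul_eq_one_right ?_
      linear_combination -hμ
    refine ⟨μ, hμ0, hμ1, !![A 0 1, A 0 1; μ - A 0 0, μ⁻¹ - A 0 0], ?_, ?_⟩
    · rw [Matrix.det_fin_two]
      simp only [isUnit_iff_ne_zero, Matrix.of_apply, Matrix.cons_val', Matrix.cons_val_zero,
        Matrix.cons_val_one, Matrix.cons_val_fin_one]
      intro h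
      have h' : μ⁻¹ = μ := mul_left_cancel₀ hb (by linear_combination h)
      exact hμ1 (by rw [pow_two]; nth_rewrite 1 [← h']; exact inv_mul_cancel₀ hμ0)
    · ext i j
      fin_cases i <;> fin_cases j <;> simp [Matrix.mul_apply, Fin.sum_univ_two, hinv]
      · ring
      · ring
      · linear_combination -hμ - hd
      · linear_combination -hμ - hd

variable {n : ℕ} {F : Type*} [Field F] [Fintype F] (ι : F →+* k)

theorem diag_lmat (s : Fin n → Fin 3) {μ : k} (hμ : μ ≠ 0) {l : ℕ} (hl : 0 < l)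
    (hμl : (μ ^ 2) ^ l = 1) (hs : Even (digits s)) :
    lmat s !![μ, 0; 0, μ⁻¹] = Matrix.diagonal fun J : Idx s =>
      (μ ^ 2) ^ ((digits s / 2 + (l - 1) * ∑ i, (J i).val * 3 ^ i.val) % l) := by
  haveI : Fact (Nat.Prime 3) := ⟨Nat.prime_three⟩
  have hmap : ∀ i : Fin n, (!![μ, 0; 0, μ⁻¹] : Matrix (Fin 2) (Fin 2) k).map (iterateFrobenius k 3 i)
      = !![μ ^ 3 ^ i.val, 0; 0, μ⁻¹ ^ 3 ^ i.val] := fun i => by
    ext a b; fin_cases a <;> fin_cases b <;> simp [iterateFrobenius_def, zero_pow]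
  ext J J'
  simp only [lmat, hmap, symM_diag]
  by_cases hJ : J = J'
  · subst hJ
    rw [Matrix.diagonal_apply_eq, ← pow_eq_pow_mod _ hμl, pow_add, pow_mul (μ ^ 2) (l - 1),
      show (μ ^ 2) ^ (l - 1) = (μ ^ 2)⁻¹ from eq_inv_of_mul_eq_one_left (by
        rw [← pow_succ, Nat.sub_add_cancel hl, hμl]),
      ← pow_mul μ 2, Nat.mul_div_cancel' hs.two_dvd, digits, ← Finset.prod_pow_eq_pow_sum,
      ← Finset.prod_pow_eq_pow_sum, ← Finset.prod_mul_distrib]
    refine Finset.prod_congr rfl fun i _ => ?_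
    rw [Matrix.diagonal_apply_eq, ← pow_mul, ← pow_mul, inv_pow, inv_pow]
    have hle : (J i).val ≤ (s i).val := Nat.lt_succ_iff.1 (J i).isLt
    revert hle
    generalize (J i).val = a
    generalize (s i).val = b
    intro hle
    obtain ⟨d, rfl⟩ := Nat.exists_eq_add_of_le hle
    rw [Nat.add_sub_cancel_left, show (a + d) * 3 ^ i.val =
      3 ^ i.val * a + 3 ^ i.val * d by ring, pow_add,
      show (a * 3 ^ i.val) = 3 ^ i.val * a by ring, ← pow_mul]
    field_simp
    ring
  · obtain ⟨i, hi⟩ := Function.ne_iff.1 hJ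
    rw [Matrix.diagonal_apply_ne _ hJ]
    exact Finset.prod_eq_zero (Finset.mem_univ i) (Matrix.diagonal_apply_ne _ hi)

theorem weighted_lrep (g : Matrix.SpecialLinearGroup (Fin 2) F) {m l : ℕ} (hg : g ^ m = 1)
    (hmk : (m : k) ≠ 0) (hlm : l ∣ m) {μ : k} (hμ : μ ≠ 0) (hζ : IsPrimitiveRoot (μ ^ 2) l)
    (P : (Matrix (Fin 2) (Fin 2) k)ˣ)
    (hP : (g : Matrix (Fin 2) (Fin 2) F).map ι = (P : Matrix (Fin 2) (Fin 2) k) * !![μ, 0; 0, μ⁻¹] *
      (↑P⁻¹ : Matrix (Fin 2) (Fin 2) k))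
    (s : Fin n → Fin 3) (hs : Even (digits s)) (W : ℕ → ℕ) :
    ∑ a : Fin l, W a.val * (lrep ι s (eig g m ((μ ^ 2) ^ a.val))).rank
      = packS l W (List.ofFn fun i => (s i).val) := by
  have hl : 0 < l := Nat.pos_of_dvd_of_pos hlm (Nat.pos_of_ne_zero fun h => hmk (by rw [h, Nat.cast_zero]))
  rw [packS, digits_cons, sum_valsJ s (fun x => W ((digits s / 2 + (l - 1) * x) % l))]
  exact weighted_rank hg hmk hlm hζ (lrep ι s) (Units.map (lhom s) P)
    (fun J => ⟨_, Nat.mod_lt _ hl⟩)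
    (by
      rw [lrep_single, hP, lmat_mul, lmat_mul, diag_lmat s hμ hl hζ.pow_eq_one hs]
      rfl) (fun a => W a.val)

theorem even_digits {s : Fin n → Fin 3} (h : Even (ones s)) : Even (digits s) := by
  rw [digits, Finset.even_sum_iff_even_card_odd]
  convert h using 1
  congr 1
  ext i
  simp only [Finset.mem_filter, Finset.mem_univ, true_and]
  rw [Nat.odd_mul]
  have h3 : Odd (3 ^ i.val) := Odd.pow (by decide)
  rw [and_iff_left h3, Nat.odd_iff]
  have := (s i).isLt
  omega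

end Cfsg.Agent.Chevalley.NoSub
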