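import Cfsg.Agent.Chevalley.NoSub.SL2Rep
import Mathlib.LinearAlgebra.Matrix.Transvection
import Mathlib.FieldTheory.Perfect
import Mathlib.Logic.Equiv.Fin.Rotate

/-!
Composition factors of a representation of `SL(2, 3^n)` over the field with three elements, read
off from ranks of idempotents.
-/

set_option linter.style.haveILetI false
set_option linter.unusedSectionVars false
set_option autoImplicit false

namespace Cfsg.Agent.Chevalley.NoSub

open MonoidAlgebra
open scoped Matrix

theorem rank_map_field {m : Type*} [Fintype m] [DecidableEq m] {k k' : Type*} [Field k] [Field k']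
    (f : k →+* k') (M : Matrix m m k) : (M.map f).rank = M.rank := by
  classical
  obtain ⟨L, L', D, h⟩ := Matrix.Pivot.exists_list_transvec_mul_diagonal_mul_list_transvec M
  have hunit : ∀ L : List (Matrix.TransvectionStruct m k),
      IsUnit (L.map Matrix.TransvectionStruct.toMatrix).prod.det := fun L => by
    rw [Matrix.TransvectionStruct.det_toMatrix_prod]
    exact isUnit_one
  have hunit' : ∀ L : List (Matrix.TransvectionStruct m k),
      IsUnit ((L.map Matrix.TransvectionStruct.toMatrix).prod.map f).det := fun L => by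
    rw [← RingHom.mapMatrix_apply, ← RingHom.map_det]
    exact (hunit L).map f
  rw [h, Matrix.map_mul, Matrix.map_mul, Matrix.rank_mul_eq_left_of_isUnit_det _ _ (hunit' L'),
    Matrix.rank_mul_eq_right_of_isUnit_det _ _ (hunit' L),
    Matrix.rank_mul_eq_left_of_isUnit_det _ _ (hunit L'),
    Matrix.rank_mul_eq_right_of_isUnit_det _ _ (hunit L),
    Matrix.diagonal_map (map_zero f), Matrix.rank_diagonal, Matrix.rank_diagonal]
  exact Fintype.card_congr (Equiv.subtypeEquivRight fun i => by simp)

variable {n : ℕ} {k : Type*} [Field k] [CharP k 3]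

/-- The cyclic shift of digit vectors. -/
def shift (s : Fin n → Fin 3) : Fin n → Fin 3 := fun j => s ((finRotate n).symm j)

/-- The matching shift of indices. -/
def shiftIdx (s : Fin n → Fin 3) : Idx s ≃ Idx (shift s) :=
  Equiv.piCongrLeft' (fun i => Fin ((s i).val + 1)) (finRotate n)

/-- The number of ones. -/
def ones (s : Fin n → Fin 3) : ℕ := (Finset.univ.filter fun i => (s i).val = 1).card

theorem symM_neg_one {R : Type*} [CommRing R] (s : Fin 3) :
    symM s (-1 : Matrix (Fin 2) (Fin 2) R) =
      (if s.val = 1 then (-1 : R) else 1) • (1 : Matrix (Fin (s.val + 1)) (Fin (s.val + 1)) R) := by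
  match s with
  | ⟨0, _⟩ => simp [symM]
  | ⟨1, _⟩ => simp [symM]
  | ⟨2, _⟩ => ext i j; fin_cases i <;> fin_cases j <;> simp [symM]

theorem lmat_neg_one (s : Fin n → Fin 3) :
    lmat s (-1 : Matrix (Fin 2) (Fin 2) k) = (-1 : k) ^ ones s • (1 : Matrix (Idx s) (Idx s) k) := by
  haveI : Fact (Nat.Prime 3) := ⟨Nat.prime_three⟩
  ext J J'
  have h : ∀ i : Fin n, (-1 : Matrix (Fin 2) (Fin 2) k).map (iterateFrobenius k 3 i) = -1 := fun i => by
    rw [← RingHom.mapMatrix_apply, map_neg, map_one]
  simp only [lmat, h, symM_neg_one, Matrix.smul_apply, smul_eq_mul, Finset.prod_mul_distrib,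
    Finset.prod_ite, Finset.prod_const, one_pow, mul_one]
  congr 1
  by_cases hJ : J = J'
  · subst hJ
    show ∏ i, (1 : Matrix (Fin ((s i).val + 1)) (Fin ((s i).val + 1)) k) (J i) (J i) = _
    rw [Matrix.one_apply_eq]
    exact Finset.prod_eq_one fun i _ => Matrix.one_apply_eq _
  · obtain ⟨i, hi⟩ := Function.ne_iff.1 hJ
    rw [Matrix.one_apply_ne hJ]
    exact Finset.prod_eq_zero (Finset.mem_univ i) (Matrix.one_apply_ne hi)

variable {F : Type*} [Field F] [Fintype F] (ι : F →+* k)

theorem lmat_shift (hF : Fintype.card F = 3 ^ n) (s : Fin n → Fin 3)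
    (g : Matrix (Fin 2) (Fin 2) F) (J J' : Idx s) :
    lmat (shift s) (g.map ι) (shiftIdx s J) (shiftIdx s J') =
      (lmat s (g.map ι) J J') ^ 3 := by
  haveI : Fact (Nat.Prime 3) := ⟨Nat.prime_three⟩
  have key : ∀ (i : Fin n) (x : F),
      iterateFrobenius k 3 (finRotate n i : ℕ) (ι x) = (iterateFrobenius k 3 (i : ℕ) (ι x)) ^ 3 := by
    intro i x
    simp only [iterateFrobenius_def, ← pow_mul, ← pow_succ]
    obtain ⟨m, rfl⟩ : ∃ m, n = m + 1 := ⟨n - 1, by have := i.isLt; omega⟩
    rcases eq_or_ne i (Fin.last m) with rfl | hne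
    · rw [finRotate_last, Fin.val_zero, pow_zero, pow_one, Fin.val_last, ← hF, ← map_pow,
        FiniteField.pow_card]
    · rw [coe_finRotate_of_ne_last hne]
  unfold lmat
  rw [← Finset.prod_pow]
  refine (Fintype.prod_equiv (finRotate n) _ _ fun i => ?_).symm
  have hp : ∀ (a : Fin 3) (A : Matrix (Fin 2) (Fin 2) k) (u v : Fin (a.val + 1)),
      (symM a A u v) ^ 3 = symM a (A.map (frobenius k 3)) u v := fun a A u v => by
    rw [← symM_map, Matrix.map_apply, frobenius_def]
  rw [hp, Matrix.map_map]
  have hmap : (g.map ι).map (iterateFrobenius k 3 (finRotate n i : ℕ))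
      = (g.map ι).map (frobenius k 3 ∘ iterateFrobenius k 3 (i : ℕ)) := by
    ext a b
    simp only [Matrix.map_apply, Function.comp_apply, frobenius_def]
    exact key i (g a b)
  rw [hmap]
  have e : ∀ (j : Fin n) (hj : j = i), symM (s j) ((g.map ι).map (frobenius k 3 ∘ iterateFrobenius k 3 (i : ℕ))) (J j) (J' j)
      = symM (s i) ((g.map ι).map (frobenius k 3 ∘ iterateFrobenius k 3 (i : ℕ))) (J i) (J' i) := by
    rintro j rfl; rfl
  exact (e _ ((finRotate n).symm_apply_apply i)).symm

variable [IsAlgClosed k] [DecidableEq F]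

/-- The representation obtained by extending scalars from the prime field. -/
noncomputable def extRep (f : ZMod 3 →+* k) {N : Type*} [Fintype N] [DecidableEq N]
    (ρ : Matrix.SpecialLinearGroup (Fin 2) F →* Matrix N N (ZMod 3)) :
    MonoidAlgebra k (Matrix.SpecialLinearGroup (Fin 2) F) →ₐ[k] Matrix N N k :=
  MonoidAlgebra.lift k _ _ ((f.mapMatrix (m := N)).toMonoidHom.comp ρ)

theorem extRep_single (f : ZMod 3 →+* k) {N : Type*} [Fintype N] [DecidableEq N]
    (ρ : Matrix.SpecialLinearGroup (Fin 2) F →* Matrix N N (ZMod 3))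
    (g : Matrix.SpecialLinearGroup (Fin 2) F) :
    extRep f ρ (single g 1) = (ρ g).map f := by
  simp [extRep]

theorem mapRingHom_smul {G : Type*} [Monoid G] (σ : k →+* k) (r : k) (a : MonoidAlgebra k G) :
    MonoidAlgebra.mapRingHom G σ (r • a) = σ r • MonoidAlgebra.mapRingHom G σ a := by
  rw [Algebra.smul_def, map_mul, Algebra.smul_def]
  simp [MonoidAlgebra.coe_algebraMap]

theorem map_frob_extRep (f : ZMod 3 →+* k) {N : Type*} [Fintype N] [DecidableEq N]
    (ρ : Matrix.SpecialLinearGroup (Fin 2) F →* Matrix N N (ZMod 3))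
    [Fact (Nat.Prime 3)] (z : MonoidAlgebra k (Matrix.SpecialLinearGroup (Fin 2) F)) :
    (extRep f ρ z).map (frobenius k 3) = extRep f ρ (MonoidAlgebra.mapRingHom _ (frobenius k 3) z) := by
  induction z using MonoidAlgebra.induction_on with
  | of g =>
    rw [MonoidAlgebra.of_apply, MonoidAlgebra.mapRingHom_single, map_one, extRep_single,
      Matrix.map_map]
    ext a b
    simp [frobenius_def, ← map_pow, ZMod.pow_card]
  | add a b ha hb => simp only [map_add, Matrix.map_add _ (map_add _), ha, hb]
  | smul r a ha =>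
    rw [map_smul, mapRingHom_smul, map_smul, ← ha]
    ext i j
    simp [frobenius_def, mul_pow]

theorem map_frob_lrep (hF : Fintype.card F = 3 ^ n) (s : Fin n → Fin 3) [Fact (Nat.Prime 3)]
    (z : MonoidAlgebra k (Matrix.SpecialLinearGroup (Fin 2) F)) :
    (lrep ι s z).map (frobenius k 3) =
      (lrep ι (shift s) (MonoidAlgebra.mapRingHom _ (frobenius k 3) z)).submatrix
        (shiftIdx s) (shiftIdx s) := by
  induction z using MonoidAlgebra.induction_on with
  | of g =>
    ext J J'
    rw [MonoidAlgebra.of_apply, MonoidAlgebra.mapRingHom_single, map_one, lrep_single, lrep_single,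
      Matrix.map_apply, Matrix.submatrix_apply, lmat_shift ι hF, frobenius_def]
  | add a b ha hb =>
    simp only [map_add, Matrix.map_add _ (map_add _), ha, hb, Matrix.submatrix_add]
    rfl
  | smul r a ha =>
    rw [map_smul, mapRingHom_smul, map_smul]
    ext J J'
    have h := congrFun (congrFun ha J) J'
    simp only [Matrix.map_apply, Matrix.submatrix_apply, frobenius_def, Matrix.smul_apply,
      smul_eq_mul, mul_pow] at h ⊢
    rw [h]

/-- The composition multiplicities, with their symmetries. -/
theorem exists_mult (hF : Fintype.card F = 3 ^ n) (f : ZMod 3 →+* k) {N : Type*} [Fintype N]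
    [DecidableEq N] (ρ : Matrix.SpecialLinearGroup (Fin 2) F →* Matrix N N (ZMod 3))
    (hneg : ∀ z : Matrix.SpecialLinearGroup (Fin 2) F, (z : Matrix (Fin 2) (Fin 2) F) = -1 → ρ z = 1) :
    ∃ c : (Fin n → Fin 3) → ℕ, (∀ s, c (shift s) = c s) ∧ (∀ s, Odd (ones s) → c s = 0) ∧
      ∀ e, e * e = e → (extRep f ρ e).rank = ∑ s, c s * (lrep ι s e).rank := by
  classical
  haveI : Fact (Nat.Prime 3) := ⟨Nat.prime_three⟩
  letI : Fintype (Matrix.SpecialLinearGroup (Fin 2) F) := Fintype.ofFinite _
  have hk : ((3 : ℕ) : k) = 0 := CharP.cast_eq_zero k 3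
  set Φ := sl2Family ι hF
  set c : (Fin n → Fin 3) → ℕ := Φ.mult hk (extRep f ρ) with hc
  have hrep : ∀ s, Φ.rep s = lrep ι s := fun s => rfl
  have hmain : ∀ e, e * e = e → (extRep f ρ e).rank = ∑ s, c s * (lrep ι s e).rank :=
    Φ.rank_eq_sum hk (extRep f ρ)
  refine ⟨c, fun s => ?_, fun s hs => ?_, hmain⟩
  · obtain ⟨hb, hbpi⟩ := (Φ.exists_basic hk s).choose_spec
    set b := (Φ.exists_basic hk s).choose
    have hrk : ∀ t, (lrep ι t b).rank = if t = s then 1 else 0 := fun t => by
      rw [← hrep, ← Φ.pi_apply, hbpi]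
      by_cases ht : t = s
      · subst ht; rw [Pi.single_eq_same, if_pos rfl, rank_single_one]
      · rw [Pi.single_eq_of_ne ht, Matrix.rank_zero, if_neg ht]
    set σb := MonoidAlgebra.mapRingHom (Matrix.SpecialLinearGroup (Fin 2) F) (frobenius k 3) b
    have hσ : σb * σb = σb := by rw [← map_mul, hb]
    have h1 := hmain σb hσ
    rw [← map_frob_extRep, rank_map_field] at h1
    have hsh : Function.Bijective (shift (n := n)) :=
      (Equiv.arrowCongr (finRotate n) (Equiv.refl (Fin 3))).bijective
    rw [← hsh.sum_comp fun t => c t * (lrep ι t σb).rank] at h1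
    have h2 : ∀ t, (lrep ι (shift t) σb).rank = (lrep ι t b).rank := fun t => by
      rw [← rank_map_field (frobenius k 3) (lrep ι t b), map_frob_lrep ι hF, Matrix.rank_submatrix]
    simp only [h2, hrk, mul_ite, mul_one, mul_zero, Finset.sum_ite_eq', Finset.mem_univ, if_true]
      at h1
    exact h1.symm
  · let z : Matrix.SpecialLinearGroup (Fin 2) F := ⟨-1, by simp [Matrix.det_neg]⟩
    have h2 : (2 : k) ≠ 0 := fun h => absurd ((CharP.cast_eq_zero_iff k 3 2).1 (by exact_mod_cast h))
      (by norm_num)
    set e : MonoidAlgebra k (Matrix.SpecialLinearGroup (Fin 2) F) :=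
      (2 : k)⁻¹ • (1 - single z (1 : k)) with he
    have hzz : z * z = 1 := Subtype.ext (by
      rw [Matrix.SpecialLinearGroup.coe_mul]; simp [z])
    have hee : e * e = e := by
      rw [he, smul_mul_assoc, mul_smul_comm, smul_smul, mul_sub, mul_one, sub_mul, one_mul,
        single_mul_single, hzz, one_mul, ← one_def,
        show (1 - single z (1 : k)) - (single z (1 : k) - 1) = (2 : k) • (1 - single z (1 : k)) by
          rw [two_smul]; abel, smul_smul, mul_assoc, inv_mul_cancel₀ h2, mul_one]
    have h0 : extRep f ρ e = 0 := by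
      rw [he, map_smul, map_sub, map_one, extRep_single, hneg z rfl,
        Matrix.map_one f (map_zero f) (map_one f), sub_self, smul_zero]
    have h1 := hmain e hee
    rw [h0, Matrix.rank_zero, eq_comm, Finset.sum_eq_zero_iff] at h1
    rcases mul_eq_zero.1 (h1 s (Finset.mem_univ _)) with h | h
    · exact h
    exfalso
    have hl : lrep ι s e = 1 := by
      have hz : ((z : Matrix (Fin 2) (Fin 2) F)).map ι = -1 := by
        show (-1 : Matrix (Fin 2) (Fin 2) F).map ι = -1
        rw [← RingHom.mapMatrix_apply, map_neg, map_one]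
      rw [he, map_smul, map_sub, map_one, lrep_single, hz, lmat_neg_one, hs.neg_one_pow, neg_one_smul,
        sub_neg_eq_add, ← two_smul k (1 : Matrix (Idx s) (Idx s) k), smul_smul, inv_mul_cancel₀ h2,
        one_smul]
    rw [hl, Matrix.rank_one, Fintype.card_eq_zero_iff] at h
    exact h.false (bot' s)

end Cfsg.Agent.Chevalley.NoSub
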