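import Cfsg.Agent.Chevalley.NoSub.BrauerRank
import Cfsg.Agent.H54.RegularClasses

/-!
The twisted tensor products of the symmetric powers of degree at most two, as a full family for
`SL(2, 3^n)` in characteristic three.
-/

set_option linter.style.haveILetI false
set_option linter.unusedSectionVars false
set_option autoImplicit false

namespace Cfsg.Agent.Chevalley.NoSub

open MonoidAlgebra
open scoped Matrix

section Sym

variable {R : Type*} [CommRing R]

/-- The symmetric power of degree at most two. -/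
def symM : (s : Fin 3) → Matrix (Fin 2) (Fin 2) R → Matrix (Fin (s.val + 1)) (Fin (s.val + 1)) R
  | ⟨0, _⟩, _ => 1
  | ⟨1, _⟩, g => g
  | ⟨2, _⟩, g => !![g 0 0 ^ 2, g 0 0 * g 0 1, g 0 1 ^ 2;
      2 * (g 0 0 * g 1 0), g 0 0 * g 1 1 + g 0 1 * g 1 0, 2 * (g 0 1 * g 1 1);
      g 1 0 ^ 2, g 1 0 * g 1 1, g 1 1 ^ 2]

theorem symM_one (s : Fin 3) : symM s (1 : Matrix (Fin 2) (Fin 2) R) = 1 := by
  match s with
  | ⟨0, _⟩ => rfl
  | ⟨1, _⟩ => rfl
  | ⟨2, _⟩ => ext i j; fin_cases i <;> fin_cases j <;> simp [symM]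

theorem symM_mul (s : Fin 3) (g h : Matrix (Fin 2) (Fin 2) R) :
    symM s (g * h) = symM s g * symM s h := by
  match s with
  | ⟨0, _⟩ => simp [symM]
  | ⟨1, _⟩ => rfl
  | ⟨2, _⟩ =>
    ext i j
    fin_cases i <;> fin_cases j <;>
      simp [symM, Matrix.mul_apply, Fin.sum_univ_two, Fin.sum_univ_three] <;> ring

theorem symM_map {R' : Type*} [CommRing R'] (f : R →+* R') (s : Fin 3)
    (g : Matrix (Fin 2) (Fin 2) R) : (symM s g).map f = symM s (g.map f) := by
  match s with
  | ⟨0, _⟩ => exact map_one f.mapMatrix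
  | ⟨1, _⟩ => rfl
  | ⟨2, _⟩ => ext i j; fin_cases i <;> fin_cases j <;> simp [symM, map_ofNat]

/-- The exponent-free entry at an upper unitriangular matrix. -/
def upC (s : Fin 3) (a b : ℕ) : ℕ :=
  if a ≤ b then (if s.val = 2 ∧ a = 1 ∧ b = 2 then 2 else 1) else 0

/-- The exponent-free entry at a lower unitriangular matrix. -/
def loC (s : Fin 3) (a b : ℕ) : ℕ :=
  if b ≤ a then (if s.val = 2 ∧ a = 1 ∧ b = 0 then 2 else 1) else 0

theorem symM_up (s : Fin 3) (x : R) (a b : Fin (s.val + 1)) :
    symM s !![1, x; 0, 1] a b = (upC s a b : R) * x ^ (b.val - a.val) := by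
  match s with
  | ⟨0, _⟩ => fin_cases a; fin_cases b; simp [symM, upC]
  | ⟨1, _⟩ => fin_cases a <;> fin_cases b <;> simp [symM, upC]
  | ⟨2, _⟩ => fin_cases a <;> fin_cases b <;> simp [symM, upC]

theorem symM_lo (s : Fin 3) (x : R) (a b : Fin (s.val + 1)) :
    symM s !![1, 0; x, 1] a b = (loC s a b : R) * x ^ (a.val - b.val) := by
  match s with
  | ⟨0, _⟩ => fin_cases a; fin_cases b; simp [symM, loC]
  | ⟨1, _⟩ => fin_cases a <;> fin_cases b <;> simp [symM, loC]
  | ⟨2, _⟩ => fin_cases a <;> fin_cases b <;> simp [symM, loC]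

theorem symM_diag (s : Fin 3) (x y : R) :
    symM s !![x, 0; 0, y] = Matrix.diagonal fun a => x ^ (s.val - a.val) * y ^ a.val := by
  match s with
  | ⟨0, _⟩ => ext i j; fin_cases i; fin_cases j; simp [symM]
  | ⟨1, _⟩ => ext i j; fin_cases i <;> fin_cases j <;> simp [symM]
  | ⟨2, _⟩ => ext i j; fin_cases i <;> fin_cases j <;> simp [symM] <;> ring

end Sym

variable {n : ℕ}

/-- The index set of a tensor product. -/
abbrev Idx (s : Fin n → Fin 3) := ∀ i, Fin ((s i).val + 1)

variable {k : Type*} [Field k] [CharP k 3]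

/-- The twisted tensor product. -/
noncomputable def lmat (s : Fin n → Fin 3) (g : Matrix (Fin 2) (Fin 2) k) :
    Matrix (Idx s) (Idx s) k :=
  haveI : Fact (Nat.Prime 3) := ⟨Nat.prime_three⟩
  fun J J' => ∏ i, symM (s i) (g.map (iterateFrobenius k 3 i)) (J i) (J' i)

theorem lmat_one (s : Fin n → Fin 3) : lmat s (1 : Matrix (Fin 2) (Fin 2) k) = 1 := by
  haveI : Fact (Nat.Prime 3) := ⟨Nat.prime_three⟩
  ext J J'
  simp only [lmat, Matrix.map_one _ (map_zero _) (map_one _), symM_one, Matrix.one_apply]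
  by_cases h : J = J'
  · simp [h]
  · obtain ⟨i, hi⟩ := Function.ne_iff.1 h
    rw [if_neg h]
    exact Finset.prod_eq_zero (Finset.mem_univ i) (if_neg hi)

theorem lmat_mul (s : Fin n → Fin 3) (g h : Matrix (Fin 2) (Fin 2) k) :
    lmat s (g * h) = lmat s g * lmat s h := by
  haveI : Fact (Nat.Prime 3) := ⟨Nat.prime_three⟩
  ext J J'
  simp only [lmat, Matrix.mul_apply, Matrix.map_mul, symM_mul, ← Finset.prod_mul_distrib]
  exact Fintype.prod_sum _

/-- The twisted tensor product as a homomorphism. -/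
noncomputable def lhom (s : Fin n → Fin 3) :
    Matrix (Fin 2) (Fin 2) k →* Matrix (Idx s) (Idx s) k where
  toFun := lmat s
  map_one' := lmat_one s
  map_mul' := lmat_mul s

theorem lmat_up (s : Fin n → Fin 3) (x : k) (J J' : Idx s) :
    lmat s !![1, x; 0, 1] J J' =
      ((∏ i, upC (s i) (J i) (J' i) : ℕ) : k) *
        x ^ (∑ i : Fin n, ((J' i).val - (J i).val) * 3 ^ i.val) := by
  haveI : Fact (Nat.Prime 3) := ⟨Nat.prime_three⟩
  rw [← Finset.prod_pow_eq_pow_sum, Nat.cast_prod, ← Finset.prod_mul_distrib]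
  refine Finset.prod_congr rfl fun i _ => ?_
  have e : (!![1, x; 0, 1] : Matrix (Fin 2) (Fin 2) k).map (iterateFrobenius k 3 i)
      = !![1, x ^ 3 ^ i.val; 0, 1] := by
    ext a b; fin_cases a <;> fin_cases b <;> simp [iterateFrobenius_def]
  rw [e, symM_up, ← pow_mul, mul_comm (3 ^ i.val)]

theorem lmat_lo (s : Fin n → Fin 3) (x : k) (J J' : Idx s) :
    lmat s !![1, 0; x, 1] J J' =
      ((∏ i, loC (s i) (J i) (J' i) : ℕ) : k) *
        x ^ (∑ i : Fin n, ((J i).val - (J' i).val) * 3 ^ i.val) := by
  haveI : Fact (Nat.Prime 3) := ⟨Nat.prime_three⟩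
  rw [← Finset.prod_pow_eq_pow_sum, Nat.cast_prod, ← Finset.prod_mul_distrib]
  refine Finset.prod_congr rfl fun i _ => ?_
  have e : (!![1, 0; x, 1] : Matrix (Fin 2) (Fin 2) k).map (iterateFrobenius k 3 i)
      = !![1, 0; x ^ 3 ^ i.val, 1] := by
    ext a b; fin_cases a <;> fin_cases b <;> simp [iterateFrobenius_def]
  rw [e, symM_lo, ← pow_mul, mul_comm (3 ^ i.val)]

/-- Digit vectors. -/
def digits (d : Fin n → Fin 3) : ℕ := ∑ i, (d i).val * 3 ^ i.val

theorem digits_inj : Function.Injective (digits (n := n)) := fun a b h => by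
  refine finFunctionFinEquiv.injective (Fin.ext ?_)
  simpa [digits, finFunctionFinEquiv_apply] using h

theorem digits_lt (d : Fin n → Fin 3) : digits d < 3 ^ n := by
  have := (finFunctionFinEquiv d).isLt
  rwa [finFunctionFinEquiv_apply] at this

section Extract

variable {F : Type*} [Field F] [Fintype F] (ι : F →+* k) (hF : Fintype.card F = 3 ^ n)

/-- The weights extracting one exponent. -/
noncomputable def wgt (e : ℕ) (t : F) : k :=
  haveI := Classical.decEq F
  if e = 0 then (if t = 0 then 1 else 0) else -(ι t) ^ (3 ^ n - 1 - e)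

include hF in
theorem sum_wgt {e e' : ℕ} (he : e < 3 ^ n) (he' : e' < 3 ^ n) :
    ∑ t, wgt (n := n) ι e t * ι t ^ e' = if e' = e then 1 else 0 := by
  classical
  have h3 : 1 ≤ 3 ^ n := Nat.one_le_pow _ _ (by norm_num)
  by_cases h0 : e = 0
  · subst h0
    simp only [wgt, if_true, ite_mul, one_mul, zero_mul]
    rw [Finset.sum_ite_eq' Finset.univ (0 : F) (fun t => ι t ^ e'), if_pos (Finset.mem_univ _),
      map_zero]
    by_cases h : e' = 0 <;> simp [h]
  · simp only [wgt, if_neg h0, neg_mul, Finset.sum_neg_distrib, ← map_pow, ← map_mul, ← pow_add,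
      ← map_sum]
    set a := 3 ^ n - 1 - e + e' with ha
    by_cases hee : e' = e
    · rw [if_pos hee]
      have hae : a = Fintype.card F - 1 := by omega
      have hpos : a ≠ 0 := by omega
      rw [show ∑ t : F, t ^ a = -1 from ?_, map_neg, map_one, neg_neg]
      rw [← Finset.sum_erase_add _ _ (Finset.mem_univ (0 : F)), zero_pow hpos, add_zero, hae]
      rw [Finset.sum_congr rfl (fun t ht => FiniteField.pow_card_sub_one_eq_one t
        (Finset.ne_of_mem_erase ht)), Finset.sum_const, Finset.card_erase_of_mem (Finset.mem_univ _),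
        Finset.card_univ, nsmul_one, Nat.cast_sub Fintype.card_pos, Nat.cast_one,
        Nat.cast_card_eq_zero, zero_sub]
    · rw [if_neg hee, neg_eq_zero]
      rcases lt_or_ge a (Fintype.card F - 1) with h | h
      · rw [FiniteField.sum_pow_lt_card_sub_one (K := F) a h, map_zero]
      · have hpos : a ≠ 0 := by omega
        rw [← Finset.sum_erase_add _ _ (Finset.mem_univ (0 : F)), zero_pow hpos, add_zero,
          show ∑ t ∈ Finset.univ.erase (0 : F), t ^ a =
            ∑ t ∈ Finset.univ.erase (0 : F), t ^ (a - (Fintype.card F - 1)) from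
          Finset.sum_congr rfl fun t ht => by
            conv_lhs => rw [show a = a - (Fintype.card F - 1) + (Fintype.card F - 1) by omega]
            rw [pow_add, FiniteField.pow_card_sub_one_eq_one t (Finset.ne_of_mem_erase ht), mul_one]]
        have hb : a - (Fintype.card F - 1) < Fintype.card F - 1 := by omega
        have hb0 : a - (Fintype.card F - 1) ≠ 0 := by omega
        have := FiniteField.sum_pow_lt_card_sub_one (K := F) _ hb
        rw [← Finset.sum_erase_add _ _ (Finset.mem_univ (0 : F)), zero_pow hb0, add_zero] at this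
        rw [this, map_zero]

/-- The representation of the group algebra. -/
noncomputable def lrep (s : Fin n → Fin 3) :
    MonoidAlgebra k (Matrix.SpecialLinearGroup (Fin 2) F) →ₐ[k] Matrix (Idx s) (Idx s) k :=
  MonoidAlgebra.lift k _ _ ((lhom s).comp
    (ι.mapMatrix.toMonoidHom.comp
      { toFun := fun g : Matrix.SpecialLinearGroup (Fin 2) F => (g : Matrix (Fin 2) (Fin 2) F)
        map_one' := rfl
        map_mul' := fun _ _ => rfl }))

theorem lrep_single (s : Fin n → Fin 3) (g : Matrix.SpecialLinearGroup (Fin 2) F) :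
    lrep ι s (single g 1) = lmat s ((g : Matrix (Fin 2) (Fin 2) F).map ι) := by
  simp [lrep, MonoidAlgebra.lift_single, lhom]

/-- Upper unitriangular element. -/
def upEl (t : F) : Matrix.SpecialLinearGroup (Fin 2) F := ⟨!![1, t; 0, 1], by simp [Matrix.det_fin_two]⟩

/-- Lower unitriangular element. -/
def loEl (t : F) : Matrix.SpecialLinearGroup (Fin 2) F := ⟨!![1, 0; t, 1], by simp [Matrix.det_fin_two]⟩

/-- Extraction of the exponent `e` from upper elements. -/
noncomputable def upZ (e : ℕ) : MonoidAlgebra k (Matrix.SpecialLinearGroup (Fin 2) F) :=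
  ∑ t, wgt (n := n) ι e t • single (upEl t) 1

/-- Extraction of the exponent `e` from lower elements. -/
noncomputable def loZ (e : ℕ) : MonoidAlgebra k (Matrix.SpecialLinearGroup (Fin 2) F) :=
  ∑ t, wgt (n := n) ι e t • single (loEl t) 1

include hF in
theorem lrep_upZ (s : Fin n → Fin 3) (d : Fin n → Fin 3) (J J' : Idx s) :
    lrep ι s (upZ (n := n) ι (digits d)) J J' =
      if ∀ i, (J i).val + (d i).val = (J' i).val then ((∏ i, upC (s i) (J i) (J' i) : ℕ) : k)
      else 0 := by
  classical
  let d' : Fin n → Fin 3 := fun i => ⟨(J' i).val - (J i).val, by omega⟩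
  have key : lrep ι s (upZ (n := n) ι (digits d)) J J' =
      ((∏ i, upC (s i) (J i) (J' i) : ℕ) : k) * if digits d' = digits d then 1 else 0 := by
    rw [← sum_wgt ι hF (digits_lt d) (digits_lt d'), Finset.mul_sum]
    simp only [upZ, map_sum, map_smul, Matrix.sum_apply, Matrix.smul_apply, smul_eq_mul,
      lrep_single]
    refine Finset.sum_congr rfl fun t _ => ?_
    have e : (upEl t : Matrix (Fin 2) (Fin 2) F).map ι = !![1, ι t; 0, 1] := by
      ext a b; fin_cases a <;> fin_cases b <;> simp [upEl]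
    rw [e, lmat_up]
    show _ * (_ * ι t ^ digits d') = _
    ring
  rw [key]
  by_cases h : ∀ i, (J i).val + (d i).val = (J' i).val
  · rw [if_pos h, if_pos (congrArg digits (funext fun i => Fin.ext (by
      have := h i; show (J' i).val - (J i).val = (d i).val; omega))), mul_one]
  · rw [if_neg h]
    by_cases hd : digits d' = digits d
    · push Not at h
      obtain ⟨i, hi⟩ := h
      have h1 : (J' i).val - (J i).val = (d i).val := congrArg (fun f => (f i).val) (digits_inj hd)
      have h2 : (∏ j, upC (s j) (J j) (J' j)) = 0 :=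
        Finset.prod_eq_zero (Finset.mem_univ i) (if_neg (by omega))
      rw [h2, Nat.cast_zero, zero_mul]
    · rw [if_neg hd, mul_zero]

include hF in
theorem lrep_loZ (s : Fin n → Fin 3) (d : Fin n → Fin 3) (J J' : Idx s) :
    lrep ι s (loZ (n := n) ι (digits d)) J J' =
      if ∀ i, (J' i).val + (d i).val = (J i).val then ((∏ i, loC (s i) (J i) (J' i) : ℕ) : k)
      else 0 := by
  classical
  let d' : Fin n → Fin 3 := fun i => ⟨(J i).val - (J' i).val, by omega⟩
  have key : lrep ι s (loZ (n := n) ι (digits d)) J J' =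
      ((∏ i, loC (s i) (J i) (J' i) : ℕ) : k) * if digits d' = digits d then 1 else 0 := by
    rw [← sum_wgt ι hF (digits_lt d) (digits_lt d'), Finset.mul_sum]
    simp only [loZ, map_sum, map_smul, Matrix.sum_apply, Matrix.smul_apply, smul_eq_mul,
      lrep_single]
    refine Finset.sum_congr rfl fun t _ => ?_
    have e : (loEl t : Matrix (Fin 2) (Fin 2) F).map ι = !![1, 0; ι t, 1] := by
      ext a b; fin_cases a <;> fin_cases b <;> simp [loEl]
    rw [e, lmat_lo]
    show _ * (_ * ι t ^ digits d') = _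
    ring
  rw [key]
  by_cases h : ∀ i, (J' i).val + (d i).val = (J i).val
  · rw [if_pos h, if_pos (congrArg digits (funext fun i => Fin.ext (by
      have := h i; show (J i).val - (J' i).val = (d i).val; omega))), mul_one]
  · rw [if_neg h]
    by_cases hd : digits d' = digits d
    · push Not at h
      obtain ⟨i, hi⟩ := h
      have h1 : (J i).val - (J' i).val = (d i).val := congrArg (fun f => (f i).val) (digits_inj hd)
      have h2 : (∏ j, loC (s j) (J j) (J' j)) = 0 :=
        Finset.prod_eq_zero (Finset.mem_univ i) (if_neg (by omega))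
      rw [h2, Nat.cast_zero, zero_mul]
    · rw [if_neg hd, mul_zero]

/-- The bottom index. -/
def bot' (s : Fin n → Fin 3) : Idx s := fun _ => 0

/-- The top index. -/
def top' (s : Fin n → Fin 3) : Idx s := fun i => ⟨(s i).val, Nat.lt_succ_self _⟩

include hF in
theorem lrep_upZ_self (s : Fin n → Fin 3) :
    lrep ι s (upZ (n := n) ι (digits s)) = Matrix.single (bot' s) (top' s) 1 := by
  classical
  ext J J'
  rw [lrep_upZ ι hF, Matrix.single_apply]
  by_cases h : ∀ i, (J i).val + (s i).val = (J' i).val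
  · have hJ : J = bot' s := funext fun i => Fin.ext (by
      have := h i; have := (J' i).isLt; show (J i).val = 0; omega)
    have hJ' : J' = top' s := funext fun i => Fin.ext (by
      have := h i; have := (J' i).isLt; show (J' i).val = (s i).val; omega)
    subst hJ hJ'
    rw [if_pos h, if_pos ⟨rfl, rfl⟩]
    have h1 : ∀ i, upC (s i) (bot' s i) (top' s i) = 1 := fun i => by
      simp [upC, bot']
    simp [h1]
  · rw [if_neg h, if_neg]
    rintro ⟨rfl, rfl⟩
    exact h fun i => by simp [bot', top']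

include hF in
theorem lrep_upZ_eq_zero {s s' : Fin n → Fin 3} {i : Fin n} (h : (s' i).val < (s i).val) :
    lrep ι s' (upZ (n := n) ι (digits s)) = 0 := by
  ext J J'
  rw [lrep_upZ ι hF, if_neg fun hc => by
    have := hc i; have := (J' i).isLt; omega]
  rfl

include hF in
theorem lrep_surjective (s : Fin n → Fin 3) :
    Function.Surjective (lrep (n := n) ι s) := by
  classical
  have h2 : (2 : k) ≠ 0 := fun h => absurd ((CharP.cast_eq_zero_iff k 3 2).1 (by exact_mod_cast h))
    (by norm_num)
  have hnz : ∀ i : Fin n, ∀ a b : ℕ, b ≤ a → ((loC (s i) a b : ℕ) : k) ≠ 0 := by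
    intro i a b hab
    rw [loC, if_pos hab]
    split
    · exact_mod_cast h2
    · simp
  suffices hs : ∀ r c : Idx s, ∀ x : k, ∃ z, lrep ι s z = Matrix.single r c x by
    intro M
    induction M using Matrix.induction_on' with
    | h_zero => exact ⟨0, map_zero _⟩
    | h_add A B ha hb =>
      obtain ⟨a, ha⟩ := ha; obtain ⟨b, hb⟩ := hb
      exact ⟨a + b, by rw [map_add, ha, hb]⟩
    | h_std_basis r c x => exact hs r c x
  intro r c x
  let da : Fin n → Fin 3 := fun i => ⟨(r i).val, by omega⟩
  let db : Fin n → Fin 3 := fun i => ⟨(s i).val - (c i).val, by omega⟩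
  set Ca : k := ((∏ i, loC (s i) (r i) (bot' s i) : ℕ) : k) with hCa
  set Cb : k := ((∏ i, loC (s i) (top' s i) (c i) : ℕ) : k) with hCb
  have hC : Ca * Cb ≠ 0 := by
    rw [hCa, hCb, Nat.cast_prod, Nat.cast_prod]
    exact mul_ne_zero (Finset.prod_ne_zero_iff.2 fun i _ => hnz i _ _ (Nat.zero_le _))
      (Finset.prod_ne_zero_iff.2 fun i _ => hnz i _ _ (Nat.lt_succ_iff.1 (c i).isLt))
  refine ⟨(x / (Ca * Cb)) • (loZ (n := n) ι (digits da) * upZ (n := n) ι (digits s) *
    loZ (n := n) ι (digits db)), ?_⟩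
  rw [map_smul, map_mul, map_mul, lrep_upZ_self ι hF]
  have key : lrep ι s (loZ (n := n) ι (digits da)) * Matrix.single (bot' s) (top' s) 1 *
      lrep ι s (loZ (n := n) ι (digits db)) = Matrix.single r c (Ca * Cb) := by
    ext u v
    rw [Matrix.mul_assoc, Matrix.mul_apply, Finset.sum_eq_single (bot' s)
      (fun y _ hy => by rw [Matrix.single_mul_apply_of_ne _ _ _ _ _ hy, mul_zero])
      (fun h => absurd (Finset.mem_univ _) h), Matrix.single_mul_apply_same, one_mul,
      lrep_loZ ι hF, lrep_loZ ι hF, Matrix.single_apply]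
    by_cases hu : u = r
    · subst hu
      rw [if_pos (c := ∀ i, (bot' s i).val + (da i).val = (u i).val) (fun i => by simp [bot', da])]
      by_cases hv : v = c
      · subst hv
        rw [if_pos, if_pos ⟨rfl, rfl⟩]
        intro i
        show (v i).val + ((s i).val - (v i).val) = (s i).val
        have := (v i).isLt; omega
      · rw [if_neg (c := ∀ i, (v i).val + (db i).val = (top' s i).val),
          if_neg (fun h => hv h.2.symm), mul_zero]
        intro h
        refine hv (funext fun i => Fin.ext ?_)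
        have h1 : (v i).val + ((s i).val - (c i).val) = (s i).val := h i
        have := (c i).isLt; omega
    · rw [if_neg (c := ∀ i, (bot' s i).val + (da i).val = (u i).val), zero_mul,
        if_neg (fun h => hu h.1.symm)]
      intro h
      refine hu (funext fun i => Fin.ext ?_)
      have h1 : 0 + (r i).val = (u i).val := h i
      omega
  rw [key, Matrix.smul_single, smul_eq_mul, div_mul_cancel₀ _ hC]

include hF in
theorem lrep_sep {s s' : Fin n → Fin 3} (h : s ≠ s') :
    ∃ z, (lrep ι s z = 0 ∧ lrep ι s' z ≠ 0) ∨ (lrep ι s' z = 0 ∧ lrep ι s z ≠ 0) := by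
  classical
  have hne : ∀ t : Fin n → Fin 3, lrep ι t (upZ (n := n) ι (digits t)) ≠ 0 := fun t h0 => by
    rw [lrep_upZ_self ι hF] at h0
    have := congrFun (congrFun h0 (bot' t)) (top' t)
    simp at this
  obtain ⟨i, hi⟩ := Function.ne_iff.1 h
  rcases Nat.lt_or_gt_of_ne (fun e => hi (Fin.ext e)) with hlt | hlt
  · exact ⟨_, Or.inl ⟨lrep_upZ_eq_zero ι hF hlt, hne s'⟩⟩
  · exact ⟨_, Or.inr ⟨lrep_upZ_eq_zero ι hF hlt, hne s⟩⟩

end Extract

section Classes

variable {F : Type*} [Field F] [Fintype F]

/-- Regular elements with the same trace are conjugate. -/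
theorem isConj_of_trace (hF : Fintype.card F = 3 ^ n)
    (g h : Matrix.SpecialLinearGroup (Fin 2) F) (hg : ¬ 3 ∣ orderOf g) (hh : ¬ 3 ∣ orderOf h)
    (ht : (g : Matrix (Fin 2) (Fin 2) F).trace = (h : Matrix (Fin 2) (Fin 2) F).trace) :
    IsConj g h := by
  haveI : Fact (Nat.Prime 3) := ⟨Nat.prime_three⟩
  haveI : CharP F 3 := by
    refine (CharP.charP_iff_prime_eq_zero Nat.prime_three).2 ?_
    have := Nat.cast_card_eq_zero F
    rw [hF, Nat.cast_pow] at this
    exact eq_zero_of_pow_eq_zero this
  refine H54.isConj_SL 3 ((Nat.prime_three.coprime_iff_not_dvd.2 hg).symm)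
    ((Nat.prime_three.coprime_iff_not_dvd.2 hh).symm) ?_
  rw [Matrix.charpoly_fin_two, Matrix.charpoly_fin_two, ht, g.2, h.2]

variable (ι : F →+* k)

/-- The family of twisted tensor products. -/
noncomputable def sl2Family (hF : Fintype.card F = 3 ^ n) :
    @Family 3 ⟨Nat.prime_three⟩ k _ (Matrix.SpecialLinearGroup (Fin 2) F) _ (Fintype.ofFinite _)
      (Fin n → Fin 3) _ Idx _ _ :=
  haveI : Fact (Nat.Prime 3) := ⟨Nat.prime_three⟩
  letI : Fintype (Matrix.SpecialLinearGroup (Fin 2) F) := Fintype.ofFinite _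
  { rep := lrep ι
    pt := bot'
    surj := lrep_surjective ι hF
    sep := fun _ _ h => lrep_sep ι hF h
    cls := fun g => (Fintype.equivOfCardEq (show Fintype.card F = Fintype.card (Fin n → Fin 3) by
      rw [hF, Fintype.card_fun, Fintype.card_fin, Fintype.card_fin]))
      (g : Matrix (Fin 2) (Fin 2) F).trace
    cls_spec := fun g h hg hh he => isConj_of_trace hF g h hg hh (Equiv.injective _ he) }

end Classes

end Cfsg.Agent.Chevalley.NoSub
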