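import Cfsg.Agent.Chevalley.NoSub.Involution
import Cfsg.Agent.Chevalley.Functorial
import Cfsg.Agent.H77.Automizer.Chev
import Mathlib.FieldTheory.IsAlgClosed.AlgebraicClosure
import Mathlib.FieldTheory.Finite.GaloisField

/-!
Semisimple elements of the group of type E8 over the field with three elements on the adjoint
module over an algebraic closure.
-/

set_option autoImplicit false
set_option linter.style.haveILetI false
set_option linter.unusedSectionVars false
set_option maxRecDepth 100000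
set_option maxHeartbeats 1000000

namespace Cfsg.Agent.Chevalley.NoSub

open Cfsg.Lie Cfsg.Agent.H37 Cfsg.Agent.H37.RootSys Cfsg.Agent.Chevalley.Weights
open Cfsg.Agent.H77.Homocyclic (padicValNat_prod)

instance factPrimeThree : Fact (Nat.Prime 3) := ⟨Nat.prime_three⟩

/-- The algebraic closure of the field with three elements. -/
abbrev Kbar : Type := AlgebraicClosure (ZMod 3)

instance charPKbar : CharP Kbar 3 :=
  charP_of_injective_algebraMap (algebraMap (ZMod 3) Kbar).injective 3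

/-- The map on groups given by a map of fields. -/
noncomputable def mapG {E E' : Type} [Field E] [Field E'] (f : E →+* E') :
    ↥(chevE8.group E) →* ↥(chevE8.group E') :=
  ((Matrix.GeneralLinearGroup.map f).comp (chevE8.group E).subtype).codRestrict _
    fun x => E8.cert.map_mem_group f x.2

theorem coe_mapG {E E' : Type} [Field E] [Field E'] (f : E →+* E') (x : ↥(chevE8.group E)) :
    (((mapG f x : ↥(chevE8.group E')) : GL chevE8.Idx E') : Matrix chevE8.Idx chevE8.Idx E') =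
      ((x : GL chevE8.Idx E) : Matrix chevE8.Idx chevE8.Idx E).map f := rfl

/-- The diagonal subgroup over the algebraic closure. -/
noncomputable abbrev HK : Subgroup ↥(chevE8.group Kbar) := (H37.Chev.dataE8 Kbar).sys.H

/-- Extension of scalars to the algebraic closure. -/
noncomputable abbrev toK : ↥(chevE8.group (ZMod 3)) →* ↥(chevE8.group Kbar) :=
  mapG (algebraMap (ZMod 3) Kbar)

theorem sylow_card {s d : ℕ} [hs : Fact s.Prime] (hd : d ≠ 0) (hsd : s ∣ 3 ^ d - 1) (hs2 : s ≠ 2)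
    (hdeg : ∀ e ∈ [2, 8, 12, 14, 18, 20, 24, 30], ¬ s ∣ e) (L : Type) [Field L] [Finite L]
    (hL : Nat.card L = 3 ^ d) :
    padicValNat s (Nat.card ↥(chevE8.diagonalSubgroup L)) = padicValNat s (Nat.card ↥(chevE8.group L)) := by
  have h1 : 1 ≤ 3 ^ d := Nat.one_le_pow _ _ (by norm_num)
  have hQ2 : 2 ≤ 3 ^ d := le_trans (by norm_num) (Nat.le_self_pow hd 3)
  have hQ : ¬ s ∣ 3 ^ d := fun h => by
    have h2 := Nat.dvd_sub h hsd
    rw [Nat.sub_sub_self h1, Nat.dvd_one] at h2
    exact hs.out.ne_one h2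
  have hterm : orderOf ((3 ^ d : ℕ) : ZMod s) = 1 := by
    rw [orderOf_eq_one_iff, ← sub_eq_zero, ← Nat.cast_one, ← Nat.cast_sub h1]
    exact (ZMod.natCast_eq_zero_iff _ _).2 hsd
  have hdiag := H37.Chev.diag_E8 L
  have hgrp := (H37.Chev.dataE8 L).card_group Weyl.degsE8 rfl hdiag
  rw [one_mul, hL] at hdiag hgrp
  obtain ⟨hp0, hpv⟩ := padicValNat_prod hQ2 hQ hs2 [2, 8, 12, 14, 18, 20, 24, 30] hdeg
  rw [hterm] at hpv
  simp only [one_dvd, decide_true, List.filter_true, pow_one, List.length_cons, List.length_nil] at hpv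
  rw [hgrp, hdiag, padicValNat.mul (pow_ne_zero _ (by omega)) hp0,
    padicValNat.eq_zero_of_not_dvd (n := (3 ^ d) ^ (chevE8.nroots / 2))
      (fun h => hQ (hs.out.dvd_of_dvd_pow h)), zero_add, hpv, padicValNat.pow]

/-- An element of prime order prime to the Weyl group becomes diagonal. -/
theorem conj_diag_prime {s d : ℕ} [hs : Fact s.Prime] (hd : d ≠ 0) (hsd : s ∣ 3 ^ d - 1) (hs2 : s ≠ 2)
    (hdeg : ∀ e ∈ [2, 8, 12, 14, 18, 20, 24, 30], ¬ s ∣ e) {x : ↥(chevE8.group (ZMod 3))}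
    (hx : x ^ s = 1) : ∃ g, g * toK x * g⁻¹ ∈ HK := by
  haveI : NeZero d := ⟨hd⟩
  let L := GaloisField 3 d
  haveI : Finite L := inferInstance
  letI : Fintype L := Fintype.ofFinite L
  have hL : Nat.card L = 3 ^ d := GaloisField.card 3 d hd
  set j : L →+* Kbar := (IsAlgClosed.lift (R := ZMod 3) (S := L) (M := Kbar)).toRingHom
  have hP : IsPGroup s (Subgroup.zpowers (mapG (algebraMap (ZMod 3) L) x)) := by
    rintro ⟨y, hy⟩
    refine ⟨1, Subtype.ext ?_⟩
    obtain ⟨i, rfl⟩ := Subgroup.mem_zpowers_iff.1 hy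
    rw [SubmonoidClass.coe_pow, OneMemClass.coe_one, pow_one, ← zpow_natCast, ← zpow_mul, mul_comm,
      zpow_mul, zpow_natCast, ← map_pow, hx, map_one, one_zpow]
  obtain ⟨g, -, hg⟩ := H77.Automizer.exists_conj_diag (H37.Chev.dataE8 L)
    (sylow_card hd hsd hs2 hdeg L hL) ∅ (fun t ht => ht.elim) hP (fun t ht => ht.elim)
  refine ⟨mapG j g, ?_⟩
  have e : toK x = mapG j (mapG (algebraMap (ZMod 3) L) x) := by
    refine Subtype.ext (Units.ext ?_)
    rw [coe_mapG, coe_mapG, coe_mapG, Matrix.map_map]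
    exact congrArg _ (funext fun a => (RingHom.congr_fun
      (Subsingleton.elim (algebraMap (ZMod 3) Kbar) (j.comp (algebraMap (ZMod 3) L))) a))
  rw [e, ← map_inv, ← map_mul, ← map_mul]
  exact E8.cert.map_mem_diag j (hg _ (Subgroup.mem_zpowers _))

theorem conj_diag_73 {x : ↥(chevE8.group (ZMod 3))} (hx : x ^ 73 = 1) :
    ∃ g, g * toK x * g⁻¹ ∈ HK := by
  haveI : Fact (Nat.Prime 73) := ⟨by norm_num⟩
  exact conj_diag_prime (d := 12) (by norm_num) (by norm_num) (by norm_num)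
    (by simp only [List.forall_mem_cons]; norm_num) hx

theorem conj_diag_26 {x : ↥(chevE8.group (ZMod 3))} (hx : x ^ 26 = 1) :
    ∃ g, g * toK x * g⁻¹ ∈ HK := by
  haveI : Fact (Nat.Prime 13) := ⟨by norm_num⟩
  obtain ⟨g, hg⟩ := conj_diag_prime (s := 13) (d := 3) (by norm_num) (by norm_num) (by norm_num)
    (by simp only [List.forall_mem_cons]; norm_num) (x := x ^ 14)
    (by rw [← pow_mul, show 14 * 13 = 26 * 7 from rfl, pow_mul, hx, one_pow])
  set z := g * toK (x ^ 14) * g⁻¹ with hz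
  set t := g * toK (x ^ 13) * g⁻¹ with ht
  have ht2 : t * t = 1 := by
    rw [ht, show g * toK (x ^ 13) * g⁻¹ * (g * toK (x ^ 13) * g⁻¹)
      = g * (toK (x ^ 13) * toK (x ^ 13)) * g⁻¹ by group, ← map_mul, ← pow_add, hx, map_one,
      mul_one, mul_inv_cancel]
  have htz : t * z = z * t := by
    rw [hz, ht, show g * toK (x ^ 13) * g⁻¹ * (g * toK (x ^ 14) * g⁻¹)
      = g * (toK (x ^ 13) * toK (x ^ 14)) * g⁻¹ by group,
      show g * toK (x ^ 14) * g⁻¹ * (g * toK (x ^ 13) * g⁻¹)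
      = g * (toK (x ^ 14) * toK (x ^ 13)) * g⁻¹ by group, ← map_mul, ← map_mul, ← pow_add, ← pow_add]
  have hz13 : z ^ (2 * 6 + 1) = 1 := by
    rw [hz, conj_pow, ← map_pow, ← pow_mul, show 14 * (2 * 6 + 1) = 26 * 7 from rfl, pow_mul, hx,
      one_pow, map_one, mul_one, mul_inv_cancel]
  obtain ⟨g', hg'z, hg't⟩ := exists_conj_pair Kbar ht2 hg htz hz13
  refine ⟨g' * g, ?_⟩
  have e : toK x = toK (x ^ 13) * toK (x ^ 14) := by
    rw [← map_mul, ← pow_add, show 13 + 14 = 26 + 1 from rfl, pow_succ, hx, one_mul]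
  rw [show g' * g * toK x * (g' * g)⁻¹ = (g' * t * g'⁻¹) * (g' * z * g'⁻¹) by
    rw [hz, ht, e]; group]
  refine mul_mem hg't ?_
  rw [hg'z, mul_inv_cancel_right]
  exact hg

/-- The exponent at a coordinate of the element given by `v`. -/
noncomputable def kap (l : ℕ) (v : Fin 8 → ℤ) (x : chevE8.Idx) : ℕ :=
  ((∑ j : Fin 8, E8.cert.cfI x j.val * v j) % (l : ℤ)).toNat

theorem kap_lt {l : ℕ} (hl : 0 < l) (v : Fin 8 → ℤ) (x : chevE8.Idx) : kap l v x < l := by
  unfold kap
  have h1 := Int.emod_lt_of_pos (∑ j : Fin 8, E8.cert.cfI x j.val * v j) (Int.ofNat_lt.2 hl)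
  have h2 := Int.emod_nonneg (∑ j : Fin 8, E8.cert.cfI x j.val * v j)
    (by omega : (l : ℤ) ≠ 0)
  omega

theorem rootVal_lin {K : Type} [Field K] (c : Fin 8 → Kˣ) {s : ℕ} (hs : s < 240) :
    rootVal K c s = ∏ j : Fin 8, rootVal K c (chevE8.simple j.val) ^ E8.cert.cf s j.val := by
  simp only [rootVal, ← Finset.prod_zpow, ← zpow_mul]
  rw [Finset.prod_comm]
  refine Finset.prod_congr rfl fun m _ => ?_
  have hsum : ∀ (S : Finset (Fin 8)) (f : Fin 8 → ℤ), c m ^ (∑ j ∈ S, f j) = ∏ j ∈ S, c m ^ f j := by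
    intro S f
    classical
    induction S using Finset.induction with
    | empty => simp
    | insert a S ha ih => rw [Finset.sum_insert ha, Finset.prod_insert ha, zpow_add, ih]
  rw [← hsum]
  congr 1
  rw [E8.cert.pairing_simple m.isLt, E8.cert.cartan_lin m m.isLt s hs, list_sum_range_map,
    Finset.sum_range]
  exact Finset.sum_congr rfl fun j _ => by rw [E8.cert.pairing_simple m.isLt]; ring

/-- The spectrum of a diagonalisable element. -/
theorem exists_spectrum {x : ↥(chevE8.group (ZMod 3))} {l : ℕ} (hx : x ^ l = 1) (hx1 : x ≠ 1)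
    (hd : ∃ g, g * toK x * g⁻¹ ∈ HK) {ζ : Kbar} (hζ : IsPrimitiveRoot ζ l) (hl : 0 < l) :
    ∃ (v : Fin 8 → ℤ) (P : (Matrix chevE8.Idx chevE8.Idx Kbar)ˣ),
      ((x : GL chevE8.Idx (ZMod 3)) : Matrix chevE8.Idx chevE8.Idx (ZMod 3)).map
          (algebraMap (ZMod 3) Kbar) =
        (P : Matrix chevE8.Idx chevE8.Idx Kbar) * Matrix.diagonal (fun i => ζ ^ kap l v i) *
          (↑P⁻¹ : Matrix chevE8.Idx chevE8.Idx Kbar) ∧
      ∃ i, kap l v i ≠ 0 := by
  obtain ⟨g, hg⟩ := hd
  obtain ⟨c, hc⟩ := (mem_H_iff Kbar).1 hg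
  have hpow : torus chevE8 Kbar (c ^ l) = 1 := by
    refine (map_pow (torus chevE8 Kbar) c l).trans ?_
    erw [hc]
    rw [← SubmonoidClass.coe_pow, conj_pow, ← map_pow, hx, map_one, mul_one, mul_inv_cancel]
    rfl
  have hval : ∀ s : ℕ, s < 240 → rootVal Kbar c s ^ l = 1 := by
    intro s hs
    have h := congrFun (dU_inj ((show dU (fun x : chevE8.Idx => ∏ m : Fin 8,
      (c ^ l) m ^ pe (chevE8.simple m.val) x) = dU 1 from hpow.trans dU_one.symm))) (.inr ⟨s, hs⟩)
    simp only [Pi.one_apply, Pi.pow_apply] at h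
    rw [rootVal, ← Finset.prod_pow, ← h]
    refine Finset.prod_congr rfl fun m _ => ?_
    rw [← zpow_natCast, ← zpow_natCast, ← zpow_mul, ← zpow_mul, mul_comm]
    rfl
  have hv : ∀ j : Fin 8, ∃ i : ℕ, ζ ^ i = (rootVal Kbar c (chevE8.simple j.val) : Kbar) := fun j => by
    haveI : NeZero l := ⟨hl.ne'⟩
    obtain ⟨i, -, hi⟩ := hζ.eq_pow_of_pow_eq_one (ξ := (rootVal Kbar c (chevE8.simple j.val) : Kbar))
      (by rw [← Units.val_pow_eq_pow_val, hval _ (E8.cert.simple_lt j.val j.isLt).1, Units.val_one])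
    exact ⟨i, hi⟩
  choose v hv using hv
  set ζu : Kbarˣ := Units.mk0 ζ (hζ.ne_zero hl.ne') with hζu
  have hζl : ζu ^ (l : ℤ) = 1 := by
    rw [zpow_natCast]; exact Units.ext (by simp [hζu, hζ.pow_eq_one])
  have hdiag : ∀ i : chevE8.Idx, ((∏ m : Fin 8, c m ^ pe (chevE8.simple m.val) i : Kbarˣ) : Kbar)
      = ζ ^ kap l (fun j => (v j : ℤ)) i := by
    rintro (a | s)
    · simp [pe, kap, Cert.cfI]
    · show ((rootVal Kbar c s.val : Kbarˣ) : Kbar) = _
      have hj : ∀ j : Fin 8, rootVal Kbar c (chevE8.simple j.val) = ζu ^ (v j : ℤ) := fun j =>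
        Units.ext (by rw [zpow_natCast, Units.val_pow_eq_pow_val]; exact (hv j).symm)
      have hsum : ∀ (S : Finset (Fin 8)) (f : Fin 8 → ℤ), ζu ^ (∑ j ∈ S, f j) = ∏ j ∈ S, ζu ^ f j := by
        intro S f
        classical
        induction S using Finset.induction with
        | empty => simp
        | insert a S ha ih => rw [Finset.sum_insert ha, Finset.prod_insert ha, zpow_add, ih]
      have e : rootVal Kbar c s.val = ζu ^ kap l (fun j => (v j : ℤ)) (.inr s) := by
        rw [rootVal_lin c s.isLt, Finset.prod_congr rfl (g := fun j : Fin 8 =>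
          ζu ^ (E8.cert.cf s.val j.val * (v j : ℤ))) (fun j _ => by rw [hj, ← zpow_mul, mul_comm]),
          ← hsum, ← zpow_natCast, kap, Int.toNat_of_nonneg (Int.emod_nonneg _ (by omega))]
        conv_lhs => rw [show (∑ j : Fin 8, E8.cert.cf s.val j.val * (v j : ℤ))
          = (∑ j : Fin 8, E8.cert.cf s.val j.val * (v j : ℤ)) % (l : ℤ) + (l : ℤ) *
            ((∑ j : Fin 8, E8.cert.cf s.val j.val * (v j : ℤ)) / (l : ℤ)) by
          rw [Int.emod_def]; ring]
        rw [zpow_add, zpow_mul, hζl, one_zpow, mul_one]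
        rfl
      rw [e, Units.val_pow_eq_pow_val, Units.val_mk0]
  have hmain : (((toK x : ↥(chevE8.group Kbar)) : GL chevE8.Idx Kbar)) =
      (g : GL chevE8.Idx Kbar)⁻¹ * torus chevE8 Kbar c * (g : GL chevE8.Idx Kbar) := by
    rw [hc, Subgroup.coe_mul, Subgroup.coe_mul, Subgroup.coe_inv]
    group
  refine ⟨fun j => (v j : ℤ), (g : GL chevE8.Idx Kbar)⁻¹, ?_, ?_⟩
  · rw [← coe_mapG, show mapG (algebraMap (ZMod 3) Kbar) x = toK x from rfl, hmain, inv_inv,
      Units.val_mul, Units.val_mul]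
    congr 2
    show Matrix.diagonal _ = _
    exact congrArg Matrix.diagonal (funext hdiag)
  · by_contra hall
    push Not at hall
    refine hx1 (Subtype.ext (Units.ext (Matrix.map_injective
      (algebraMap (ZMod 3) Kbar).injective ?_)))
    have h1 : torus chevE8 Kbar c = 1 := by
      refine Units.ext ?_
      show Matrix.diagonal _ = _
      rw [Units.val_one, ← Matrix.diagonal_one]
      exact congrArg Matrix.diagonal (funext fun i => (hdiag i).trans (by rw [hall, pow_zero]))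
    show ((x : GL chevE8.Idx (ZMod 3)) : Matrix chevE8.Idx chevE8.Idx (ZMod 3)).map _ = _
    rw [← coe_mapG, show mapG (algebraMap (ZMod 3) Kbar) x = toK x from rfl, hmain, h1, mul_one,
      inv_mul_cancel]
    simp

end Cfsg.Agent.Chevalley.NoSub
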