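import Cfsg.Agent.Chevalley.NoSub.Spectrum

/-!
Elements of two-power order of the group of type E8 over the field with three elements become
diagonal over an algebraic closure: a square root of a diagonal element moves into the diagonal
subgroup by an element centralising its square.
-/

set_option autoImplicit false
set_option linter.style.haveILetI false
set_option linter.unusedSectionVars false
set_option maxRecDepth 100000
set_option maxHeartbeats 1000000

namespace Cfsg.Agent.Chevalley.NoSub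

open Cfsg.Lie Cfsg.Agent.H37 Cfsg.Agent.H37.RootSys Cfsg.Agent.Chevalley.Weights

variable (K : Type) [Field K]

/-- An element moves a root subgroup and its opposite with inverse coefficients. -/
def LinPair (g : ↥(chevE8.group K)) (r s : ℕ) (c : Kˣ) : Prop :=
  (∀ t : K, g * X K r t * g⁻¹ = X K s ((c : K) * t)) ∧
    ∀ t : K, g * X K (chevE8.neg r) t * g⁻¹ = X K (chevE8.neg s) (((c⁻¹ : Kˣ) : K) * t)

theorem actK_neg (w : (H37.Chev.dataE8 K).X.M.Group) {r : ℕ} (hr : r < 240) :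
    actK K w (chevE8.neg r) = chevE8.neg (actK K w r) := by
  rw [E8.cert.neg_eq r hr, E8.cert.neg_eq _ (act_lt w hr)]
  exact act_neg w hr

/-- Representatives act linearly on the root subgroups. -/
theorem lin_rep_pair (w : (H37.Chev.dataE8 K).X.M.Group) : ∀ r, r < 240 → ∃ c : Kˣ,
    LinPair K ((H37.Chev.dataE8 K).sys.rep w) r (actK K w r) c := by
  refine Sys.gen_induction (p := fun w => ∀ r, r < 240 → ∃ c : Kˣ,
    LinPair K ((H37.Chev.dataE8 K).sys.rep w) r (actK K w r) c) ?_ ?_ w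
  · intro r hr
    refine ⟨1, fun t => ?_, fun t => ?_⟩ <;>
    rw [Sys.rep_one, one_mul, inv_one, mul_one, (show actK K 1 r = r from act_one r)] <;> simp
  · intro i w ih r hr
    obtain ⟨c, hc, hcn⟩ := ih r hr
    obtain ⟨k, hk, e1⟩ := (H37.Chev.dataE8 K).sys.rep_mul ((H37.Chev.dataE8 K).X.M.simple i) w
    obtain ⟨h, hh, e2⟩ := (H37.Chev.dataE8 K).sys.rep_simple i
    obtain ⟨a, ha⟩ := (mem_H_iff K).1 (mul_mem (inv_mem hk) hh)
    have hlt : actK K w r < 240 := act_lt w hr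
    have hi : i.val < chevE8.rank := i.isLt
    have hlt' : E8.cert.w i (actK K w r) < 240 := (E8.cert.w_lt i hi _ hlt).1
    have hsg : ((E8.cert.sg i (actK K w r) : K)) ≠ 0 := by
      rcases E8.cert.sg_pm i (actK K w r) with h | h <;> rw [h] <;> simp
    refine ⟨rootVal K a (E8.cert.w i (actK K w r)) * Units.mk0 _ hsg * c, ?_⟩
    have e5 : (H37.Chev.dataE8 K).sys.rep ((H37.Chev.dataE8 K).X.M.simple i * w)
        = k⁻¹ * h * (H37.Chev.dataE8 K).sys.ns i * (H37.Chev.dataE8 K).sys.rep w := by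
      rw [mul_assoc k⁻¹, ← e2, mul_assoc]
      erw [e1]
      rw [inv_mul_cancel_left]
    have e3 : ∀ t : K, (H37.Chev.dataE8 K).sys.ns i * X K (actK K w r) ((c : K) * t)
        * ((H37.Chev.dataE8 K).sys.ns i)⁻¹
        = X K (E8.cert.w i (actK K w r)) ((E8.cert.sg i (actK K w r) : K) * ((c : K) * t)) := fun t =>
      Subtype.ext (E8.cert.nS_conj_xU K hi hlt _)
    have e6 : actK K ((H37.Chev.dataE8 K).X.M.simple i * w) r = E8.cert.w i (actK K w r) := by
      show act (H37.Chev.dataE8 K).X.good _ r = _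
      rw [act_mul _ _ (show r < chevE8.nroots from hr), act_simple i hlt]
      exact sigma_eq_w (H37.Chev.dataE8 K).X.good E8.cert i.isLt hlt
    rw [e5]
    refine ⟨fun t => ?_, fun t => ?_⟩
    swap
    · rw [e6]
      have hlt2 : chevE8.neg (actK K w r) < 240 := E8.cert.neg_lt hlt
      have hlt2' : chevE8.neg (E8.cert.w i (actK K w r)) < 240 := E8.cert.neg_lt hlt'
      have e3n : ∀ u, (H37.Chev.dataE8 K).sys.ns i * X K (chevE8.neg (actK K w r)) u
          * ((H37.Chev.dataE8 K).sys.ns i)⁻¹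
          = X K (chevE8.neg (E8.cert.w i (actK K w r))) ((E8.cert.sg i (actK K w r) : K) * u) := by
        intro u
        refine Subtype.ext ((E8.cert.nS_conj_xU K hi hlt2 u).trans ?_)
        rw [E8.cert.w_neg hi hlt, E8.cert.sg_neg hi hlt]
        rfl
      calc k⁻¹ * h * (H37.Chev.dataE8 K).sys.ns i * (H37.Chev.dataE8 K).sys.rep w * X K (chevE8.neg r) t *
            (k⁻¹ * h * (H37.Chev.dataE8 K).sys.ns i * (H37.Chev.dataE8 K).sys.rep w)⁻¹
          = (k⁻¹ * h) * ((H37.Chev.dataE8 K).sys.ns i *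
              ((H37.Chev.dataE8 K).sys.rep w * X K (chevE8.neg r) t * ((H37.Chev.dataE8 K).sys.rep w)⁻¹) *
              ((H37.Chev.dataE8 K).sys.ns i)⁻¹) * (k⁻¹ * h)⁻¹ := by group
        _ = _ := by
            rw [hcn, e3n, torus_conj K ha hlt2', rootVal_neg K a hlt']
            congr 1
            have hs : (E8.cert.sg i (actK K w r) : K)⁻¹ = (E8.cert.sg i (actK K w r) : K) := by
              rcases E8.cert.sg_pm i (actK K w r) with h | h <;> simp [h, inv_neg]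
            simp only [Units.val_inv_eq_inv_val, Units.val_mul, Units.val_mk0, mul_inv, hs]
            ring
    rw [e6]
    calc k⁻¹ * h * (H37.Chev.dataE8 K).sys.ns i * (H37.Chev.dataE8 K).sys.rep w * X K r t *
          (k⁻¹ * h * (H37.Chev.dataE8 K).sys.ns i * (H37.Chev.dataE8 K).sys.rep w)⁻¹
        = (k⁻¹ * h) * ((H37.Chev.dataE8 K).sys.ns i *
            ((H37.Chev.dataE8 K).sys.rep w * X K r t * ((H37.Chev.dataE8 K).sys.rep w)⁻¹) *
            ((H37.Chev.dataE8 K).sys.ns i)⁻¹) * (k⁻¹ * h)⁻¹ := by group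
      _ = _ := by
          rw [hc, e3, torus_conj K ha hlt']
          congr 1
          push_cast
          simp only [Units.val_mk0]
          ring

/-- The root permutation of an element of the monomial group. -/
theorem exists_act_pair {m : ↥(chevE8.group K)} (hm : m ∈ (H37.Chev.dataE8 K).amb.N) :
    ∃ w : (H37.Chev.dataE8 K).X.M.Group, (∃ h ∈ (H37.Chev.dataE8 K).sys.H, m = h * (H37.Chev.dataE8 K).sys.rep w) ∧
      ∀ r, r < 240 → ∃ c : Kˣ, LinPair K m r (actK K w r) c := by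
  obtain ⟨h, hh, w, rfl⟩ := hm
  refine ⟨w, ⟨h, hh, rfl⟩, fun r hr => ?_⟩
  obtain ⟨c, hc, hcn⟩ := lin_rep_pair K w r hr
  obtain ⟨a, ha⟩ := (mem_H_iff K).1 (show h ∈ (H37.Chev.dataE8 K).sys.H from hh)
  have hlt : actK K w r < 240 := act_lt w hr
  refine ⟨rootVal K a (actK K w r) * c, fun t => ?_, fun t => ?_⟩
  · show h * (H37.Chev.dataE8 K).sys.rep w * X K r t * (h * (H37.Chev.dataE8 K).sys.rep w)⁻¹ = _
    rw [mul_inv_rev, show h * (H37.Chev.dataE8 K).sys.rep w * X K r t * (((H37.Chev.dataE8 K).sys.rep w)⁻¹ * h⁻¹)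
      = h * ((H37.Chev.dataE8 K).sys.rep w * X K r t * ((H37.Chev.dataE8 K).sys.rep w)⁻¹) * h⁻¹ by group,
      hc, torus_conj K ha hlt]
    push_cast
    rw [mul_assoc]
  · show h * (H37.Chev.dataE8 K).sys.rep w * X K (chevE8.neg r) t * (h * (H37.Chev.dataE8 K).sys.rep w)⁻¹ = _
    rw [mul_inv_rev, show h * (H37.Chev.dataE8 K).sys.rep w * X K (chevE8.neg r) t *
        (((H37.Chev.dataE8 K).sys.rep w)⁻¹ * h⁻¹)
      = h * ((H37.Chev.dataE8 K).sys.rep w * X K (chevE8.neg r) t * ((H37.Chev.dataE8 K).sys.rep w)⁻¹) * h⁻¹ by group,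
      hcn, torus_conj K ha (E8.cert.neg_lt hlt), rootVal_neg K a hlt]
    push_cast
    ring_nf

variable [CharP K 3] [IsAlgClosed K]

theorem conj_step_sq {m z : ↥(chevE8.group K)} (hm : m ∈ (H37.Chev.dataE8 K).amb.N) (hm2 : m * m = z)
    (hz : z ∈ (H37.Chev.dataE8 K).sys.H)
    (hmH : m ∉ (H37.Chev.dataE8 K).sys.H) :
    ∃ y, y * z = z * y ∧ y⁻¹ * m * y ∈ (H37.Chev.dataE8 K).amb.N ∧
      (fixRoots K m).card < (fixRoots K (y⁻¹ * m * y)).card := by
  classical
  obtain ⟨w, ⟨h, hh, hmw⟩, hlin⟩ := exists_act_pair K hm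
  have hw2 : w * w = 1 := by
    obtain ⟨h', hh', e⟩ := (H37.Chev.dataE8 K).sys.rep_mul w w
    refine (H37.Chev.dataE8 K).amb.eq_one_of_n_mem_B ?_
    have e2 : (H37.Chev.dataE8 K).sys.rep (w * w) = h'⁻¹ *
        ((H37.Chev.dataE8 K).sys.rep w * h * ((H37.Chev.dataE8 K).sys.rep w)⁻¹)⁻¹ * h⁻¹ * z := by
      have e3 : (h * (H37.Chev.dataE8 K).sys.rep w) * (h * (H37.Chev.dataE8 K).sys.rep w) = z :=
        hmw ▸ hm2
      calc _ = h'⁻¹ * ((H37.Chev.dataE8 K).sys.rep w * (H37.Chev.dataE8 K).sys.rep w) := by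
            rw [e, inv_mul_cancel_left]
        _ = h'⁻¹ * ((H37.Chev.dataE8 K).sys.rep w * h * ((H37.Chev.dataE8 K).sys.rep w)⁻¹)⁻¹ * h⁻¹ *
            ((h * (H37.Chev.dataE8 K).sys.rep w) * (h * (H37.Chev.dataE8 K).sys.rep w)) := by group
        _ = _ := by rw [e3]
    exact Tits.Ambient.H_le_B _ (show (H37.Chev.dataE8 K).sys.rep (w * w) ∈ (H37.Chev.dataE8 K).sys.H
      from e2 ▸ mul_mem (mul_mem (mul_mem (inv_mem hh') (inv_mem (Sys.rep_conj_H _ w hh))) (inv_mem hh)) hz)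
  have hw1 : w ≠ 1 := by
    rintro rfl
    refine hmH ?_
    rw [hmw, Sys.rep_one, mul_one]
    exact hh
  obtain ⟨α, hα, hwα⟩ := exists_neg_root hw2 hw1
  replace hwα : actK K w α = chevE8.neg α := hwα
  have hnα : chevE8.neg α < 240 := E8.cert.neg_lt hα
  obtain ⟨c, hc, hc'⟩ := hlin α hα
  rw [hwα] at hc
  rw [hwα, E8.cert.neg_neg hα] at hc'
  replace hc' : ∀ t : K, m * X K (chevE8.neg α) t * m⁻¹ = X K α ((c : K)⁻¹ * t) := fun t => by
    rw [hc' t, Units.val_inv_eq_inv_val]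
  obtain ⟨za, hza⟩ := (mem_H_iff K).1 hz
  have hζ : rootVal K za α = 1 := by
    have h1 := torus_conj K hza hα 1
    rw [← hm2, show m * m * X K α 1 * (m * m)⁻¹ = m * (m * X K α 1 * m⁻¹) * m⁻¹ by group, hc, hc',
      mul_one, inv_mul_cancel₀ c.ne_zero, mul_one] at h1
    by_contra hne
    have h3 : X K α ((1 : K) - (rootVal K za α : K)) = 1 := by
      rw [sub_eq_add_neg, ← X_add, h1, X_add, add_neg_cancel]
      exact Subtype.ext (E8.cert.xU_zero K _)
    exact hne (Units.ext (sub_eq_zero.1 ((E8.cert.xU_eq_one_iff K hα _).1 (congrArg Subtype.val h3))).symm)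
  obtain ⟨a, ha⟩ := IsAlgClosed.exists_pow_nat_eq ((c : K)⁻¹) (n := 2) (by norm_num)
  have ha0 : a ≠ 0 := fun h => by
    rw [h, zero_pow two_ne_zero] at ha
    exact inv_ne_zero c.ne_zero ha.symm
  have hca : (c : K) * a = a⁻¹ := eq_inv_of_mul_eq_one_left (by
    rw [mul_assoc, ← pow_two, ha, mul_inv_cancel₀ c.ne_zero])
  have hcinv : (c : K)⁻¹ = a ^ 2 := ha.symm
  have h2K : (2 : K) ≠ 0 := fun h => absurd ((CharP.cast_eq_zero_iff K 3 2).1 (by exact_mod_cast h))
    (by norm_num)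
  set b : K := -(2 * a)⁻¹ with hb
  refine ⟨X K α a * X K (chevE8.neg α) b, ?_, ?_⟩
  · have hx : ∀ s, s < 240 → rootVal K za s = 1 → ∀ t, Commute (X K s t) z := by
      intro s hs h1 t
      have := torus_conj K hza hs t
      rw [h1, Units.val_one, one_mul, mul_inv_eq_iff_eq_mul] at this
      exact this.symm
    exact ((hx α hα hζ a).mul_left (hx _ hnα (by rw [rootVal_neg K za hα, hζ, inv_one]) b)).eq
  have hmain : (X K α a * X K (chevE8.neg α) b)⁻¹ * m * (X K α a * X K (chevE8.neg α) b)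
      = nEl K α (-a) * m := by
    calc _ = (X K (chevE8.neg α) b)⁻¹ * (X K α a)⁻¹ * (m * X K α a * m⁻¹) *
          (m * X K (chevE8.neg α) b * m⁻¹) * m := by group
      _ = X K (chevE8.neg α) (-b) * X K α (-a) * X K (chevE8.neg α) (-(-a)⁻¹) * X K α ((c : K)⁻¹ * b) * m := by
          rw [hc, hc', X_inv, X_inv, hca, show (-(-a)⁻¹ : K) = a⁻¹ by rw [inv_neg, _root_.neg_neg]]
      _ = X K (chevE8.neg α) (-b) * nEl K α (-a) * (X K α a * X K α ((c : K)⁻¹ * b)) * m := by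
          rw [nEl, show X K α a = (X K α (-a))⁻¹ by rw [X_inv, neg_neg]]
          group
      _ = nEl K α (-a) * ((nEl K α a * X K (chevE8.neg α) (-b) * (nEl K α a)⁻¹) *
          (X K α a * X K α ((c : K)⁻¹ * b))) * m := by
          rw [show nEl K α (-a) = (nEl K α a)⁻¹ from (nEl_inv K α a).symm]
          group
      _ = _ := by
          rw [nEl_conj_neg K hα ha0, X_add, X_add, hcinv]
          have : -(a ^ 2 * -b) + (a + a ^ 2 * b) = 0 := by
            rw [hb]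
            field_simp
            ring
          rw [this]
          have : X K α (0 : K) = 1 := Subtype.ext (E8.cert.xU_zero K _)
          rw [this, mul_one]
  rw [hmain]
  have hN : nEl K α (-a) * m ∈ (H37.Chev.dataE8 K).amb.N :=
    mul_mem (nEl_mem_N K hα (neg_ne_zero.2 ha0)) hm
  refine ⟨hN, Finset.card_lt_card (Finset.ssubset_iff_of_subset ?_ |>.2 ⟨α, ?_, ?_⟩)⟩
  · intro s hs
    obtain ⟨hs', hfs⟩ := Finset.mem_filter.1 hs
    rw [Finset.mem_range] at hs'
    obtain ⟨d, hd, -⟩ := hlin s hs'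
    obtain ⟨t', ht'⟩ := hfs 1
    rw [hd] at ht'
    have hws : actK K w s = s := X_eq_X K (act_lt w hs') (by simp) ht'
    have hsα : s ≠ α := by
      rintro rfl
      exact E8.cert.neg_ne hα (hwα.symm.trans hws)
    have hsn : s ≠ chevE8.neg α := by
      rintro rfl
      have e : actK K w (chevE8.neg α) = chevE8.neg (actK K w α) := by
        rw [E8.cert.neg_eq α hα, E8.cert.neg_eq _ (act_lt w hα)]
        exact act_neg w hα
      rw [hws, hwα, E8.cert.neg_neg hα] at e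
      exact E8.cert.neg_ne hα e
    have hp : pairingSum chevE8 α s = 0 := by
      have e := TwTorus.pairing_act (H37.Chev.dataE8 K) w α s hα hs'
      change pairingSum chevE8 (actK K w α) (actK K w s) = _ at e
      rw [hwα, hws] at e
      have e2 : pairingSum chevE8 (chevE8.neg α) s = - pairingSum chevE8 α s := by
        simp only [pairingSum, ← Finset.sum_neg_distrib]
        refine Finset.sum_congr rfl fun j hj => ?_
        rw [pairing_neg_left ⟨α, hα⟩ ⟨j, Finset.mem_range.1 hj⟩, neg_mul]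
      omega
    have hp' : pairingSum chevE8 (chevE8.neg α) s = 0 := by
      simp only [pairingSum] at hp ⊢
      rw [← neg_eq_zero, ← Finset.sum_neg_distrib, ← hp]
      refine Finset.sum_congr rfl fun j hj => ?_
      rw [pairing_neg_left ⟨α, hα⟩ ⟨j, Finset.mem_range.1 hj⟩, neg_mul, _root_.neg_neg]
    have hcomm : ∀ u, nEl K α (-a) * X K s u = X K s u * nEl K α (-a) := by
      intro u
      have c1 : ∀ t, Commute (X K α t) (X K s u) := fun t =>
        (X_commute K hα hs' hp hsα hsn t u).symm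
      have c2 : ∀ t, Commute (X K (chevE8.neg α) t) (X K s u) := fun t =>
        (X_commute K hnα hs' hp' hsn (by rw [E8.cert.neg_neg hα]; exact hsα) t u).symm
      exact (((c1 _).mul_left (c2 _)).mul_left (c1 _)).eq
    refine Finset.mem_filter.2 ⟨Finset.mem_range.2 hs', fun t => ⟨(d : K) * t, ?_⟩⟩
    rw [show nEl K α (-a) * m * X K s t * (nEl K α (-a) * m)⁻¹
      = nEl K α (-a) * (m * X K s t * m⁻¹) * (nEl K α (-a))⁻¹ by group, hd, hws, hcomm,
      mul_inv_cancel_right]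
  · refine Finset.mem_filter.2
      ⟨Finset.mem_range.2 hα, fun t => ⟨-((-a) ^ 2 * ((c : K) * t)), ?_⟩⟩
    rw [show nEl K α (-a) * m * X K α t * (nEl K α (-a) * m)⁻¹
      = nEl K α (-a) * (m * X K α t * m⁻¹) * (nEl K α (-a))⁻¹ by group, hc,
      nEl_conj_neg K hα (neg_ne_zero.2 ha0)]
  · intro hmem
    obtain ⟨t', ht'⟩ := (Finset.mem_filter.1 hmem).2 1
    rw [hc, mul_one] at ht'
    exact E8.cert.neg_ne hα (X_eq_X K hnα c.ne_zero ht')

theorem exists_conj_monomial_sq {m z : ↥(chevE8.group K)} (hm : m ∈ (H37.Chev.dataE8 K).amb.N)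
    (hm2 : m * m = z) (hz : z ∈ (H37.Chev.dataE8 K).sys.H) :
    ∃ g, g * z = z * g ∧ g * m * g⁻¹ ∈ (H37.Chev.dataE8 K).sys.H := by
  classical
  suffices ∀ j (m : ↥(chevE8.group K)), 240 - (fixRoots K m).card = j →
      m ∈ (H37.Chev.dataE8 K).amb.N → m * m = z →
      ∃ g, g * z = z * g ∧ g * m * g⁻¹ ∈ (H37.Chev.dataE8 K).sys.H from this _ m rfl hm hm2
  intro j
  induction j using Nat.strong_induction_on with
  | _ j ih =>
    intro m hj hm hm2
    by_cases hmH : m ∈ (H37.Chev.dataE8 K).sys.H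
    · exact ⟨1, by simp, by simpa using hmH⟩
    obtain ⟨y, hy, hN, hlt⟩ := conj_step_sq K hm hm2 hz hmH
    have hle : (fixRoots K (y⁻¹ * m * y)).card ≤ 240 :=
      (Finset.card_le_card (Finset.filter_subset _ _)).trans (Finset.card_range 240).le
    obtain ⟨g, hg, hgH⟩ := ih _ (by omega) (y⁻¹ * m * y) rfl hN
      (by rw [show y⁻¹ * m * y * (y⁻¹ * m * y) = y⁻¹ * (m * m) * y by group, hm2, mul_assoc, ← hy,
        inv_mul_cancel_left])
    refine ⟨g * y⁻¹, ((show Commute g z from hg).mul_left (Commute.inv_left hy)).eq, ?_⟩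
    rwa [show g * y⁻¹ * m * (g * y⁻¹)⁻¹ = g * (y⁻¹ * m * y) * g⁻¹ by group]

theorem exists_conj_sq {t z : ↥(chevE8.group K)} (ht : t * t = z)
    (hz : z ∈ (H37.Chev.dataE8 K).sys.H) :
    ∃ g, g * z = z * g ∧ g * t * g⁻¹ ∈ (H37.Chev.dataE8 K).sys.H := by
  classical
  have htz : t * z = z * t := by rw [← ht, mul_assoc]
  set Q := H37.Chev.dataE8 K
  obtain ⟨u, hu, h, hh, w, v, hv, e⟩ := Q.amb.exists_eq t
  change u ∈ Q.sys.U at hu
  change h ∈ Q.sys.H at hh
  change v ∈ Q.sys.Uw w at hv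
  change t = u * h * Q.sys.rep w * v at e
  have hconj : ∀ w, ∀ x ∈ Q.sys.Uw w, z * x * z⁻¹ ∈ Q.sys.Uw w := fun w x hx =>
    conj_mem_XS (fun r hr c => by
      obtain ⟨c', ec⟩ := Q.sys.h_conj _ hz r (Sys.mem_flip.1 hr).1 c
      rw [ec]; exact x_mem_XS (S := (↑(Sys.flip Q.X.good w) : Set ℕ)) hr c') hx
  have heq : (z * u * z⁻¹) * (z * h * (Q.sys.rep w * z * (Q.sys.rep w)⁻¹)⁻¹) * Q.sys.rep w
      * (z * v * z⁻¹) = u * h * Q.sys.rep w * v := by
    rw [← e]
    calc _ = z * (u * h * Q.sys.rep w * v) * z⁻¹ := by group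
      _ = _ := by rw [← e, ← htz, mul_inv_cancel_right]
  obtain ⟨-, e1, e2, e3⟩ := Q.amb.unique (w := w) (w' := w) (Q.sys.H_conj_U hz hu) hu
    (mul_mem (mul_mem hz hh) (inv_mem (Q.sys.rep_conj_H w hz))) hh (hconj w v hv) hv heq
  have hcu : Commute u z := (mul_inv_eq_iff_eq_mul.1 e1).symm
  have hcv : Commute v z := (mul_inv_eq_iff_eq_mul.1 e3).symm
  set m := h * Q.sys.rep w with hm
  set u' := v * u with hu'
  have hcu' : Commute u' z := hcv.mul_left hcu
  have hu'U : u' ∈ Q.sys.U := mul_mem (Q.sys.Uw_le w hv) hu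
  have ht' : v * t * v⁻¹ = u' * m := by rw [e, hm, hu']; group
  have hcm : Commute m z := by
    have : m = u'⁻¹ * (v * t * v⁻¹) := by rw [ht', inv_mul_cancel_left]
    rw [this]
    exact hcu'.inv_left.mul_left ((hcv.mul_left htz).mul_left hcv.inv_left)
  have hsq : u' * m * (u' * m) = z := by
    rw [← ht', show v * t * v⁻¹ * (v * t * v⁻¹) = v * (t * t) * v⁻¹ by group, ht, hcv.eq,
      mul_inv_cancel_right]
  have hmu : u' * m * u' = z * m⁻¹ := by rw [← hsq]; group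
  obtain ⟨a, ha, b, hb, hab⟩ := Q.sys.U_split w hu'U
  have hkeep : m * a * m⁻¹ ∈ Q.sys.U := by
    rw [hm, show h * Q.sys.rep w * a * (h * Q.sys.rep w)⁻¹
      = h * (Q.sys.rep w * a * (Q.sys.rep w)⁻¹) * h⁻¹ by group]
    exact Q.sys.H_conj_U hh (Q.sys.keep_conj w ha)
  obtain ⟨k1, hk1, ek1⟩ : ∃ k1 ∈ Q.sys.H, (Q.sys.rep w)⁻¹ = k1 * Q.sys.rep w⁻¹ := Q.amb.n_inv w
  have hk2 : k1 * (Q.sys.rep w⁻¹ * h⁻¹ * (Q.sys.rep w⁻¹)⁻¹) ∈ Q.sys.H :=
    mul_mem hk1 (Q.sys.rep_conj_H _ (inv_mem hh))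
  have heq2 : (u' * (m * a * m⁻¹)) * h * Q.sys.rep w * b
      = 1 * (z * (k1 * (Q.sys.rep w⁻¹ * h⁻¹ * (Q.sys.rep w⁻¹)⁻¹))) * Q.sys.rep w⁻¹ * 1 := by
    calc _ = u' * m * (a * b) := by rw [hm]; group
      _ = z * m⁻¹ := by rw [← hab, hmu]
      _ = z * ((Q.sys.rep w)⁻¹ * h⁻¹) := by rw [hm, mul_inv_rev]
      _ = _ := by rw [ek1]; group
  obtain ⟨ew, eu, eh, eb⟩ := Q.amb.unique (w := w) (w' := w⁻¹) (mul_mem hu'U hkeep) (one_mem _) hh (mul_mem hz hk2)
    hb (one_mem _) heq2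
  have hu'a : u' = a := by rw [hab, eb, mul_one]
  have hmm : m * m = z := by
    have e4 : z * m⁻¹ = m := by
      calc z * m⁻¹ = z * ((Q.sys.rep w)⁻¹ * h⁻¹) := by rw [hm, mul_inv_rev]
        _ = z * (k1 * (Q.sys.rep w⁻¹ * h⁻¹ * (Q.sys.rep w⁻¹)⁻¹)) * Q.sys.rep w⁻¹ := by rw [ek1]; group
        _ = m := by rw [← eh, ← ew, hm]
    nth_rewrite 1 [← e4]
    rw [inv_mul_cancel_right]
  have hinvu : m * u' * m⁻¹ = u'⁻¹ := by
    rw [← hu'a] at eu
    exact eq_inv_of_mul_eq_one_right eu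
  set y := u' ^ ((3 ^ 6 + 1) / 2) with hy
  have hy2 : y * y = u' := by
    rw [hy, ← pow_add, show (3 ^ 6 + 1) / 2 + (3 ^ 6 + 1) / 2 = 3 ^ 6 + 1 by norm_num, pow_succ,
      pow_eq_one_of_mem_U K hu'U, one_mul]
  have hmy : m * y * m⁻¹ = y⁻¹ := by rw [hy, ← conj_pow, hinvu, inv_pow]
  have hmain : y⁻¹ * (v * t * v⁻¹) * y = m := by
    rw [ht']
    nth_rewrite 1 [← hy2]
    calc y⁻¹ * (y * y * m) * y = y * (m * y * m⁻¹) * m := by group
      _ = m := by rw [hmy, mul_inv_cancel, one_mul]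
  obtain ⟨g, hg, hgH⟩ := exists_conj_monomial_sq K (show m ∈ Q.amb.N from ⟨h, hh, w, rfl⟩) hmm hz
  have hcy : Commute y z := hcu'.pow_left _
  refine ⟨g * y⁻¹ * v, (((show Commute g z from hg).mul_left hcy.inv_left).mul_left hcv).eq, ?_⟩
  rw [show g * y⁻¹ * v * t * (g * y⁻¹ * v)⁻¹ = g * (y⁻¹ * (v * t * v⁻¹) * y) * g⁻¹ by group, hmain]
  exact hgH

/-- An element of two-power order becomes diagonal. -/
theorem conj_diag_two_pow : ∀ (k : ℕ) {x : ↥(chevE8.group (ZMod 3))}, x ^ 2 ^ k = 1 →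
    ∃ g, g * toK x * g⁻¹ ∈ HK := by
  intro k
  induction k with
  | zero =>
    intro x hx
    refine ⟨1, ?_⟩
    rw [pow_zero, pow_one] at hx
    rw [hx, map_one, one_mul, inv_one, mul_one]
    exact one_mem _
  | succ k ih =>
    intro x hx
    obtain ⟨g, hg⟩ := ih (x := x ^ 2) (by rw [← pow_mul, ← pow_succ']; exact hx)
    obtain ⟨g', -, hg'⟩ := exists_conj_sq Kbar (t := g * toK x * g⁻¹)
      (z := g * toK (x ^ 2) * g⁻¹) (by rw [map_pow, pow_two]; group) hg
    exact ⟨g' * g, by rwa [show g' * g * toK x * (g' * g)⁻¹ = g' * (g * toK x * g⁻¹) * g'⁻¹ by group]⟩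

end Cfsg.Agent.Chevalley.NoSub
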