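import Cfsg.Agent.Chevalley.NoSub.SquareRoot
import Mathlib.RingTheory.Polynomial.Cyclotomic.Roots
import Mathlib.LinearAlgebra.Matrix.Charpoly.Coeff

/-!
Conjugate elements of the diagonal subgroup differ by an element of the Weyl group, and no element
of the Weyl group of type E8 has an eigenvalue of order forty modulo forty-one.
-/

set_option autoImplicit false
set_option linter.style.haveILetI false
set_option linter.unusedSectionVars false
set_option maxRecDepth 100000
set_option maxHeartbeats 1000000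

namespace Cfsg.Agent.Chevalley.NoSub

open Cfsg.Lie Cfsg.Agent.H37 Cfsg.Agent.H37.RootSys Cfsg.Agent.Chevalley.Weights Polynomial

/-- An integral matrix of finite order has no eigenvalue of order forty modulo forty-one. -/
theorem no_eigen_forty {M : Matrix (Fin 8) (Fin 8) ℤ} {n : ℕ} (hn : 0 < n) (hM : M ^ n = 1)
    {v : Fin 8 → ZMod 41} (hv : v ≠ 0) {c : ZMod 41} (hc : orderOf c = 40)
    (he : Matrix.mulVec (M.map (Int.castRingHom (ZMod 41))) v = c • v) : False := by
  classical
  haveI : Fact (Nat.Prime 41) := ⟨by norm_num⟩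
  set f := Int.castRingHom ℚ
  set M' := M.map f with hM'
  set S := n.divisors.filter fun d => Nat.totient d ≤ 8 with hS
  set Q : ℤ[X] := ∏ d ∈ S, cyclotomic d ℤ with hQ
  have hQM : aeval M Q = 0 := by
    set B : ℚ[X] := ∏ d ∈ n.divisors.filter (fun d => ¬ Nat.totient d ≤ 8), cyclotomic d ℚ with hB
    have hsplit : Q.map f * B = Polynomial.X ^ n - 1 := by
      rw [hQ, Polynomial.map_prod, Finset.prod_congr rfl (fun d _ => map_cyclotomic d f), hB, hS,
        Finset.prod_filter_mul_prod_filter_not, prod_cyclotomic_eq_X_pow_sub_one hn]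
    have hcop : IsCoprime M'.charpoly B := by
      refine IsCoprime.prod_right fun d hd => ?_
      obtain ⟨hdn, hd8⟩ := Finset.mem_filter.1 hd
      refine ((cyclotomic.irreducible_rat (Nat.pos_of_mem_divisors hdn)).coprime_iff_not_dvd.2 fun h => hd8 ?_).symm
      have := Polynomial.natDegree_le_of_dvd h (Matrix.charpoly_monic M').ne_zero
      rwa [natDegree_cyclotomic, Matrix.charpoly_natDegree_eq_dim, Fintype.card_fin] at this
    obtain ⟨a, b, hab⟩ := hcop
    have h1 : aeval M' b * aeval M' B = 1 := by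
      have h := congrArg (aeval M') hab
      rwa [map_add, map_mul, map_mul, Matrix.aeval_self_charpoly, mul_zero, zero_add, map_one] at h
    have h0 : aeval M' (Q.map f) * aeval M' B = 0 := by
      rw [← map_mul, hsplit, map_sub, map_pow, aeval_X, map_one, hM',
        ← RingHom.mapMatrix_apply, ← map_pow, hM, map_one, sub_self]
    have hQ0 : aeval M' (Q.map f) = 0 := by
      calc aeval M' (Q.map f) = aeval M' (Q.map f) * (aeval M' b * aeval M' B) := by rw [h1, mul_one]
        _ = aeval M' (Q.map f * B) * aeval M' b := by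
          rw [← map_mul, ← map_mul, ← map_mul]
          exact congrArg (aeval M') (by ring)
        _ = 0 := by rw [map_mul, h0, zero_mul]
    refine Matrix.map_injective (f := (f : ℤ → ℚ)) Int.cast_injective ?_
    show f.mapMatrix (aeval M Q) = (0 : Matrix (Fin 8) (Fin 8) ℤ).map f
    rw [Matrix.map_zero _ f.map_zero, ← hQ0, hM', ← RingHom.mapMatrix_apply f M, show Q.map f = Q.map (algebraMap ℤ ℚ) from rfl, aeval_map_algebraMap]
    exact (Polynomial.aeval_algHom_apply f.mapMatrix.toIntAlgHom M Q).symm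
  set g := Int.castRingHom (ZMod 41)
  set M₁ := M.map g with hM₁
  have hQM1 : aeval M₁ Q = 0 := by
    rw [hM₁, show M.map g = g.mapMatrix.toIntAlgHom M from rfl, Polynomial.aeval_algHom_apply, hQM, map_zero]
  have hev : ∀ q : ℤ[X], Matrix.mulVec (aeval M₁ q) v = aeval c q • v := by
    intro q
    induction q using Polynomial.induction_on' with
    | add p q hp hq => rw [map_add, map_add, Matrix.add_mulVec, hp, hq, add_smul]
    | monomial k a =>
      rw [aeval_monomial, aeval_monomial, ← Matrix.mulVec_mulVec]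
      have hk : Matrix.mulVec (M₁ ^ k) v = c ^ k • v := by
        induction k with
        | zero => rw [pow_zero, pow_zero, Matrix.one_mulVec, one_smul]
        | succ k ih => rw [pow_succ', ← Matrix.mulVec_mulVec, ih, Matrix.mulVec_smul, he, smul_smul, pow_succ]
      rw [hk, Algebra.algebraMap_eq_smul_one, Matrix.smul_mulVec, Matrix.one_mulVec, mul_smul,
        ← algebraMap_smul (ZMod 41) a (c ^ k • v)]
  have hc0 : aeval c Q = 0 := by
    have h := hev Q
    rw [hQM1, Matrix.zero_mulVec] at h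
    exact (smul_eq_zero.1 h.symm).resolve_right hv
  rw [hQ, map_prod, Finset.prod_eq_zero_iff] at hc0
  obtain ⟨d, hd, hd0⟩ := hc0
  obtain ⟨hdn, hd8⟩ := Finset.mem_filter.1 hd
  have hd41 : ¬ 41 ∣ d := fun h => by
    have h1 := Nat.totient_dvd_of_dvd h
    rw [Nat.totient_prime (by norm_num : Nat.Prime 41)] at h1
    have := Nat.le_of_dvd (Nat.totient_pos.2 (Nat.pos_of_mem_divisors hdn)) h1
    omega
  haveI : NeZero (d : ZMod 41) := ⟨by rwa [Ne, ZMod.natCast_eq_zero_iff]⟩
  have hroot : IsPrimitiveRoot c d := by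
    rw [← isRoot_cyclotomic_iff, IsRoot.def, ← map_cyclotomic d g, eval_map]
    exact hd0
  have : d = 40 := hroot.eq_orderOf.trans hc
  subst this
  revert hd8
  decide +kernel

/-- Elements of the diagonal subgroup conjugate in the group are conjugate by a representative. -/
theorem exists_rep_conj {K : Type} [Field K] {h h' g : ↥(chevE8.group K)}
    (hh : h ∈ (H37.Chev.dataE8 K).sys.H) (hh' : h' ∈ (H37.Chev.dataE8 K).sys.H) (e : g * h = h' * g) :
    ∃ w, ∃ n ∈ (H37.Chev.dataE8 K).sys.H,
      (n * (H37.Chev.dataE8 K).sys.rep w) * h = h' * (n * (H37.Chev.dataE8 K).sys.rep w) := by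
  classical
  set Q := H37.Chev.dataE8 K
  obtain ⟨u, hu, k, hk, w, v, hv, eg⟩ := Q.amb.exists_eq g
  change u ∈ Q.sys.U at hu
  change k ∈ Q.sys.H at hk
  change v ∈ Q.sys.Uw w at hv
  change g = u * k * Q.sys.rep w * v at eg
  have hv' : h⁻¹ * v * h ∈ Q.sys.Uw w := by
    have := conj_mem_XS (fun r hr c => by
      obtain ⟨c', ec⟩ := Q.sys.h_conj _ (inv_mem hh) r (Sys.mem_flip.1 hr).1 c
      rw [ec]; exact x_mem_XS (S := (↑(Sys.flip Q.X.good w) : Set ℕ)) hr c') hv
    rw [inv_inv] at this
    exact this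
  have heq : u * (k * (Q.sys.rep w * h * (Q.sys.rep w)⁻¹)) * Q.sys.rep w * (h⁻¹ * v * h)
      = (h' * u * h'⁻¹) * (h' * k) * Q.sys.rep w * v := by
    calc _ = u * k * Q.sys.rep w * v * h := by group
      _ = h' * (u * k * Q.sys.rep w * v) := by rw [← eg, e]
      _ = _ := by group
  obtain ⟨-, -, e2, -⟩ := Q.amb.unique (w := w) (w' := w) hu (Q.sys.H_conj_U hh' hu)
    (mul_mem hk (Q.sys.rep_conj_H w hh)) (mul_mem hh' hk) hv' hv heq
  refine ⟨w, k, hk, ?_⟩
  calc k * Q.sys.rep w * h = k * (Q.sys.rep w * h * (Q.sys.rep w)⁻¹) * Q.sys.rep w := by group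
    _ = h' * (k * Q.sys.rep w) := by rw [e2, mul_assoc]

/-- The action on root indices is integral linear of finite order. -/
theorem exists_matrix {K : Type} [Field K] (w : (H37.Chev.dataE8 K).X.M.Group) :
    ∃ M : Matrix (Fin 8) (Fin 8) ℤ, ∀ s, s < 240 → ∀ j : Fin 8,
      E8.cert.cf (actK K w s) j.val = ∑ i : Fin 8, E8.cert.cf s i.val * M i j := by
  refine Sys.gen_induction (p := fun w => ∃ M : Matrix (Fin 8) (Fin 8) ℤ, ∀ s, s < 240 → ∀ j : Fin 8,
    E8.cert.cf (actK K w s) j.val = ∑ i : Fin 8, E8.cert.cf s i.val * M i j) ?_ ?_ w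
  · refine ⟨1, fun s hs j => ?_⟩
    rw [show actK K 1 s = s from act_one s, Finset.sum_eq_single j (fun i _ hij => by
      rw [Matrix.one_apply_ne hij, mul_zero]) (fun h => absurd (Finset.mem_univ j) h), Matrix.one_apply_eq,
      mul_one]
  · rintro i w ⟨M, hM⟩
    let i' : Fin 8 := ⟨i.val, i.isLt⟩
    let R : Matrix (Fin 8) (Fin 8) ℤ := fun a j => (if a = j then 1 else 0) -
      if j = i' then chevE8.cartan i.val (chevE8.simple a.val) else 0
    refine ⟨M * R, fun s hs j => ?_⟩
    have hlt : actK K w s < 240 := act_lt w hs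
    have e6 : actK K ((H37.Chev.dataE8 K).X.M.simple i * w) s = E8.cert.w i (actK K w s) := by
      show act (H37.Chev.dataE8 K).X.good _ s = _
      rw [act_mul _ _ (show s < chevE8.nroots from hs), act_simple i hlt]
      exact sigma_eq_w (H37.Chev.dataE8 K).X.good E8.cert i.isLt hlt
    have hi : i.val < chevE8.rank := i.isLt
    rw [e6, E8.cert.cf_w i.val hi _ hlt j.val j.isLt]
    have hlin := E8.cert.cartan_lin i.val hi _ hlt
    rw [Cfsg.Agent.Chevalley.list_sum_range_map, Finset.sum_range] at hlin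
    calc E8.cert.cf (actK K w s) j.val - (if j.val = i.val then chevE8.cartan i.val (actK K w s) else 0)
        = ∑ a : Fin 8, E8.cert.cf (actK K w s) a.val * R a j := by
          simp only [R, mul_sub, Finset.sum_sub_distrib, mul_ite, mul_one, mul_zero, Finset.sum_ite_eq',
            Finset.mem_univ, if_true]
          congr 1
          by_cases hji : j = i'
          · rw [if_pos (congrArg Fin.val hji), hlin]
            exact Finset.sum_congr rfl fun a _ => by rw [if_pos hji]
          · rw [if_neg (fun h => hji (Fin.ext h))]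
            exact (Finset.sum_eq_zero fun a _ => if_neg hji).symm
      _ = _ := by
          simp only [Matrix.mul_apply, hM s hs, Finset.mul_sum, Finset.sum_mul]
          rw [Finset.sum_comm]
          exact Finset.sum_congr rfl fun a _ => Finset.sum_congr rfl fun b _ => by ring

theorem matrix_finite_order {K : Type} [Field K] (w : (H37.Chev.dataE8 K).X.M.Group)
    {M : Matrix (Fin 8) (Fin 8) ℤ} (hM : ∀ s, s < 240 → ∀ j : Fin 8,
      E8.cert.cf (actK K w s) j.val = ∑ i : Fin 8, E8.cert.cf s i.val * M i j) :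
    ∃ n, 0 < n ∧ M ^ n = 1 := by
  have hinj : Function.Injective fun s : Fin 240 => (⟨actK K w s.val, act_lt w s.isLt⟩ : Fin 240) := by
    intro a b h
    have h' : actK K w a.val = actK K w b.val := congrArg Fin.val h
    refine Fin.ext ?_
    have := congrArg (actK K w⁻¹) h'
    simp only [actK] at this
    rwa [← act_mul _ _ a.isLt, ← act_mul _ _ b.isLt, inv_mul_cancel, act_one, act_one] at this
  let σ : Equiv.Perm (Fin 240) := Equiv.ofBijective _ (Finite.injective_iff_bijective.1 hinj)
  refine ⟨orderOf σ, orderOf_pos σ, ?_⟩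
  have hk : ∀ k : ℕ, ∀ s : Fin 240, ∀ j : Fin 8,
      E8.cert.cf ((σ ^ k) s).val j.val = ∑ i : Fin 8, E8.cert.cf s.val i.val * (M ^ k) i j := by
    intro k
    induction k with
    | zero =>
      intro s j
      rw [pow_zero, pow_zero, Equiv.Perm.one_apply, Finset.sum_eq_single j (fun i _ hij => by
        rw [Matrix.one_apply_ne hij, mul_zero]) (fun h => absurd (Finset.mem_univ j) h), Matrix.one_apply_eq,
        mul_one]
    | succ k ih =>
      intro s j
      rw [pow_succ' σ, Equiv.Perm.mul_apply, show ((σ ((σ ^ k) s)).val) = actK K w ((σ ^ k) s).val from rfl,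
        hM _ ((σ ^ k) s).isLt, pow_succ M]
      simp only [Matrix.mul_apply, ih, Finset.mul_sum, Finset.sum_mul]
      rw [Finset.sum_comm]
      exact Finset.sum_congr rfl fun a _ => Finset.sum_congr rfl fun b _ => by ring
  have hsimple : ∀ i j : Fin 8, E8.cert.cf (chevE8.simple i.val) j.val = if i = j then 1 else 0 := by
    decide +kernel
  ext i j
  have h := hk (orderOf σ) ⟨chevE8.simple i.val, (E8.cert.simple_lt i.val i.isLt).1⟩ j
  rw [pow_orderOf_eq_one, Equiv.Perm.one_apply] at h
  simp only [hsimple, ite_mul, one_mul, zero_mul, Finset.sum_ite_eq, Finset.mem_univ, if_true] at h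
  rw [← h, Matrix.one_apply]

theorem seven_six : (7 : ZMod 41) * 6 = 1 := by decide +kernel

theorem seven_order : (7 : ZMod 41) ^ 40 = 1 ∧ ∀ m, m < 40 → 0 < m → (7 : ZMod 41) ^ m ≠ 1 := by
  decide +kernel

/-- No element of order forty-one of the diagonal subgroup is conjugate to its sixth power. -/
theorem no_conj_six {K : Type} [Field K] {g z : ↥(chevE8.group K)} (hz : z ∈ (H37.Chev.dataE8 K).sys.H)
    (hz41 : z ^ 41 = 1) (hz1 : z ≠ 1) (e : g * z = z ^ 6 * g) : False := by
  classical
  haveI : Fact (Nat.Prime 41) := ⟨by norm_num⟩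
  obtain ⟨c, hc⟩ := (mem_H_iff K).1 hz
  obtain ⟨w, n, hn, hw⟩ := exists_rep_conj hz (pow_mem hz 6) e
  obtain ⟨hlin⟩ : Nonempty (∀ r, r < 240 → ∃ b : Kˣ, ∀ t : K,
      (n * (H37.Chev.dataE8 K).sys.rep w) * X K r t * (n * (H37.Chev.dataE8 K).sys.rep w)⁻¹ =
        X K (actK K w r) ((b : K) * t)) := ⟨fun r hr => by
    obtain ⟨b, hb⟩ := lin_rep K w r hr
    obtain ⟨a, ha⟩ := (mem_H_iff K).1 hn
    refine ⟨rootVal K a (actK K w r) * b, fun t => ?_⟩
    rw [mul_inv_rev, show n * (H37.Chev.dataE8 K).sys.rep w * X K r t * (((H37.Chev.dataE8 K).sys.rep w)⁻¹ * n⁻¹)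
      = n * ((H37.Chev.dataE8 K).sys.rep w * X K r t * ((H37.Chev.dataE8 K).sys.rep w)⁻¹) * n⁻¹ by group,
      hb, torus_conj K ha (act_lt w hr)]
    push_cast
    rw [mul_assoc]⟩
  have hX : ∀ {r : ℕ}, r < 240 → ∀ {t u : K}, X K r t = X K r u → t = u := by
    intro r hr t u h
    have h3 : X K r (t - u) = 1 := by
      rw [sub_eq_add_neg, ← X_add, h, X_add, add_neg_cancel]
      exact Subtype.ext (E8.cert.xU_zero K _)
    exact sub_eq_zero.1 ((E8.cert.xU_eq_one_iff K hr _).1 (congrArg Subtype.val h3))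
  have hpow : ∀ (j : ℕ) {r : ℕ}, r < 240 → ∀ t, z ^ j * X K r t * (z ^ j)⁻¹ =
      X K r (((rootVal K c r ^ j : Kˣ) : K) * t) := by
    intro j r hr
    induction j with
    | zero => simp
    | succ j ih =>
      intro t
      rw [pow_succ' z, show z * z ^ j * X K r t * (z * z ^ j)⁻¹
        = z * (z ^ j * X K r t * (z ^ j)⁻¹) * z⁻¹ by group, ih, torus_conj K hc hr, pow_succ',
        Units.val_mul, mul_assoc]
  have hrel : ∀ r, r < 240 → rootVal K c r = rootVal K c (actK K w r) ^ 6 := by
    intro r hr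
    obtain ⟨b, hb⟩ := hlin r hr
    have h1 : (n * (H37.Chev.dataE8 K).sys.rep w) * (z * X K r 1 * z⁻¹) * (n * (H37.Chev.dataE8 K).sys.rep w)⁻¹
        = z ^ 6 * ((n * (H37.Chev.dataE8 K).sys.rep w) * X K r 1 * (n * (H37.Chev.dataE8 K).sys.rep w)⁻¹) *
          (z ^ 6)⁻¹ := by
      rw [show (n * (H37.Chev.dataE8 K).sys.rep w) * (z * X K r 1 * z⁻¹) * (n * (H37.Chev.dataE8 K).sys.rep w)⁻¹
        = ((n * (H37.Chev.dataE8 K).sys.rep w) * z) * X K r 1 * ((n * (H37.Chev.dataE8 K).sys.rep w) * z)⁻¹
        by group, hw]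
      group
    rw [torus_conj K hc hr, hb, hb, hpow 6 (act_lt w hr)] at h1
    have h2 := hX (act_lt w hr) h1
    rw [mul_one, mul_one, mul_comm] at h2
    exact Units.ext (mul_right_cancel₀ b.ne_zero h2)
  have h41 : ∀ r, r < 240 → rootVal K c r ^ 41 = 1 := by
    intro r hr
    have h := hpow 41 hr 1
    rw [hz41, one_mul, inv_one, mul_one, mul_one] at h
    exact Units.ext (hX hr h).symm
  obtain ⟨r₀, hr₀, hne⟩ : ∃ r, r < 240 ∧ rootVal K c r ≠ 1 := by
    by_contra hall
    push Not at hall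
    refine hz1 (Subtype.ext (hc.symm.trans (Units.ext ?_)))
    show Matrix.diagonal _ = _
    rw [OneMemClass.coe_one, Units.val_one, ← Matrix.diagonal_one]
    refine congrArg Matrix.diagonal (funext ?_)
    rintro (a | s)
    · simp [pe]
    · show ((rootVal K c s.val : Kˣ) : K) = 1
      rw [hall _ s.isLt, Units.val_one]
  set ζ := rootVal K c r₀ with hζ
  have hord : orderOf ζ = 41 := orderOf_eq_prime (h41 r₀ hr₀) hne
  have hexp : ∀ j : Fin 8, ∃ a : ℕ, rootVal K c (chevE8.simple j.val) = ζ ^ a := by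
    intro j
    have hp : IsPrimitiveRoot ((ζ : Kˣ) : K) 41 := IsPrimitiveRoot.coe_units_iff.2 (hord ▸ IsPrimitiveRoot.orderOf ζ)
    obtain ⟨a, -, ha⟩ := hp.eq_pow_of_pow_eq_one (ξ := ((rootVal K c (chevE8.simple j.val) : Kˣ) : K))
      (by rw [← Units.val_pow_eq_pow_val, h41 _ (E8.cert.simple_lt j.val j.isLt).1, Units.val_one])
    exact ⟨a, Units.ext (by rw [Units.val_pow_eq_pow_val, ha])⟩
  choose a ha using hexp
  set ev : ℕ → ℤ := fun r => ∑ j : Fin 8, E8.cert.cf r j.val * (a j : ℤ) with hev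
  have hval : ∀ r, r < 240 → rootVal K c r = ζ ^ ev r := by
    intro r hr
    have hsum : ∀ (S : Finset (Fin 8)) (f : Fin 8 → ℤ), ζ ^ (∑ j ∈ S, f j) = ∏ j ∈ S, ζ ^ f j := by
      intro S f
      induction S using Finset.induction with
      | empty => simp
      | insert x S hx ih => rw [Finset.sum_insert hx, Finset.prod_insert hx, zpow_add, ih]
    rw [rootVal_lin c hr, hev, hsum]
    refine Finset.prod_congr rfl fun j _ => ?_
    rw [ha, ← zpow_natCast, ← zpow_mul, mul_comm]
  obtain ⟨M, hM⟩ := exists_matrix w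
  obtain ⟨N, hN, hMN⟩ := matrix_finite_order w hM
  set v : Fin 8 → ZMod 41 := fun j => (a j : ZMod 41) with hv
  set M₁ := M.map (Int.castRingHom (ZMod 41))
  have hev' : ∀ r, r < 240 → (ev r : ZMod 41) = 6 * (ev (actK K w r) : ZMod 41) := by
    intro r hr
    have h := hrel r hr
    rw [hval r hr, hval _ (act_lt w hr), ← zpow_natCast, ← zpow_mul,
      ← orderOf_dvd_sub_iff_zpow_eq_zpow, hord] at h
    have h0 : ((ev r - ev (actK K w r) * ((6 : ℕ) : ℤ) : ℤ) : ZMod 41) = 0 :=
      (ZMod.intCast_zmod_eq_zero_iff_dvd _ 41).2 h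
    push_cast at h0
    linear_combination h0
  have hsimple : ∀ i j : Fin 8, E8.cert.cf (chevE8.simple i.val) j.val = if i = j then 1 else 0 := by
    decide +kernel
  have hMv : ∀ r, r < 240 → (ev (actK K w r) : ZMod 41) =
      ∑ i : Fin 8, (E8.cert.cf r i.val : ZMod 41) * Matrix.mulVec M₁ v i := by
    intro r hr
    simp only [hev, hM r hr, Int.cast_sum, Int.cast_mul, Int.cast_natCast, Finset.sum_mul,
      Matrix.mulVec, dotProduct, M₁, Matrix.map_apply, Finset.mul_sum, hv, Int.coe_castRingHom]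
    rw [Finset.sum_comm]
    exact Finset.sum_congr rfl fun i _ => Finset.sum_congr rfl fun j _ => by ring
  have heig : Matrix.mulVec M₁ v = (7 : ZMod 41) • v := by
    funext i
    have hs := (E8.cert.simple_lt i.val i.isLt).1
    have e1 := hev' _ hs
    rw [hMv _ hs, show (ev (chevE8.simple i.val) : ZMod 41) = v i by simp [hev, hv, hsimple]] at e1
    simp only [hsimple, Int.cast_ite, Int.cast_one, Int.cast_zero, ite_mul, one_mul, zero_mul,
      Finset.sum_ite_eq, Finset.mem_univ, if_true] at e1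
    have h42 : (7 : ZMod 41) * 6 = 1 := seven_six
    rw [Pi.smul_apply, smul_eq_mul, e1, ← mul_assoc, h42, one_mul]
  refine no_eigen_forty hN hMN (v := v) ?_ ?_ heig
  · intro h0
    refine hne ?_
    rw [hζ, hval r₀ hr₀]
    have h1 : ((ev r₀ : ℤ) : ZMod 41) = 0 := by
      have hj : ∀ j, (a j : ZMod 41) = 0 := fun j => congrFun h0 j
      simp [hev, hj]
    rw [← orderOf_dvd_iff_zpow_eq_one, hord]
    exact (ZMod.intCast_zmod_eq_zero_iff_dvd _ 41).1 h1
  · exact (orderOf_eq_iff (by norm_num)).2 seven_order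

end Cfsg.Agent.Chevalley.NoSub
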