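import Cfsg.Agent.Chevalley.TwTorus.Cases
import Cfsg.Agent.Chevalley.RankOne
import Cfsg.Agent.H37.Chev.All

/-!
A nontrivial involution of the Weyl group of type E8 negates a root; orthogonal roots commute.
-/

set_option autoImplicit false
set_option linter.style.haveILetI false
set_option linter.unusedSectionVars false
set_option maxRecDepth 100000
set_option maxHeartbeats 1000000

namespace Cfsg.Agent.Chevalley.NoSub

open Cfsg.Lie Cfsg.Agent.H37 Cfsg.Agent.H37.RootSys Cfsg.Agent.Chevalley.Weights

/-- The Weyl group of type E8. -/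
abbrev W8 : Type := H37.Chev.typeE8.M.Group

/-- Its action on root indices. -/
noncomputable abbrev act8 (w : W8) (s : ℕ) : ℕ := act H37.Chev.typeE8.good w s

/-- A base nine code of the row of Cartan integers of a root. -/
def code9 (s : ℕ) : ℤ := (List.range 8).foldr (fun j a => chevE8.cartan j s + 9 * a) 0

/-- The values of `code9`. -/
def code9Tab : List ℤ := [-4782969, 4251528, 472392, 52488, 5832, 639, 71, -72, -640, -5833, -52489, -472393, -4251529, 4782968, -8, -719, -5912, -52568, -472472, -4251608, 4782889, -6480, -53136, -473040, -4252176, 4782321, -58329, -478233, -4257369, 4777128, -524889, -4304025, 4730472, -4723929, 4310568, 531432, -59040, -478944, -4258080, 4776417, -525600, -4304736, 4729761, -4724640, 4309857, 530721, -530793, -4309929, 4724568, -4729833, 4304664, 525528, -4776489, 4258008, 478872, 58968, -531361, -4310497, 4724000, -4730401, 4304096, 524960, -4777057, 4257440, 478304, 58400, -4782250, 4252247, 473111, 53207, 6551, -4782961, 4251536, 472400, 52496, 5840, 647, 79, -531440, -4310576, 4723921,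 -4730480, 4304017, 524881, -4777136, 4257361, 478225, 58321, -4782329, 4252168, 473032, 53128, 6472, -4782897, 4251600, 472464, 52560, 5904, 711, -4783040, 4251457, 472321, 52417, 5761, 568, -4783608, 4250889, 471753, 51849, 5193, -4788801, 4245696, 466560, 46656, -4835457, 4199040, 419904, -5255361, 3779136, -9034497, 9034497, -3779136, 5255361, -419904, -4199040, 4835457, -46656, -466560, -4245696, 4788801, -5193, -51849, -471753, -4250889, 4783608, -568, -5761, -52417, -472321, -4251457, 4783040, -711, -5904, -52560, -472464, -4251600, 4782897, -6472, -53128, -473032, -4252168, 4782329, -58321, -478225, -4257361, 4777136, -524881, -4304017, 4730480, -4723921, 4310576, 531440, -79, -647, -5840, -52496, -472400, -4251536, 4782961, -6551, -53207, -473111, -4252247, 4782250, -58400, -478304, -4257440, 4777057, -524960, -4304096, 4730401, -4724000, 4310497, 531361, -58968, -478872, -4258008, 4776489, -525528, -4304664, 4729833, -4724568, 4309929, 530793, -530721, -4309857, 4724640, -4729761, 4304736, 525600, -4776417, 4258080, 478944,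 59040, -531432, -4310568, 4723929, -4730472, 4304025, 524889, -4777128, 4257369, 478233, 58329, -4782321, 4252176, 473040, 53136, 6480, -4782889, 4251608, 472472, 52568, 5912, 719, 8, -4782968, 4251529, 472393, 52489, 5833, 640, 72, -71, -639, -5832, -52488, -472392, -4251528, 4782969]

/-- No repetition, as a Boolean. -/
def distinctB : List ℤ → Bool
  | [] => true
  | a :: l => (l.all fun b => b != a) && distinctB l

theorem nodup_of_distinctB : ∀ l : List ℤ, distinctB l = true → l.Nodup
  | [], _ => List.nodup_nil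
  | a :: l, h => by
    simp only [distinctB, Bool.and_eq_true, List.all_eq_true, bne_iff_ne] at h
    exact List.nodup_cons.2 ⟨fun ha => h.1 a ha rfl, nodup_of_distinctB l h.2⟩

theorem code9_tab : ((List.range 240).map code9 == code9Tab) = true := by decide +kernel

theorem code9_nodup : distinctB code9Tab = true := by decide +kernel

theorem key9 (s s' : Fin 240)
    (e : (∑ j : Fin 8, (9 : ℤ) ^ j.val * chevE8.cartan j.val s.val) =
      (∑ j : Fin 8, (9 : ℤ) ^ j.val * chevE8.cartan j.val s'.val)) : s = s' := by
  have hc : ∀ t, code9 t = ∑ j : Fin 8, (9 : ℤ) ^ j.val * chevE8.cartan j.val t := fun t => by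
    simp [code9, List.range_succ_eq_map, Fin.sum_univ_succ]
    ring
  have h : ((List.range 240).map code9).Nodup :=
    (beq_iff_eq.1 code9_tab) ▸ nodup_of_distinctB _ code9_nodup
  refine Fin.ext (List.inj_on_of_nodup_map h (List.mem_range.2 s.2) (List.mem_range.2 s'.2) ?_)
  rw [hc, hc, e]

/-- A nontrivial involution of the Weyl group negates a root. -/
theorem exists_neg_root {w : W8} (h2 : w * w = 1) (h1 : w ≠ 1) :
    ∃ s, s < 240 ∧ act8 w s = chevE8.neg s := by
  classical
  by_contra hc
  push Not at hc
  haveI : Fact (Nat.Prime 3) := ⟨Nat.prime_three⟩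
  let Q₀ := H37.Chev.dataE8 (ZMod 3)
  have hA : (TwTorus.cartanT Q₀).det ≠ 0 := by
    have := TwTorus.natAbs_cartanT Q₀ cartanE8 (fun i j => of_decide_eq_true ((show ∀ i j : Fin 8,
        decide (cartanE8 i j = chevE8.cartan i.val (chevE8.simple j.val)) = true by
          decide +kernel) i j)) (TwTorus.natAbs_det_of_cert kerCertE8)
    intro h
    rw [h] at this
    simp at this
  let x : Fin Q₀.X.n → ℤ := fun j => 9 ^ j.val
  let v : Fin Q₀.X.n → ℤ := fun j => x j + (TwTorus.wmat Q₀ w).mulVec x j
  have hwinv : w⁻¹ = w := inv_eq_of_mul_eq_one_right h2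
  have hf : ∀ s, TwTorus.pr 8 chevE8 s x = ∑ j : Fin 8, (9 : ℤ) ^ j.val * chevE8.cartan j.val s :=
    fun s => rfl
  have hv : ∀ s, s < 240 → TwTorus.pr 8 chevE8 s v
      = TwTorus.pr 8 chevE8 s x + TwTorus.pr 8 chevE8 (act8 w s) x := by
    intro s hs
    have h : TwTorus.pr 8 chevE8 s ((TwTorus.wmat Q₀ w).mulVec x)
        = TwTorus.pr 8 chevE8 (act8 w⁻¹ s) x := TwTorus.pr_wmat Q₀ w hs x
    rw [hwinv] at h
    have e : TwTorus.pr 8 chevE8 s v
        = TwTorus.pr 8 chevE8 s x + TwTorus.pr 8 chevE8 s ((TwTorus.wmat Q₀ w).mulVec x) := by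
      simp only [TwTorus.pr, ← Finset.sum_add_distrib]
      exact Finset.sum_congr rfl fun j _ => add_mul _ _ _
    rw [e]
    exact congrArg _ h
  have hne : ∀ s, s < 240 → TwTorus.pr 8 chevE8 s v ≠ 0 := by
    intro s hs h0
    rw [hv s hs] at h0
    have hlt : act8 w s < 240 := act_lt w hs
    have hn : chevE8.neg s < 240 := E8.cert.neg_lt hs
    refine hc s hs (congrArg Fin.val (key9 ⟨act8 w s, hlt⟩ ⟨chevE8.neg s, hn⟩ ?_))
    rw [← hf, ← hf]
    have e : TwTorus.pr 8 chevE8 (chevE8.neg s) x = - TwTorus.pr 8 chevE8 s x := by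
      simp only [TwTorus.pr, ← Finset.sum_neg_distrib]
      refine Finset.sum_congr rfl fun j _ => ?_
      rw [E8.cert.cartan_neg_root j.isLt hs, mul_neg]
    show TwTorus.pr 8 chevE8 (act8 w s) x = TwTorus.pr 8 chevE8 (chevE8.neg s) x
    rw [e]
    omega
  haveI := H37.Chev.typeE8.good.finite
  obtain ⟨r, hr1, hr2⟩ := Nat.exists_infinite_primes
    (Nat.card W8 + (Finset.range 240).sup (fun s => (TwTorus.pr 8 chevE8 s v).natAbs) + 1)
  haveI : Fact r.Prime := ⟨hr2⟩
  refine h1 (TwTorus.stab_eq_one Q₀
    (by have h := H37.Chev.diag_E8 (ZMod 3); rw [one_mul] at h; exact h) hA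
    (r := r) (b := v) (w := w) (fun h => ?_) (fun s hs h => ?_) fun j => ?_)
  · have : r ≤ Nat.card W8 := Nat.le_of_dvd Nat.card_pos h
    omega
  · have hle := Finset.le_sup (f := fun s => (TwTorus.pr 8 chevE8 s v).natAbs)
      (Finset.mem_range.2 (show s < 240 from hs))
    have h' := Int.natCast_dvd.1 h
    have : r ≤ (TwTorus.pr 8 chevE8 s v).natAbs :=
      Nat.le_of_dvd (Int.natAbs_pos.2 (hne s hs)) h'
    omega
  · have hfix : (TwTorus.wmat Q₀ w).mulVec v = v := by
      show (TwTorus.wmat Q₀ w).mulVec (x + (TwTorus.wmat Q₀ w).mulVec x)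
        = x + (TwTorus.wmat Q₀ w).mulVec x
      have hsq : TwTorus.wmat Q₀ w * TwTorus.wmat Q₀ w = 1 :=
        (TwTorus.wmat_mul Q₀ hA w w).symm.trans
          ((congrArg (TwTorus.wmat Q₀) h2).trans (TwTorus.wmat_one Q₀ hA))
      rw [Matrix.mulVec_add, Matrix.mulVec_mulVec, hsq, Matrix.one_mulVec, add_comm]
    show (r : ℤ) ∣ (TwTorus.wmat Q₀ w).mulVec v j - v j
    rw [hfix, sub_self]
    exact dvd_zero _

theorem pairing_neg_left : ∀ r : Fin 240, ∀ m : Fin 8,
    cor chevE8 (chevE8.neg r.val) m.val = - cor chevE8 r.val m.val := by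
  have h : (List.finRange 240).all (fun r : Fin 240 => (List.finRange 8).all fun m : Fin 8 =>
      cor chevE8 (chevE8.neg r.val) m.val == - cor chevE8 r.val m.val) = true := by decide +kernel
  intro r m
  simp only [List.all_eq_true, beq_iff_eq] at h
  exact h r (List.mem_finRange r) m (List.mem_finRange m)

theorem chain_simple : (List.range 8).all (fun i =>
    ((chevE8.chain.getD (chevE8.simple i) #[]).toList).all fun e =>
      chevE8.cartan i e.1 != 0 && pairingSum chevE8 e.1 (chevE8.simple i) != 0) = true := by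
  decide +kernel

theorem chainEntry_nil {r s : ℕ} (hr : r < 240) (hs : s < 240)
    (h : pairingSum chevE8 r s = 0 ∨ pairingSum chevE8 s r = 0) :
    ∀ k, chevE8.chainRoot r s k = none := by
  have main : ∀ r, r < 240 → ∀ s, s < 240 → ∀ k u, chevE8.chainRoot r s k = some u →
      pairingSum chevE8 r s ≠ 0 ∧ pairingSum chevE8 s r ≠ 0 := by
    refine E8.cert.root_induction (P := fun r => ∀ s, s < 240 → ∀ k u,
      chevE8.chainRoot r s k = some u → pairingSum chevE8 r s ≠ 0 ∧ pairingSum chevE8 s r ≠ 0) ?_ ?_
    · intro i hi s hs k u hu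
      simp only [ChevalleyDatum.chainRoot, ChevalleyDatum.chainEntry] at hu
      cases hf : (chevE8.chain.getD (chevE8.simple i) #[]).toList.find? fun e => e.1 = s with
      | none =>
        rw [hf] at hu
        simp at hu
      | some e =>
        have hmem := List.mem_of_find?_eq_some hf
        have he : e.1 = s := by simpa using List.find?_some hf
        have h0 := chain_simple
        simp only [List.all_eq_true, List.mem_range, Bool.and_eq_true, bne_iff_ne] at h0
        have := h0 i hi e hmem
        rw [he, ← E8.cert.pairing_simple hi] at this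
        exact this
    · intro i hi r hr ih s hs k u hu
      have hr' := (E8.cert.w_lt i hi r hr).1
      have hs' := (E8.cert.w_lt i hi s hs).1
      have hu' : chevE8.chainRoot r (E8.cert.w i s) k = some (E8.cert.w i u) := by
        have := E8.cert.chainRoot_w hi hr' hs k
        rwa [(E8.cert.w_lt i hi r hr).2, hu, Option.map_some] at this
      obtain ⟨h1, h2⟩ := ih _ hs' k _ hu'
      refine ⟨by rwa [E8.cert.pairing_w hi hr hs], ?_⟩
      have := E8.cert.pairing_w hi hs hr
      rwa [← this]
  intro k
  by_contra hne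
  obtain ⟨u, hu⟩ := Option.ne_none_iff_exists'.1 hne
  obtain ⟨h1, h2⟩ := main r hr s hs k u hu
  exact h.elim h1 h2

theorem commTerms_nil {r s : ℕ} (hr : r < 240) (hs : s < 240) (h : pairingSum chevE8 r s = 0) :
    chevE8.commTerms r s = [] := by
  have h1 := chainEntry_nil hr hs (Or.inl h)
  have h2 := chainEntry_nil hs hr (Or.inr h)
  simp [ChevalleyDatum.commTerms, h1, h2]

end Cfsg.Agent.Chevalley.NoSub
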